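import Cfsg.Agent.Lib.MinIndexUnitary.Sizes

/-!
# Minimal index in unitary groups: isotropic vectors of the standard space, transitivity, generation
-/

set_option autoImplicit false
set_option linter.unusedSectionVars false

namespace Cfsg.Agent.Lib.MinIndexUnitary

open Cfsg.Agent.Lib.Classical Cfsg.Agent.Lib.MinDegree

variable {F : Type*} [Field F] [Fintype F] {q : ℕ} (hF : Fintype.card F = q ^ 2) {m : ℕ}

local notation "σ" => Forms.qPowHom hF
local notation "V" => (Fin m → F)
local notation "E" => (F × F × (Fin m → F))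
local notation "hV" => hermSpace_std hF m
local notation "B" => Cfsg.hermForm m F q

/-- A vector with two non-zero coordinates. -/
def twoVec (i j : Fin m) (α : F) : Fin m → F := Pi.single i 1 + Pi.single j α

include hF

theorem herm_single (w : V) (i : Fin m) (a : F) : B w (Pi.single i a) = σ a * w i := by
  classical
  have hq : q ≠ 0 := by have := two_le_q hF; omega
  simp only [Cfsg.hermForm, Pi.single_apply, ite_pow, zero_pow hq, mul_ite, mul_zero,
    Finset.sum_ite_eq', Finset.mem_univ, if_true, Forms.qPowHom_apply]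
  ring

theorem herm_twoVec (w : V) (i j : Fin m) (α : F) : B w (twoVec i j α) = w i + σ α * w j := by
  rw [twoVec, (hermSpace_std hF m).add_right, herm_single hF, herm_single hF, map_one, one_mul]

theorem twoVec_self {i j : Fin m} (hij : i ≠ j) {α : F} (hα : α * σ α = -1) :
    B (twoVec i j α) (twoVec i j α) = 0 := by
  rw [herm_twoVec hF]
  simp only [twoVec, Pi.add_apply, Pi.single_eq_same, Pi.single_eq_of_ne hij, Pi.single_eq_of_ne hij.symm,
    add_zero, zero_add]
  linear_combination hα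

theorem exists_two_norms : ∃ α β : F, α ≠ β ∧ α * σ α = -1 ∧ β * σ β = -1 := by
  have h := norm_fibre hF (c := (-1 : F)) (neg_ne_zero.2 one_ne_zero) (by rw [map_neg, map_one])
  classical
  have := two_le_q hF
  rw [Nat.card_eq_fintype_card] at h
  obtain ⟨a, b, hab⟩ := Fintype.exists_pair_of_one_lt_card
    (α := {x : F // x * σ x = -1}) (by omega)
  exact ⟨a, b, fun e => hab (Subtype.ext e), a.2, b.2⟩

/-- An isotropic vector on two coordinates pairing with a given vector. -/
theorem exists_iso_pair {i j : Fin m} (_hij : i ≠ j) {w : V} (hw : w i ≠ 0) :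
    ∃ α : F, α * σ α = -1 ∧ B w (twoVec i j α) ≠ 0 := by
  obtain ⟨α, β, hne, hα, hβ⟩ := exists_two_norms hF
  by_contra hall
  push Not at hall
  have h1 := hall α hα
  have h2 := hall β hβ
  rw [herm_twoVec hF] at h1 h2
  have h3 : (σ α - σ β) * w j = 0 := by linear_combination h1 - h2
  rcases mul_eq_zero.1 h3 with e | e
  · exact hne ((Forms.qPowHom hF).injective (sub_eq_zero.1 e))
  · rw [e, mul_zero, add_zero] at h1; exact hw h1

/-- An isotropic vector pairing with a given vector, with support in a set of two or more coordinates. -/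
theorem exists_iso_in {S : Finset (Fin m)} (hS : 2 ≤ S.card) {w : V} (hw : w ≠ 0) (hsupp : ∀ i, i ∉ S → w i = 0) :
    ∃ x : V, B x x = 0 ∧ B w x ≠ 0 ∧ ∀ i, i ∉ S → x i = 0 := by
  classical
  obtain ⟨i, hi⟩ : ∃ i, w i ≠ 0 := Function.ne_iff.1 hw
  have hiS : i ∈ S := by_contra fun hni => hi (hsupp i hni)
  obtain ⟨j, hjS, hji⟩ := Finset.exists_mem_ne (by omega : 1 < S.card) i
  obtain ⟨α, hα, hne⟩ := exists_iso_pair hF hji.symm hi
  refine ⟨_, twoVec_self hF hji.symm hα, hne, fun k hk => ?_⟩
  simp [twoVec, Pi.single_eq_of_ne (show k ≠ i from fun e => hk (e ▸ hiS)),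
    Pi.single_eq_of_ne (show k ≠ j from fun e => hk (e ▸ hjS))]

/-- Every vector of a coordinate subspace is a sum of two isotropic ones there. -/
theorem exists_iso_split {S : Finset (Fin m)} (hS : 2 ≤ S.card) (w : V) (hsupp : ∀ i, i ∉ S → w i = 0) :
    ∃ x y : V, w = x + y ∧ B x x = 0 ∧ B y y = 0 ∧ (∀ i, i ∉ S → x i = 0) ∧ ∀ i, i ∉ S → y i = 0 := by
  have h := hermSpace_std hF m
  by_cases hw : w = 0
  · exact ⟨0, 0, by simp [hw], h.zero_left 0, h.zero_left 0, fun _ _ => rfl, fun _ _ => rfl⟩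
  obtain ⟨x, hx, hne, hxS⟩ := exists_iso_in hF hS hw hsupp
  obtain ⟨t, ht⟩ := h.exists_trace (B w w) (h.symm _ _)
  set s := σ (t / B w x) with hs
  refine ⟨s • x, w - s • x, by abel, by rw [h.smul_left, h.smul_right, hx]; ring, ?_,
    fun i hi => by simp [hxS i hi], fun i hi => by simp [hxS i hi, hsupp i hi]⟩
  have hs1 : σ s * B w x = t := by rw [hs, h.invol, div_mul_cancel₀ _ hne]
  have hs2 : s * B x w = σ t := by
    rw [← h.symm w x, hs, ← map_mul, div_mul_cancel₀ _ hne]
  rw [h.sub_left, h.sub_right, h.sub_right, h.smul_left, h.smul_left, h.smul_right, h.smul_right, hx]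
  linear_combination -hs1 - hs2 - ht

/-- An anisotropic vector orthogonal to a given one in a coordinate subspace of dimension three or more. -/
theorem exists_aniso_orth {S : Finset (Fin m)} (hS : 3 ≤ S.card) {u : V} (hu : u ≠ 0)
    (hsupp : ∀ i, i ∉ S → u i = 0) :
    ∃ w : V, B w u = 0 ∧ B w w ≠ 0 ∧ ∀ i, i ∉ S → w i = 0 := by
  classical
  let e : Fin S.card ≃ S := S.equivFin.symm
  let r : V → (Fin S.card → F) := fun v k => v (e k)
  let ext : (Fin S.card → F) → V := fun a i => if hi : i ∈ S then a (e.symm ⟨i, hi⟩) else 0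
  have hform : ∀ (a : Fin S.card → F) (v : V), B (ext a) v = Cfsg.hermForm S.card F q a (r v) := by
    intro a v
    show ∑ i, ext a i * v i ^ q = ∑ k, a k * (v (e k)) ^ q
    rw [← Finset.sum_subset (Finset.subset_univ S)
      (fun i _ hi => by simp [ext, hi]), ← Finset.sum_attach S]
    refine (Fintype.sum_equiv e.symm _ _ fun x => ?_)
    simp [ext, x.2]
  have hr : r u ≠ 0 := fun e0 => hu (funext fun i => by
    by_cases hi : i ∈ S
    · simpa [r] using congrFun e0 (e.symm ⟨i, hi⟩)
    · exact hsupp i hi)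
  obtain ⟨a, ha, haa⟩ := Forms.exists_anisotropic_orth hF hS hr
  have hre : r (ext a) = a := funext fun k => by simp [r, ext, (e k).2]
  exact ⟨ext a, by rw [hform]; exact ha, by rw [hform, hre]; exact haa, fun i hi => by simp [ext, hi]⟩

/-- The special unitary group is transitive on non-zero isotropic vectors. -/
theorem suV_move (hm : 3 ≤ m) {u v : V} (hu0 : u ≠ 0) (hu : B u u = 0) (hv0 : v ≠ 0) (hv : B v v = 0) :
    ∃ g ∈ suV hF m, g u = v := by
  obtain ⟨k, rfl⟩ : ∃ k, m = k + 2 := ⟨m - 2, by omega⟩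
  obtain ⟨e, he⟩ := exists_split hF k
  obtain ⟨w, hw⟩ := exists_unit hF (m := k) (by omega)
  have key : ∀ x : Fin (k + 2) → F, x ≠ 0 → Cfsg.hermForm (k + 2) F q x x = 0 →
      ∃ g ∈ suE hF k, g (1, 0, 0) = e.symm x := fun x hx0 hx =>
    exists_uGroup_move (hermSpace_std hF k) hw _ (by rw [← he, e.apply_symm_apply, hx])
      fun e0 => hx0 (e.symm.map_eq_zero_iff.1 e0)
  obtain ⟨g, hg, hgu⟩ := key u hu0 hu
  obtain ⟨g', hg', hgv⟩ := key v hv0 hv
  refine ⟨autConj e (g' * g⁻¹), autConj_mem_uGroup (hermSpace_std hF k).ext (hermSpace_std hF (k + 2)) e he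
    (mul_mem hg' (inv_mem hg)), ?_⟩
  rw [autConj_apply, LinearEquiv.mul_apply, ← hgu]
  show e (g' (g.symm (g (1, 0, 0)))) = v
  rw [g.symm_apply_apply, hgv, e.apply_symm_apply]

/-- A small invariant additive subgroup is trivial. -/
theorem invariant_eq_bot (hm : 3 ≤ m) (W : AddSubgroup V) (hW : ∀ g ∈ suV hF m, ∀ w ∈ W, g w ∈ W)
    (hcard : Nat.card W ≤ q ^ m) : W = ⊥ := by
  classical
  have h := hermSpace_std hF m
  rw [AddSubgroup.eq_bot_iff_forall]
  intro w hw
  by_contra hw0
  obtain ⟨x, hx, hne, -⟩ := exists_iso_in hF (S := Finset.univ)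
    (by simp only [Finset.card_univ, Fintype.card_fin]; omega) hw0
    (fun i hi => absurd (Finset.mem_univ i) hi)
  obtain ⟨c, hc0, hc⟩ := h.exists_skew
  have hy : (c * B w x) • x ∈ W := by
    have := W.sub_mem (hW _ (tv_mem (h := h) x c) w hw) hw
    rwa [tv_apply hx hc, add_sub_cancel_left] at this
  have hx0 : x ≠ 0 := fun e => hne (by rw [e, h.zero_right])
  have hy0 : (c * B w x) • x ≠ 0 := smul_ne_zero (mul_ne_zero hc0 hne) hx0
  have hiso : ∀ v : V, B v v = 0 → v ∈ W := by
    intro v hv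
    by_cases hv0 : v = 0
    · rw [hv0]; exact W.zero_mem
    obtain ⟨g, hg, hgv⟩ := suV_move hF hm hy0 (by rw [h.smul_left, h.smul_right, hx]; ring) hv0 hv
    rw [← hgv]
    exact hW g hg _ hy
  have htop : W = ⊤ := by
    refine eq_top_iff.2 fun v _ => ?_
    obtain ⟨a, b, rfl, ha, hb, -, -⟩ := exists_iso_split hF (S := Finset.univ)
      (by simp only [Finset.card_univ, Fintype.card_fin]; omega) v
      (fun i hi => absurd (Finset.mem_univ i) hi)
    exact W.add_mem (hiso a ha) (hiso b hb)
  rw [htop, AddSubgroup.card_top, natCard_space hF] at hcard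
  have := Nat.pow_lt_pow_right (show 1 < q by have := two_le_q hF; omega) (show m < 2 * m by omega)
  omega

/-- An embedding of a hyperbolic plane with the opposite form. -/
theorem exists_neg_hyp (hm : 2 ≤ m) : ∃ x y : V, B x x = 0 ∧ B y y = 0 ∧ B x y = -1 := by
  obtain ⟨α, β, hne, hα, hβ⟩ := exists_two_norms hF
  have hij : (⟨0, by omega⟩ : Fin m) ≠ ⟨1, by omega⟩ := by simp [Fin.ext_iff]
  set i : Fin m := ⟨0, by omega⟩
  set j : Fin m := ⟨1, by omega⟩
  have h := hermSpace_std hF m
  have hxy : B (twoVec i j α) (twoVec i j β) = 1 + σ β * α := by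
    rw [herm_twoVec hF]
    simp [twoVec, Pi.single_eq_of_ne hij, Pi.single_eq_of_ne hij.symm]
  have h0 : 1 + σ β * α ≠ 0 := fun e => hne (by
    have : σ β * (α - β) = 0 := by linear_combination e - hβ
    rcases mul_eq_zero.1 this with e' | e'
    · rw [e', zero_mul, add_zero] at e; exact absurd e one_ne_zero
    · exact sub_eq_zero.1 e')
  refine ⟨twoVec i j α, σ (-(1 + σ β * α)⁻¹) • twoVec i j β, twoVec_self hF hij hα,
    by rw [h.smul_left, h.smul_right, twoVec_self hF hij hβ]; ring, ?_⟩
  rw [h.smul_right, h.invol, hxy, neg_mul, inv_mul_cancel₀ h0]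

/-- A subgroup with all root groups is the whole group. -/
theorem eq_suE_of_roots (hm : 3 ≤ m) {H : Subgroup (E ≃ₗ[F] E)} (hH : H ≤ suE hF m)
    (hall : ∀ v : E, uExt σ B v v = 0 → Root (hermSpace_std hF m).ext H v) : H = suE hF m := by
  refine le_antisymm hH fun g hg => ?_
  obtain ⟨e, φ, he, hφ⟩ := exists_suEquiv hF m
  have hgen := closure_transvections_SU hF m (by omega) (by omega)
  have hle : Subgroup.closure {A : ↥(Cfsg.SU (m + 2) F q) | ∃ (v : Fin (m + 2) → F) (c : F),
      Cfsg.hermForm (m + 2) F q v v = 0 ∧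
      ((A : Matrix.SpecialLinearGroup (Fin (m + 2)) F) : Matrix (Fin (m + 2)) (Fin (m + 2)) F)
        = Cfsg.unitaryTransvection (m + 2) q v c} ≤ H.comap ((suE hF m).subtype.comp φ.toMonoidHom) := by
    rw [Subgroup.closure_le]
    rintro A ⟨v, c, hv, hA⟩
    show ((φ A : suE hF m) : E ≃ₗ[F] E) ∈ H
    by_cases hv0 : v = 0
    · have : A = 1 := Forms.su_ext fun x => by
        rw [hA, Forms.unitaryTransvection_mulVec, hv0]
        simp
      rw [this, map_one]
      exact H.one_mem
    have hs := hermSpace_std hF (m + 2)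
    obtain ⟨p, hp⟩ : ∃ p, Cfsg.hermForm (m + 2) F q p v ≠ 0 := by
      by_contra hne
      push Not at hne
      exact hv0 (hs.nondeg v fun x => by rw [← hs.symm, hne, map_zero])
    have hc : c + σ c = 0 := by
      have h1 := A.2 p p
      change Cfsg.hermForm (m + 2) F q
        (((A : Matrix.SpecialLinearGroup (Fin (m + 2)) F) : Matrix (Fin (m + 2)) (Fin (m + 2)) F).mulVec p)
        (((A : Matrix.SpecialLinearGroup (Fin (m + 2)) F) : Matrix (Fin (m + 2)) (Fin (m + 2)) F).mulVec p) = _ at h1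
      rw [hA] at h1
      simp only [Forms.unitaryTransvection_mulVec, hs.add_left, hs.add_right, hs.smul_left, hs.smul_right,
        hv, map_mul, hs.symm] at h1
      have : (c + σ c) * (Cfsg.hermForm (m + 2) F q p v * Cfsg.hermForm (m + 2) F q v p) = 0 := by
        linear_combination h1
      refine (mul_eq_zero.1 this).resolve_right (mul_ne_zero hp ?_)
      rw [← hs.symm]; exact (map_ne_zero σ).2 hp
    have hiso : uExt σ B (e.symm v) (e.symm v) = 0 := by rw [← he, e.apply_symm_apply, hv]
    have heq : ((φ A : suE hF m) : E ≃ₗ[F] E) = tv (hermSpace_std hF m).ext (e.symm v) c := by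
      refine LinearEquiv.ext fun x => e.injective ?_
      have h2 := hφ A (e x)
      rw [e.symm_apply_apply] at h2
      rw [← h2, hA, Forms.unitaryTransvection_mulVec, tv_apply hiso hc, map_add, map_smul, ← he,
        e.apply_symm_apply]
    rw [heq]
    exact (hall _ hiso).2 c hc
  obtain ⟨A, hA⟩ := φ.surjective ⟨g, hg⟩
  have h3 := hle (hgen ▸ Subgroup.mem_top A)
  change ((φ A : suE hF m) : E ≃ₗ[F] E) ∈ H at h3
  rwa [hA] at h3

end Cfsg.Agent.Lib.MinIndexUnitary
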