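import Cfsg.Agent.Lib.Classical.UnitaryCount
import Cfsg.Agent.Lib.MinDegree.UnitaryBase
import Cfsg.Agent.S0754

/-!
# Minimal index in unitary groups: numbers of isotropic points, skew and fixed scalars
-/

set_option autoImplicit false

namespace Cfsg.Agent.Lib.MinIndexUnitary

open Cfsg.Agent.Lib.Classical Cfsg.Agent.Lib.MinDegree

/-- The number of isotropic points of a unitary space. -/
def pointNum (q : ℕ) : ℕ → ℕ
  | 0 => 0
  | 1 => 0
  | n + 2 => 1 + q ^ 2 * pointNum q n + q ^ (2 * n + 1)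

variable {F : Type*} [Field F] [Fintype F] {q : ℕ} (hF : Fintype.card F = q ^ 2)
include hF

theorem two_le_q : 2 ≤ q := Forms.two_le_of_card_sq hF

theorem natCard_field : Nat.card F = q ^ 2 := by rw [Nat.card_eq_fintype_card, hF]

theorem natCard_space (n : ℕ) : Nat.card (Fin n → F) = q ^ (2 * n) := by
  rw [Nat.card_fun, Nat.card_fin, natCard_field hF, ← pow_mul]

theorem natCard_units_field : Nat.card Fˣ = q ^ 2 - 1 := by
  rw [Nat.card_units, natCard_field hF]

theorem isoCount_eq (n : ℕ) :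
    Nat.card {v : Fin n → F // Cfsg.hermForm n F q v v = 0} = (q ^ 2 - 1) * pointNum q n + 1 := by
  have h2 := two_le_q hF
  have hq : 1 ≤ q ^ 2 := Nat.one_le_pow _ _ (by omega)
  have h0 : (0 : F) ^ q = 0 := zero_pow (by omega)
  induction n using Nat.twoStepInduction with
  | zero =>
    rw [pointNum, mul_zero, zero_add]
    exact Nat.card_eq_one_iff_unique.2 ⟨inferInstance, ⟨⟨0, by simp [Cfsg.hermForm]⟩⟩⟩
  | one =>
    have h := natCard_hermForm_succ hF 0 h0
    have hz : Nat.card {v : Fin 0 → F // Cfsg.hermForm 0 F q v v = 0} = 1 :=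
      Nat.card_eq_one_iff_unique.2 ⟨inferInstance, ⟨⟨0, by simp [Cfsg.hermForm]⟩⟩⟩
    simp only [hz, Nat.mul_zero, pow_zero, mul_one] at h
    rw [pointNum, mul_zero, zero_add]
    change Nat.card {v : Fin 1 → F // Cfsg.hermForm 1 F q v v = 0} + q = q + 1 at h
    omega
  | more n ih _ =>
    have a := natCard_hermForm_succ hF n h0
    have b := natCard_hermForm_succ hF (n + 1) h0
    rw [ih] at a
    rw [pointNum]
    zify [hq] at a b ⊢
    linear_combination b - (q : ℤ) * a

/-- Isotropic vectors of a split space. -/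
theorem isoCount_ext (m : ℕ) :
    Nat.card {p : F × F × (Fin m → F) //
      uExt (Forms.qPowHom hF) (Cfsg.hermForm m F q) p p = 0} = (q ^ 2 - 1) * pointNum q (m + 2) + 1 := by
  obtain ⟨e, he⟩ := exists_split hF m
  rw [← isoCount_eq hF (m + 2)]
  exact Nat.card_congr (e.toEquiv.subtypeEquiv fun p => by
    show _ ↔ Cfsg.hermForm (m + 2) F q (e p) (e p) = 0
    rw [he])

theorem pointNum_odd {n : ℕ} (hn : Odd n) :
    (q ^ n + 1) * (q ^ (n - 1) - 1) / (q ^ 2 - 1) = pointNum q n := by
  have h := natCard_hermForm_zero hF n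
  rw [isoCount_eq hF, if_neg (Nat.not_even_iff_odd.2 hn), Nat.add_right_cancel_iff] at h
  have : 2 ≤ q ^ 2 := le_trans (two_le_q hF) (Nat.le_self_pow two_ne_zero q)
  rw [← h, Nat.mul_div_cancel_left _ (by omega)]

theorem pointNum_even {n : ℕ} (hn : Even n) :
    (q ^ n - 1) * (q ^ (n - 1) + 1) / (q ^ 2 - 1) = pointNum q n := by
  have h := natCard_hermForm_zero hF n
  rw [isoCount_eq hF, if_pos hn, Nat.add_right_cancel_iff] at h
  have : 2 ≤ q ^ 2 := le_trans (two_le_q hF) (Nat.le_self_pow two_ne_zero q)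
  rw [← h, Nat.mul_div_cancel_left _ (by omega)]

theorem pointNum_le (n : ℕ) : (q ^ 2 - 1) * pointNum q n + 1 ≤ q ^ (2 * n) := by
  rw [← isoCount_eq hF, ← natCard_space hF]
  exact Nat.card_le_card_of_injective _ Subtype.val_injective

/-- The number of points of a perpendicular hyperplane is small. -/
theorem cone_le (m : ℕ) (hm : 1 ≤ m) : 1 + q ^ 2 * pointNum q m ≤ 2 * q ^ (2 * m) := by
  have h2 := two_le_q hF
  have h := pointNum_le hF m
  have e : q ^ 2 * pointNum q m ≤ (q ^ 2 - 1) * pointNum q m + pointNum q m := by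
    rw [← Nat.succ_mul]
    exact Nat.mul_le_mul_right _ (by omega)
  have e2 : pointNum q m ≤ (q ^ 2 - 1) * pointNum q m := by
    refine Nat.le_mul_of_pos_left _ ?_
    have : 4 ≤ q ^ 2 := by nlinarith
    omega
  omega

theorem fixed_or_skew_card : Nat.card {x : F // Forms.qPowHom hF x = x} = q := by
  obtain ⟨d, hd0, hd⟩ := (hermSpace_std hF 1).exists_skew
  refine Eq.trans ?_ (card_skew hF)
  refine Nat.card_congr
    ⟨fun x => ⟨d * x.1, mem_skew.2 (by rw [map_mul, x.2]; linear_combination (x.1 : F) * hd)⟩,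
      fun c => ⟨d⁻¹ * c.1, ?_⟩, fun x => ?_, fun c => ?_⟩
  · have hc := mem_skew.1 c.2
    rw [map_mul, map_inv₀, show Forms.qPowHom hF d = -d by linear_combination hd,
      show Forms.qPowHom hF c.1 = -c.1 by linear_combination hc, inv_neg, neg_mul_neg]
  · exact Subtype.ext (inv_mul_cancel_left₀ hd0 _)
  · exact Subtype.ext (mul_inv_cancel_left₀ hd0 _)

/-- Every skew scalar is `x - σ x`. -/
theorem exists_sub_conj {c : F} (hc : c + Forms.qPowHom hF c = 0) : ∃ x, x - Forms.qPowHom hF x = c := by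
  obtain ⟨t, ht⟩ := Forms.exists_add_conj_eq_one (Forms.qPowHom_ne_id hF) (Forms.qPowHom_qPowHom hF)
  exact ⟨c * t, by rw [map_mul]; linear_combination c * ht - (Forms.qPowHom hF t) * hc⟩

/-- Norms have fibres of order `q + 1`. -/
theorem norm_fibre {c : F} (hc : c ≠ 0) (hcs : Forms.qPowHom hF c = c) :
    Nat.card {x : F // x * Forms.qPowHom hF x = c} = q + 1 := by
  rw [← S0754.result hF c hc (by rw [← Forms.qPowHom_apply hF, hcs])]
  exact Nat.card_congr (Equiv.subtypeEquivRight fun x => by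
    rw [Forms.qPowHom_apply, pow_succ'])

end Cfsg.Agent.Lib.MinIndexUnitary

namespace Cfsg.Agent.Lib.MinIndexUnitary

theorem pointNum_ge {q n : ℕ} : q ^ (2 * n + 1) ≤ pointNum q (n + 2) := by
  rw [pointNum]
  omega

end Cfsg.Agent.Lib.MinIndexUnitary
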