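import Cfsg.Agent.Lib.MinIndexUnitary.Basic
import Cfsg.Agent.Lib.MinIndexUnitary.Counts
import Cfsg.Agent.Lib.Fusion.SUData

/-!
# Minimal index in unitary groups: the stabiliser of an isotropic point in split coordinates
-/

set_option autoImplicit false

namespace Cfsg.Agent.Lib.MinIndexUnitary

open Cfsg.Agent.Lib.Classical Cfsg.Agent.Lib.MinDegree

variable {F : Type*} [Field F] [Fintype F] {q : ℕ} (hF : Fintype.card F = q ^ 2) {m : ℕ}

local notation "σ" => Forms.qPowHom hF
local notation "V" => (Fin m → F)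
local notation "E" => (F × F × (Fin m → F))
local notation "hV" => hermSpace_std hF m
local notation "a₀" => ((1 : F), (0 : F), (0 : Fin m → F))

/-- The special unitary group of the standard space. -/
noncomputable abbrev suV (m : ℕ) : Subgroup ((Fin m → F) ≃ₗ[F] (Fin m → F)) := uGroup (hermSpace_std hF m)

/-- The special unitary group of the split space. -/
noncomputable abbrev suE (m : ℕ) : Subgroup ((F × F × (Fin m → F)) ≃ₗ[F] (F × F × (Fin m → F))) :=
  uGroup (hermSpace_std hF m).ext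

theorem suE_det {g : E ≃ₗ[F] E} (hg : g ∈ suE hF m) : LinearEquiv.det g = 1 :=
  det_eq_one_of_mem_uGroup (hermSpace_std hF m).ext hg

theorem mem_suE {g : E ≃ₗ[F] E} (hg : g ∈ biIsoGroup (uExt σ (Cfsg.hermForm m F q)))
    (hd : LinearEquiv.det g = 1) : g ∈ suE hF m := by
  obtain ⟨e, he⟩ := exists_split hF m
  have hiso : autConj e g ∈ biIsoGroup (Cfsg.hermForm (m + 2) F q) := fun u v => by
    rw [autConj_apply, autConj_apply, he, hg, ← he, e.apply_symm_apply, e.apply_symm_apply]
  have hdet : LinearEquiv.det (autConj e g) = 1 := by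
    show LinearEquiv.det ((e.symm.trans g).trans e) = 1
    rw [LinearEquiv.det_conj, hd]
  have h := autConj_mem_uGroup (hermSpace_std hF (m + 2)) (hermSpace_std hF m).ext e.symm
    (isometry_symm e he) (mem_uGroup_of_det hF (m + 2) _ hiso hdet)
  convert h using 1
  exact LinearEquiv.ext fun x => by simp [autConj_apply]

theorem mem_suV {k : V ≃ₗ[F] V} (hk : k ∈ biIsoGroup (Cfsg.hermForm m F q))
    (hd : LinearEquiv.det k = 1) : k ∈ suV hF m := mem_uGroup_of_det hF m k hk hd

/-- Elements fixing the isotropic vector. -/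
theorem fix_decomp {g : E ≃ₗ[F] E} (hg : g ∈ suE hF m) (he : g a₀ = a₀) :
    ∃ (w : V) (c : F) (hc : c + σ c + Cfsg.hermForm m F q w w = 0), ∃ k ∈ suV hF m,
      g = uT hV w c hc * uInd k := by
  obtain ⟨w, c, hc, k, hk, rfl⟩ := eq_uT_uInd hV (uGroup_le _ hg) he
  refine ⟨w, c, hc, k, mem_suV hF hk ?_, rfl⟩
  have := suE_det hF hg
  rwa [map_mul, uT, uEich_det, one_mul, det_uInd] at this

theorem uT_mul_uInd_mem {w : V} {c : F} (hc : c + σ c + Cfsg.hermForm m F q w w = 0) {k : V ≃ₗ[F] V}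
    (hk : k ∈ suV hF m) : uT hV w c hc * uInd k ∈ suE hF m :=
  mul_mem (uT_mem hV w c hc) (uInd_uGroup hV hk)

theorem uT_mul_uInd_fix {w : V} {c : F} (hc : c + σ c + Cfsg.hermForm m F q w w = 0) (k : V ≃ₗ[F] V) :
    (uT hV w c hc * uInd k) a₀ = a₀ := by
  rw [LinearEquiv.mul_apply, uInd_apply, uT_apply]
  simp [(hermSpace_std hF m).zero_left]

theorem scal_ne (t : Fˣ) : σ (t : F) ≠ 0 := (map_ne_zero σ).2 t.ne_zero

/-- Conjugation of the radical by a Levi element. -/
theorem lev_conj {t : Fˣ} {k : V ≃ₗ[F] V} (hk : k ∈ biIsoGroup (Cfsg.hermForm m F q)) (w : V) (c : F)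
    (hc : c + σ c + Cfsg.hermForm m F q w w = 0) :
    ∃ hc', levHom σ V (t, k) * uT hV w c hc * (levHom σ V (t, k))⁻¹
      = uT hV (σ (t : F) • k w) ((t : F) * σ (t : F) * c) hc' := by
  have h := hermSpace_std hF m
  have hc' : (t : F) * σ (t : F) * c + σ ((t : F) * σ (t : F) * c)
      + Cfsg.hermForm m F q (σ (t : F) • k w) (σ (t : F) • k w) = 0 := by
    rw [h.smul_left, h.smul_right, hk, map_mul, map_mul, h.invol]
    linear_combination ((t : F) * σ (t : F)) * hc
  refine ⟨hc', ?_⟩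
  rw [mul_inv_eq_iff_eq_mul]
  refine LinearEquiv.ext fun p => ?_
  have hs := scal_ne hF t
  rw [LinearEquiv.mul_apply, LinearEquiv.mul_apply, levHom_apply, levHom_apply, uT_apply, uT_apply]
  refine Prod.ext ?_ (Prod.ext rfl ?_)
  · simp only [h.smul_right, h.invol, hk p.2.2 w]
    field_simp
  · simp only [map_add, map_smul, smul_smul]
    congr 2
    field_simp

theorem levHom_apply_a {t : Fˣ} {k : V ≃ₗ[F] V} : levHom σ V (t, k) a₀ = (t : F) • a₀ := by
  rw [levHom_apply]; simp

/-- Elements scaling the isotropic vector. -/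
theorem pt_decomp {g : E ≃ₗ[F] E} (hg : g ∈ suE hF m) {t : Fˣ} (he : g a₀ = (t : F) • a₀) :
    ∃ (w : V) (c : F) (hc : c + σ c + Cfsg.hermForm m F q w w = 0),
      ∃ k ∈ biIsoGroup (Cfsg.hermForm m F q), g = uT hV w c hc * levHom σ V (t, k) ∧
        ((LinearEquiv.det k : Fˣ) : F) * (t : F) = σ (t : F) := by
  have hl : levHom σ V (t, 1) ∈ biIsoGroup (uExt σ (Cfsg.hermForm m F q)) :=
    levHom_mem hV (one_mem _)
  have hfix : ((levHom σ V (t, 1))⁻¹ * g) a₀ = a₀ := by
    rw [LinearEquiv.mul_apply, he, ← levHom_apply_a hF (k := 1)]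
    exact (levHom σ V (t, 1)).symm_apply_apply _
  obtain ⟨w, c, hc, k, hk, e⟩ := eq_uT_uInd hV (mul_mem (inv_mem hl) (uGroup_le _ hg)) hfix
  obtain ⟨hc', e'⟩ := lev_conj hF (t := t) (one_mem _) w c hc
  have eg : g = uT hV _ _ hc' * levHom σ V (t, k) := by
    rw [← e', inv_mul_eq_iff_eq_mul.1 e, show ((t, k) : Fˣ × (V ≃ₗ[F] V)) = (t, 1) * (1, k) by simp,
      map_mul, levHom_one]
    group
  refine ⟨_, _, hc', k, hk, eg, ?_⟩
  have hd := suE_det hF hg
  rw [eg, map_mul, uT, uEich_det, one_mul, det_levHom] at hd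
  have hd' := congrArg Units.val hd
  simp only [Units.val_mul, Units.val_inv_eq_inv_val, Units.coe_map, RingHom.toMonoidHom_eq_coe,
    MonoidHom.coe_coe, Units.val_one] at hd'
  have hs := scal_ne hF t
  field_simp at hd'
  linear_combination hd'

theorem levHom_mem_suE {t : Fˣ} {k : V ≃ₗ[F] V} (hk : k ∈ biIsoGroup (Cfsg.hermForm m F q))
    (hd : ((LinearEquiv.det k : Fˣ) : F) * (t : F) = σ (t : F)) : levHom σ V (t, k) ∈ suE hF m := by
  refine mem_suE hF (levHom_mem hV hk) (Units.ext ?_)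
  rw [det_levHom]
  simp only [Units.val_mul, Units.val_inv_eq_inv_val, Units.coe_map, RingHom.toMonoidHom_eq_coe,
    MonoidHom.coe_coe, Units.val_one]
  have hs := scal_ne hF t
  field_simp
  linear_combination hd

/-- A diagonal automorphism. -/
noncomputable def diagAut {m : ℕ} (d : Fin m → Fˣ) : (Fin m → F) ≃ₗ[F] (Fin m → F) :=
  LinearEquiv.piCongrRight fun i => LinearEquiv.smulOfUnit (d i)

omit [Fintype F] in
theorem diagAut_apply {m : ℕ} (d : Fin m → Fˣ) (v : Fin m → F) (i : Fin m) :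
    diagAut d v i = (d i : F) * v i := rfl

omit [Fintype F] in
theorem det_diagAut {m : ℕ} (d : Fin m → Fˣ) :
    ((LinearEquiv.det (diagAut d) : Fˣ) : F) = ∏ i, (d i : F) := by
  rw [LinearEquiv.coe_det, ← LinearMap.det_toMatrix']
  have : LinearMap.toMatrix' (diagAut d).toLinearMap = Matrix.diagonal fun i => (d i : F) := by
    ext i j
    rw [LinearMap.toMatrix'_apply]
    show diagAut d _ i = _
    rw [diagAut_apply]
    by_cases e : i = j
    · subst e; simp
    · simp [e]
  rw [this, Matrix.det_diagonal]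

theorem diagAut_mem {d : Fin m → Fˣ} (hd : ∀ i, (d i : F) * σ (d i : F) = 1) :
    diagAut d ∈ biIsoGroup (Cfsg.hermForm m F q) := fun u v => by
  simp only [Cfsg.hermForm, diagAut_apply, mul_pow]
  refine Finset.sum_congr rfl fun i _ => ?_
  have := hd i
  rw [Forms.qPowHom_apply] at this
  linear_combination (u i * v i ^ q) * this

/-- An isometry of prescribed determinant. -/
theorem exists_det (hm : 1 ≤ m) {μ : Fˣ} (hμ : (μ : F) * σ (μ : F) = 1) :
    ∃ k ∈ biIsoGroup (Cfsg.hermForm m F q), ((LinearEquiv.det k : Fˣ) : F) = (μ : F) := by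
  classical
  refine ⟨diagAut (Function.update 1 (⟨0, hm⟩ : Fin m) μ), diagAut_mem hF fun i => ?_, ?_⟩
  · by_cases e : i = ⟨0, hm⟩
    · subst e; simpa using hμ
    · simp [e]
  · rw [det_diagAut, Finset.prod_eq_single (⟨0, hm⟩ : Fin m)]
    · simp
    · intro i _ e; simp [e]
    · simp

include hF in
theorem exists_unit (hm : 1 ≤ m) : ∃ v : V, Cfsg.hermForm m F q v v = 1 := by
  obtain ⟨j, rfl⟩ := Nat.exists_eq_add_of_le' hm
  exact exists_unit_vector hF j

/-! ### Data of a subgroup at the point -/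

variable (H : Subgroup ((F × F × (Fin m → F)) ≃ₗ[F] (F × F × (Fin m → F))))

/-- The vectors of the radical elements in the subgroup. -/
def radVec : AddSubgroup (Fin m → F) where
  carrier := {w | ∃ c hc, uT hV w c hc ∈ H}
  zero_mem' := ⟨0, _, by rw [uT_zero]; exact H.one_mem⟩
  add_mem' := by
    rintro a b ⟨c, hc, hm⟩ ⟨d, hd, hm'⟩
    exact ⟨_, _, uT_mul hV a b c d hc hd ▸ H.mul_mem hm hm'⟩
  neg_mem' := by
    rintro a ⟨c, hc, hm⟩
    exact ⟨_, _, uT_inv hV a c hc ▸ H.inv_mem hm⟩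

/-- The scalars of the transvections at the point in the subgroup. -/
def centreVal : AddSubgroup F where
  carrier := {c | ∃ hc, uT hV 0 c hc ∈ H}
  zero_mem' := ⟨by rw [map_zero, (hermSpace_std hF m).zero_left]; ring,
    by rw [uT_zero]; exact H.one_mem⟩
  add_mem' := by
    rintro c d ⟨hc, hm⟩ ⟨hd, hm'⟩
    have hcd : c + d + σ (c + d) + Cfsg.hermForm m F q 0 0 = 0 := by
      rw [(hermSpace_std hF m).zero_left] at hc hd ⊢
      rw [map_add]; linear_combination hc + hd
    have h3 := H.mul_mem hm hm'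
    rw [uT_mul] at h3
    refine ⟨hcd, ?_⟩
    convert h3 using 1
    exact uT_congr hV (add_zero 0).symm (by rw [(hermSpace_std hF m).zero_left, sub_zero])
  neg_mem' := by
    rintro c ⟨hc, hm⟩
    have hc0 : c + σ c = 0 := by rwa [(hermSpace_std hF m).zero_left, add_zero] at hc
    have h3 := H.inv_mem hm
    rw [uT_inv] at h3
    refine ⟨skew_fill hV (by rw [map_neg]; linear_combination -hc0), ?_⟩
    convert h3 using 1
    exact uT_congr hV neg_zero.symm (by linear_combination -hc0)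

/-- The action on the complement of the subgroup's elements fixing the vector. -/
def leviImg : Subgroup ((Fin m → F) ≃ₗ[F] (Fin m → F)) where
  carrier := {k | k ∈ suV hF m ∧ ∃ w c hc, uT hV w c hc * uInd k ∈ H}
  one_mem' := ⟨one_mem _, 0, 0, by rw [map_zero, (hermSpace_std hF m).zero_left]; ring,
    by rw [uT_zero, one_mul, show (uInd (1 : V ≃ₗ[F] V) : E ≃ₗ[F] E) = 1 from
      LinearEquiv.ext fun _ => rfl]; exact H.one_mem⟩
  mul_mem' := by
    rintro k l ⟨hk, w, c, hc, hm⟩ ⟨hl, w', c', hc', hm'⟩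
    have hi := uGroup_le _ hk
    refine ⟨mul_mem hk hl, w + k w', c + c' - Cfsg.hermForm m F q (k w') w, ?_⟩
    have e : uInd k * uT hV w' c' hc'
        = uT hV (k w') c' (by rw [hi, hc']) * uInd k := by
      rw [← mul_inv_eq_iff_eq_mul, uT, uEich_conj (hermSpace_std hF m).ext _ _ _ _ _ _ (uInd_mem hi)]
      exact uEich_congr (hermSpace_std hF m).ext (by simp [uInd_apply]) rfl rfl
    have e2 : uT hV w c hc * uInd k * (uT hV w' c' hc' * uInd l)
        = uT hV w c hc * uT hV (k w') c' (by rw [hi, hc']) * uInd (k * l) := by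
      rw [show (uInd (k * l) : E ≃ₗ[F] E) = uInd k * uInd l from LinearEquiv.ext fun _ => rfl,
        mul_assoc, ← mul_assoc (uInd k), e]
      group
    have h3 := H.mul_mem hm hm'
    rw [e2, uT_mul] at h3
    exact ⟨_, h3⟩
  inv_mem' := by
    rintro k ⟨hk, w, c, hc, hm⟩
    have hi := inv_mem (uGroup_le _ hk)
    refine ⟨inv_mem hk, k⁻¹ (-w), σ c, by
      rw [hi, (hermSpace_std hF m).invol, (hermSpace_std hF m).neg_left,
        (hermSpace_std hF m).neg_right, neg_neg, add_comm (σ c)]; exact hc, ?_⟩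
    have h3 := H.inv_mem hm
    rw [mul_inv_rev, uT_inv] at h3
    have e : (uInd k : E ≃ₗ[F] E)⁻¹ = uInd k⁻¹ := LinearEquiv.ext fun _ => rfl
    rw [e] at h3
    have e3 : uInd k⁻¹ * uT hV (-w) (σ c) (by
          rw [(hermSpace_std hF m).invol, (hermSpace_std hF m).neg_left,
            (hermSpace_std hF m).neg_right, neg_neg, add_comm (σ c)]; exact hc)
        = uT hV (k⁻¹ (-w)) (σ c) (by
          rw [hi, (hermSpace_std hF m).invol, (hermSpace_std hF m).neg_left,
            (hermSpace_std hF m).neg_right, neg_neg, add_comm (σ c)]; exact hc) * uInd k⁻¹ := by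
      rw [← mul_inv_eq_iff_eq_mul, uT, uEich_conj (hermSpace_std hF m).ext _ _ _ _ _ _ (uInd_mem hi)]
      exact uEich_congr (hermSpace_std hF m).ext (by simp [uInd_apply]) rfl rfl
    rwa [e3] at h3

/-- The scalars by which the subgroup acts on the point. -/
def pointScalars : Subgroup Fˣ where
  carrier := {t | ∃ g ∈ H, g a₀ = (t : F) • a₀}
  one_mem' := ⟨1, H.one_mem, by simp⟩
  mul_mem' := by
    rintro s t ⟨g, hg, e⟩ ⟨k, hk, e'⟩
    exact ⟨g * k, H.mul_mem hg hk, by
      rw [LinearEquiv.mul_apply, e', map_smul, e, smul_smul, mul_comm, Units.val_mul]⟩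
  inv_mem' := by
    rintro t ⟨g, hg, e⟩
    refine ⟨g⁻¹, H.inv_mem hg, ?_⟩
    have h := congrArg g.symm e
    rw [g.symm_apply_apply, map_smul] at h
    show g.symm _ = _
    conv_rhs => rw [h]
    rw [smul_smul, Units.inv_mul, one_smul]

end Cfsg.Agent.Lib.MinIndexUnitary
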