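import Cfsg.Agent.Lib.UnitGen.Basic

/-!
# Minimal index in unitary groups: transvections and root points of a subgroup

A vector is a root vector of a subgroup if it is isotropic and the subgroup contains all the
transvections at it.
-/

set_option autoImplicit false

namespace Cfsg.Agent.Lib.MinIndexUnitary

open Cfsg.Agent.Lib.Classical Cfsg.Agent.Lib.UnitGen

variable {F : Type*} [Field F] {σ : F →+* F} {V : Type*} [AddCommGroup V] [Module F V] {B : V → V → F}
variable {h : HermSpace σ B}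

/-- The unitary transvection. -/
noncomputable def tv (h : HermSpace σ B) (v : V) (c : F) : V ≃ₗ[F] V := ue h v 0 c

theorem tv_apply {v : V} {c : F} (hv : B v v = 0) (hc : c + σ c = 0) (x : V) :
    tv h v c x = x + (c * B x v) • v := by
  rw [tv, ue_apply hv (h.zero_left v) (fill_zero hc h), smul_zero, add_zero, h.zero_right, sub_zero]

theorem tv_mem (v : V) (c : F) : tv h v c ∈ uGroup h := ue_mem_uGroup _ _ _

theorem tv_conj {g : V ≃ₗ[F] V} (hg : g ∈ biIsoGroup B) (v : V) (c : F) :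
    g * tv h v c * g⁻¹ = tv h (g v) c := by
  rw [tv, tv, ue_conj hg, map_zero]

theorem skew_norm_mul (h : HermSpace σ B) (s : F) {c : F} (hc : c + σ c = 0) :
    s * σ s * c + σ (s * σ s * c) = 0 := by
  rw [map_mul, map_mul, h.invol]
  linear_combination (s * σ s) * hc

theorem tv_smul {v : V} {c : F} (hv : B v v = 0) (hc : c + σ c = 0) (s : F) :
    tv h (s • v) c = tv h v (s * σ s * c) := by
  rw [tv, tv, ue_smul_left hv (h.zero_left v) (fill_zero hc h), smul_zero]

/-- The root vectors of a subgroup. -/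
def Root (h : HermSpace σ B) (H : Subgroup (V ≃ₗ[F] V)) (v : V) : Prop :=
  B v v = 0 ∧ ∀ c : F, c + σ c = 0 → tv h v c ∈ H

variable {H : Subgroup (V ≃ₗ[F] V)} {u v : V}

theorem Root.map (hH : H ≤ biIsoGroup B) (hv : Root h H v) {g : V ≃ₗ[F] V} (hg : g ∈ H) :
    Root h H (g v) := by
  refine ⟨by rw [hH hg]; exact hv.1, fun c hc => ?_⟩
  rw [← tv_conj (hH hg)]
  exact H.mul_mem (H.mul_mem hg (hv.2 c hc)) (H.inv_mem hg)

theorem Root.smul (hv : Root h H v) (s : F) : Root h H (s • v) := by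
  refine ⟨by rw [h.smul_left, h.smul_right, hv.1, mul_zero, mul_zero], fun c hc => ?_⟩
  rw [tv_smul hv.1 hc]
  exact hv.2 _ (skew_norm_mul h s hc)

theorem Root.of_smul {s : F} (hs : s ≠ 0) (hv : Root h H (s • v)) : Root h H v := by
  simpa [smul_smul, inv_mul_cancel₀ hs] using hv.smul s⁻¹

/-- Two non-orthogonal root vectors with an isotropic sum give a root vector. -/
theorem Root.hyper (hH : H ≤ biIsoGroup B) (hu : Root h H u) (hv : Root h H v) (hne : B v u ≠ 0)
    (hs : B (u + v) (u + v) = 0) : Root h H (u + v) := by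
  have hsk : B v u + σ (B v u) = 0 := by
    rw [h.add_left, h.add_right, h.add_right, hu.1, hv.1] at hs
    rw [h.symm]
    linear_combination hs
  have hc : (B v u)⁻¹ + σ (B v u)⁻¹ = 0 := by
    have h0 : σ (B v u) = -B v u := by linear_combination hsk
    rw [map_inv₀, h0, inv_neg, add_neg_cancel]
  have h1 := hv.map hH (hu.2 _ hc)
  rwa [tv_apply hu.1 hc, inv_mul_cancel₀ hne, one_smul, add_comm] at h1

theorem root_zero (h : HermSpace σ B) (H : Subgroup (V ≃ₗ[F] V)) : Root h H (0 : V) := by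
  refine ⟨h.zero_left 0, fun c hc => ?_⟩
  have : tv h (0 : V) c = 1 := LinearEquiv.ext fun x => by simp [tv_apply (h.zero_left 0) hc]
  rw [this]
  exact H.one_mem

/-- The conjugate of a subgroup. -/
def conjSub (g : V ≃ₗ[F] V) (H : Subgroup (V ≃ₗ[F] V)) : Subgroup (V ≃ₗ[F] V) :=
  H.map (MulAut.conj g).toMonoidHom

theorem mem_conjSub {g x : V ≃ₗ[F] V} : x ∈ conjSub g H ↔ g⁻¹ * x * g ∈ H := by
  constructor
  · rintro ⟨k, hk, rfl⟩
    show g⁻¹ * (g * k * g⁻¹) * g ∈ H
    rwa [show g⁻¹ * (g * k * g⁻¹) * g = k by group]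
  · exact fun hx => ⟨_, hx, show g * (g⁻¹ * x * g) * g⁻¹ = x by group⟩

theorem root_conjSub {g : V ≃ₗ[F] V} (hg : g ∈ biIsoGroup B) :
    Root h (conjSub g H) (g v) ↔ Root h H v := by
  have hgv : B (g v) (g v) = B v v := hg v v
  constructor <;> rintro ⟨h0, hall⟩
  · refine ⟨hgv ▸ h0, fun c hc => ?_⟩
    have := mem_conjSub.1 (hall c hc)
    rwa [← tv_conj hg, show g⁻¹ * (g * tv h v c * g⁻¹) * g = tv h v c by group] at this
  · refine ⟨hgv.trans h0, fun c hc => ?_⟩
    rw [← tv_conj hg]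
    exact ⟨_, hall c hc, rfl⟩

theorem conjSub_le {g : V ≃ₗ[F] V} (hg : g ∈ biIsoGroup B) (hH : H ≤ uGroup h) : conjSub g H ≤ uGroup h := by
  rintro _ ⟨k, hk, rfl⟩
  exact uGroup_conj h hg (hH hk)

theorem relIndex_conjSub {g : V ≃ₗ[F] V} (hg : g ∈ biIsoGroup B) :
    (conjSub g H).relIndex (uGroup h) = H.relIndex (uGroup h) := by
  have e : (uGroup h).map (MulAut.conj g).toMonoidHom = uGroup h := by
    refine le_antisymm ?_ fun k hk => ⟨g⁻¹ * k * g, ?_, ?_⟩
    · rintro _ ⟨k, hk, rfl⟩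
      exact uGroup_conj h hg hk
    · have := uGroup_conj h (inv_mem hg) hk
      rwa [inv_inv] at this
    · show g * (g⁻¹ * k * g) * g⁻¹ = k
      group
  conv_lhs => rw [← e, conjSub, Subgroup.relIndex_map_map_of_injective _ _ (MulAut.conj g).injective]

end Cfsg.Agent.Lib.MinIndexUnitary
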