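import Cfsg.Agent.Lib.MinIndexUnitary.Frame
import Cfsg.Agent.Lib.MinIndexUnitary.Moves

/-!
# Minimal index in unitary groups: root points in the cone, four-dimensional complement over the field of four elements

A lift of a transvection commutes with lifts of transvections at perpendicular vectors, so it is either
a transvection or a radical element at another point of the line. The first coordinates of the root
points are then linear on totally isotropic lines, hence linear.
-/

set_option autoImplicit false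
set_option linter.unusedSectionVars false

namespace Cfsg.Agent.Lib.MinIndexUnitary

open Cfsg.Agent.Lib.Classical Cfsg.Agent.Lib.MinDegree

variable {F : Type*} [Field F] [Fintype F] (hF : Fintype.card F = 2 ^ 2)

local notation "σ" => Forms.qPowHom hF
local notation "V" => (Fin 4 → F)
local notation "E" => (F × F × (Fin 4 → F))
local notation "hV" => hermSpace_std hF 4
local notation "B" => Cfsg.hermForm 4 F 2
local notation "a₀" => ((1 : F), (0 : F), (0 : Fin 4 → F))

include hF

theorem sq_eq (x : F) : σ x = x ^ 2 := Forms.qPowHom_apply hF x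

theorem two_eq_zero : (2 : F) = 0 := by
  have h := sq_eq hF (-1 : F)
  rw [map_neg, map_one, neg_one_sq] at h
  linear_combination -h

theorem cube_eq_one {x : F} (hx : x ≠ 0) : x ^ 3 = 1 := by
  have := FiniteField.pow_card_sub_one_eq_one x hx
  rwa [hF] at this

theorem exists_omega : ∃ ω : F, ω ≠ 0 ∧ ω * ω + ω + 1 = 0 ∧ ∀ x : F, x = 0 ∨ x = 1 ∨ x = ω ∨ x = ω + 1 := by
  classical
  have h2 := two_eq_zero hF
  obtain ⟨ω, hω0, hω1⟩ : ∃ ω : F, ω ≠ 0 ∧ ω ≠ 1 := by
    by_contra hall
    push Not at hall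
    have : Fintype.card F ≤ 2 := by
      refine (Finset.card_le_card (t := ({0, 1} : Finset F)) fun x _ => ?_).trans Finset.card_le_two
      by_cases hx0 : x = 0
      · simp [hx0]
      · simp [hall x hx0]
    omega
  have h3 := cube_eq_one hF hω0
  have hw : ω * ω + ω + 1 = 0 := by
    have : (ω - 1) * (ω * ω + ω + 1) = 0 := by linear_combination h3
    exact (mul_eq_zero.1 this).resolve_left (sub_ne_zero.2 hω1)
  refine ⟨ω, hω0, hw, fun x => ?_⟩
  by_cases hx : x = 0
  · exact Or.inl hx
  have hx3 := cube_eq_one hF hx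
  by_cases hx1 : x = 1
  · exact Or.inr (Or.inl hx1)
  have hxw : x * x + x + 1 = 0 := by
    have : (x - 1) * (x * x + x + 1) = 0 := by linear_combination hx3
    exact (mul_eq_zero.1 this).resolve_left (sub_ne_zero.2 hx1)
  have : (x - ω) * (x - (ω + 1)) = 0 := by linear_combination hxw + hw - (x + x * ω + 1) * h2
  exact Or.inr (Or.inr ((mul_eq_zero.1 this).imp sub_eq_zero.1 sub_eq_zero.1))

theorem herm_two (a b c d a' b' c' d' : F) :
    B ![a, b, c, d] ![a', b', c', d'] = a * a' ^ 2 + b * b' ^ 2 + c * c' ^ 2 + d * d' ^ 2 := by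
  simp [Cfsg.hermForm, Fin.sum_univ_four]

theorem herm_self_two (a b c d : F) :
    B ![a, b, c, d] ![a, b, c, d] = a ^ 3 + b ^ 3 + c ^ 3 + d ^ 3 := by
  rw [herm_two hF]; ring

/-- A function linear on totally isotropic lines is given by the form. -/
theorem linear_of_perp (s : V → F) (hsmul : ∀ (a : F) (v : V), B v v = 0 → s (a • v) = a * s v)
    (hadd : ∀ v w : V, B v v = 0 → B w w = 0 → B v w = 0 → s (v + w) = s v + s w) :
    ∃ x : V, ∀ v : V, B v v = 0 → s v = B v x := by
  have h := hermSpace_std hF 4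
  have h2 := two_eq_zero hF
  obtain ⟨ω, hω0, hw, hall⟩ := exists_omega hF
  have hω1 : ω + 1 ≠ 0 := fun e => one_ne_zero (α := F) (by linear_combination hw - ω * e)
  have hc : ∀ {x : F}, x ≠ 0 → x ^ 3 = 1 := fun hx => cube_eq_one hF hx
  let P : F → F → F := fun a b => s ![a, b, 0, 0]
  let R : F → F → F := fun c d => s ![0, 0, c, d]
  let Q : F → F → F := fun a c => s ![a, 0, c, 0]
  let T : F → F → F := fun b d => s ![0, b, 0, d]
  let U : F → F → F := fun a d => s ![a, 0, 0, d]
  let W : F → F → F := fun b c => s ![0, b, c, 0]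
  have hpair : ∀ {a b : F}, a ≠ 0 → b ≠ 0 → a ^ 3 + b ^ 3 = 0 := fun ha hb => by
    rw [hc ha, hc hb]; linear_combination h2
  have hsc : ∀ (t a b c d : F), a ^ 3 + b ^ 3 + c ^ 3 + d ^ 3 = 0 →
      s ![t * a, t * b, t * c, t * d] = t * s ![a, b, c, d] := by
    intro t a b c d hi
    rw [← hsmul t _ (by rw [herm_self_two hF, hi])]
    simp
  have hPs : ∀ {a b : F}, a ≠ 0 → b ≠ 0 → ∀ t, P (t * a) (t * b) = t * P a b := by
    intro a b ha hb t
    have := hsc t a b 0 0 (by linear_combination hpair ha hb)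
    simpa [P] using this
  have hRs : ∀ {a b : F}, a ≠ 0 → b ≠ 0 → ∀ t, R (t * a) (t * b) = t * R a b := by
    intro a b ha hb t
    have := hsc t 0 0 a b (by linear_combination hpair ha hb)
    simpa [R] using this
  have hTs : ∀ {a b : F}, a ≠ 0 → b ≠ 0 → ∀ t, T (t * a) (t * b) = t * T a b := by
    intro a b ha hb t
    have := hsc t 0 a 0 b (by linear_combination hpair ha hb)
    simpa [T] using this
  have hWs : ∀ {a b : F}, a ≠ 0 → b ≠ 0 → ∀ t, W (t * a) (t * b) = t * W a b := by
    intro a b ha hb t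
    have := hsc t 0 a b 0 (by linear_combination hpair ha hb)
    simpa [W] using this
  have h01 : ∀ {a b c d : F}, a ≠ 0 → b ≠ 0 → c ≠ 0 → d ≠ 0 → s ![a, b, c, d] = P a b + R c d := by
    intro a b c d ha hb hc' hd
    rw [show (![a, b, c, d] : V) = ![a, b, 0, 0] + ![0, 0, c, d] by simp]
    exact hadd _ _ (by rw [herm_self_two hF]; linear_combination hpair ha hb)
      (by rw [herm_self_two hF]; linear_combination hpair hc' hd) (by rw [herm_two hF]; ring)
  have h02 : ∀ {a b c d : F}, a ≠ 0 → b ≠ 0 → c ≠ 0 → d ≠ 0 → s ![a, b, c, d] = Q a c + T b d := by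
    intro a b c d ha hb hc' hd
    rw [show (![a, b, c, d] : V) = ![a, 0, c, 0] + ![0, b, 0, d] by simp]
    exact hadd _ _ (by rw [herm_self_two hF]; linear_combination hpair ha hc')
      (by rw [herm_self_two hF]; linear_combination hpair hb hd) (by rw [herm_two hF]; ring)
  have h03 : ∀ {a b c d : F}, a ≠ 0 → b ≠ 0 → c ≠ 0 → d ≠ 0 → s ![a, b, c, d] = U a d + W b c := by
    intro a b c d ha hb hc' hd
    rw [show (![a, b, c, d] : V) = ![a, 0, 0, d] + ![0, b, c, 0] by simp]
    exact hadd _ _ (by rw [herm_self_two hF]; linear_combination hpair ha hd)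
      (by rw [herm_self_two hF]; linear_combination hpair hb hc') (by rw [herm_two hF]; ring)
  -- one linear condition on each of the two pairs
  set A := P 1 1 + ω * P 1 ω + (ω + 1) * P 1 (ω + 1)
  set A' := R 1 1 + ω * R 1 ω + (ω + 1) * R 1 (ω + 1)
  have key : ∀ {c δ : F}, c ≠ 0 → δ ≠ 0 →
      A + (R c δ + ω * R c (ω * δ) + (ω + 1) * R c ((ω + 1) * δ)) = 0 := by
    intro c δ hc' hδ
    have e1 := (h01 one_ne_zero one_ne_zero hc' hδ).symm.trans (h02 one_ne_zero one_ne_zero hc' hδ)
    have e2 := (h01 one_ne_zero hω0 hc' (mul_ne_zero hω0 hδ)).symm.trans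
      (h02 one_ne_zero hω0 hc' (mul_ne_zero hω0 hδ))
    have e3 := (h01 one_ne_zero hω1 hc' (mul_ne_zero hω1 hδ)).symm.trans
      (h02 one_ne_zero hω1 hc' (mul_ne_zero hω1 hδ))
    have t2 := hTs one_ne_zero hδ ω
    have t3 := hTs one_ne_zero hδ (ω + 1)
    rw [mul_one] at t2 t3
    rw [t2] at e2
    rw [t3] at e3
    show P 1 1 + ω * P 1 ω + (ω + 1) * P 1 (ω + 1) + _ = 0
    linear_combination e1 + ω * e2 + (ω + 1) * e3 + (ω + 1) * Q 1 c * h2 + 2 * T 1 δ * hw
  have hk1 := key one_ne_zero one_ne_zero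
  have hk2 := key hω0 hω0
  simp only [mul_one] at hk1
  have r1 : R ω ω = ω * R 1 1 := by simpa using hRs one_ne_zero one_ne_zero ω
  have r2 : R ω (ω * ω) = ω * R 1 ω := by simpa using hRs one_ne_zero hω0 ω
  have r3 : R ω ((ω + 1) * ω) = ω * R 1 (ω + 1) := by simpa [mul_comm ω (ω + 1)] using hRs one_ne_zero hω1 ω
  rw [r1, r2, r3] at hk2
  have hA' : A' = 0 := by
    have : (ω + 1) * A' = 0 := by
      show (ω + 1) * (R 1 1 + ω * R 1 ω + (ω + 1) * R 1 (ω + 1)) = 0
      linear_combination hk1 + hk2 - A * h2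
    exact (mul_eq_zero.1 this).resolve_left hω1
  have hA : A = 0 := by
    have : A + A' = 0 := hk1
    linear_combination this - hA'
  -- solve for a pair of coordinates
  have solve : ∀ (G : F → F → F), (∀ {a b : F}, a ≠ 0 → b ≠ 0 → ∀ t, G (t * a) (t * b) = t * G a b) →
      G 1 1 + ω * G 1 ω + (ω + 1) * G 1 (ω + 1) = 0 →
      ∃ y z : F, ∀ a b, a ≠ 0 → b ≠ 0 → G a b = a * y + b * z := by
    intro G hG hcond
    set z := ω * (G 1 1 + G 1 ω)
    refine ⟨G 1 1 + z, z, fun a b ha hb => ?_⟩
    have hbase : ∀ x : F, x ≠ 0 → G 1 x = G 1 1 + z + x * z := by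
      intro x hx
      rcases hall x with e | e | e | e <;> rw [e] at hx ⊢
      · exact absurd rfl hx
      · linear_combination -z * h2
      · show G 1 ω = G 1 1 + ω * (G 1 1 + G 1 ω) + ω * (ω * (G 1 1 + G 1 ω))
        linear_combination (-(G 1 1 + G 1 ω)) * hw + G 1 ω * h2
      · show G 1 (ω + 1) = G 1 1 + ω * (G 1 1 + G 1 ω) + (ω + 1) * (ω * (G 1 1 + G 1 ω))
        linear_combination (-ω) * hcond + (G 1 (ω + 1) - G 1 1) * hw + (-(ω * G 1 ω)) * h2
    have := hG one_ne_zero (div_ne_zero hb ha) a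
    rw [mul_one, mul_div_cancel₀ _ ha] at this
    rw [this, hbase _ (div_ne_zero hb ha)]
    field_simp
  obtain ⟨y₀, y₁, hP⟩ := solve P hPs hA
  obtain ⟨y₂, y₃, hR⟩ := solve R hRs hA'
  refine ⟨![σ y₀, σ y₁, σ y₂, σ y₃], fun v hv => ?_⟩
  obtain ⟨a, b, c, d, rfl⟩ : ∃ a b c d, v = ![a, b, c, d] :=
    ⟨v 0, v 1, v 2, v 3, funext fun i => by fin_cases i <;> rfl⟩
  rw [herm_self_two hF] at hv
  rw [herm_two hF, ← sq_eq hF, ← sq_eq hF, ← sq_eq hF, ← sq_eq hF, h.invol, h.invol, h.invol, h.invol]
  have hne : ω + 1 ≠ 0 := hω1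
  have hfull : ∀ {a b c d : F}, a ≠ 0 → b ≠ 0 → c ≠ 0 → d ≠ 0 →
      s ![a, b, c, d] = a * y₀ + b * y₁ + (c * y₂ + d * y₃) := fun ha hb hc' hd => by
    rw [h01 ha hb hc' hd, hP _ _ ha hb, hR _ _ hc' hd]
  -- the other pairs, as the four-term relation is linear
  have hQT : ∀ {a b c d : F}, a ≠ 0 → b ≠ 0 → c ≠ 0 → d ≠ 0 →
      Q a c - (a * y₀ + c * y₂) = 0 ∧ T b d - (b * y₁ + d * y₃) = 0 := by
    intro a b c d ha hb hc' hd
    have e1 := (h02 ha hb hc' hd).symm.trans (hfull ha hb hc' hd)
    have e2 := (h02 ha (mul_ne_zero hω0 hb) hc' (mul_ne_zero hω0 hd)).symm.trans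
      (hfull ha (mul_ne_zero hω0 hb) hc' (mul_ne_zero hω0 hd))
    rw [hTs hb hd ω] at e2
    have : (ω - 1) * (T b d - (b * y₁ + d * y₃)) = 0 := by linear_combination e2 - e1
    have hT := (mul_eq_zero.1 this).resolve_left fun e => hne (by linear_combination e + h2)
    exact ⟨by linear_combination e1 - hT, hT⟩
  have hUW : ∀ {a b c d : F}, a ≠ 0 → b ≠ 0 → c ≠ 0 → d ≠ 0 →
      U a d - (a * y₀ + d * y₃) = 0 ∧ W b c - (b * y₁ + c * y₂) = 0 := by
    intro a b c d ha hb hc' hd
    have e1 := (h03 ha hb hc' hd).symm.trans (hfull ha hb hc' hd)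
    have e2 := (h03 ha (mul_ne_zero hω0 hb) (mul_ne_zero hω0 hc') hd).symm.trans
      (hfull ha (mul_ne_zero hω0 hb) (mul_ne_zero hω0 hc') hd)
    rw [hWs hb hc' ω] at e2
    have : (ω - 1) * (W b c - (b * y₁ + c * y₂)) = 0 := by linear_combination e2 - e1
    have hT := (mul_eq_zero.1 this).resolve_left fun e => hne (by linear_combination e + h2)
    exact ⟨by linear_combination e1 - hT, hT⟩
  by_cases ha : a = 0 <;> by_cases hb : b = 0 <;> by_cases hc' : c = 0 <;> by_cases hd : d = 0 <;>
    (try subst ha) <;> (try subst hb) <;> (try subst hc') <;> (try subst hd)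
  -- in order: which coordinates vanish
  · have e0 : (![0, 0, 0, 0] : V) = (0 : F) • ![0, 0, 0, 0] := by simp
    rw [e0, hsmul 0 _ (by rw [herm_self_two hF]; ring)]; ring
  · simp [hc hd] at hv
  · simp [hc hc'] at hv
  · show R c d = _
    rw [hR c d hc' hd]; ring
  · simp [hc hb] at hv
  · show T b d = _
    linear_combination (hQT one_ne_zero hb one_ne_zero hd).2
  · show W b c = _
    linear_combination (hUW one_ne_zero hb hc' one_ne_zero).2
  · rw [hc hb, hc hc', hc hd] at hv
    exact absurd (show (1 : F) = 0 by linear_combination hv - h2) one_ne_zero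
  · simp [hc ha] at hv
  · show U a d = _
    linear_combination (hUW ha one_ne_zero one_ne_zero hd).1
  · show Q a c = _
    linear_combination (hQT ha one_ne_zero hc' one_ne_zero).1
  · rw [hc ha, hc hc', hc hd] at hv
    exact absurd (show (1 : F) = 0 by linear_combination hv - h2) one_ne_zero
  · show P a b = _
    rw [hP a b ha hb]; ring
  · rw [hc ha, hc hb, hc hd] at hv
    exact absurd (show (1 : F) = 0 by linear_combination hv - h2) one_ne_zero
  · rw [hc ha, hc hb, hc hc'] at hv
    exact absurd (show (1 : F) = 0 by linear_combination hv - h2) one_ne_zero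
  · rw [hfull ha hb hc' hd]; ring

/-- A vector moved along the line by the transvections perpendicular to it is on the line. -/
theorem mem_line_of_perp {u w : V} (hu0 : u ≠ 0) (hu : B u u = 0) (hwu : B w u = 0)
    (hz : ∀ z : V, B z z = 0 → B z u = 0 → ∃ t : F, B w z • z = t • u) : ∃ l : F, w = l • u := by
  have h := hermSpace_std hF 4
  have h2 := two_eq_zero hF
  obtain ⟨ω, hω0, hw, -⟩ := exists_omega hF
  set u₀ : V := ![1, 1, 0, 0]
  have hu₀0 : u₀ ≠ 0 := fun e => one_ne_zero (congrFun e 0)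
  obtain ⟨g, hg, rfl⟩ := suV_move hF (m := 4) (by omega) hu₀0
    (show B u₀ u₀ = 0 by rw [herm_self_two hF]; linear_combination h2) hu0 hu
  obtain ⟨w, rfl⟩ := g.surjective w
  have hgi := uGroup_le _ hg
  rw [hgi] at hwu
  obtain ⟨a, b, c, d, rfl⟩ : ∃ a b c d, w = ![a, b, c, d] :=
    ⟨w 0, w 1, w 2, w 3, funext fun i => by fin_cases i <;> rfl⟩
  rw [herm_two hF] at hwu
  have key : ∀ γ : F, γ ≠ 0 → c + d * γ ^ 2 = 0 := fun γ hγ => by
    obtain ⟨t, ht⟩ := hz (g ![0, 0, 1, γ])
      (by rw [hgi, herm_self_two hF, cube_eq_one hF hγ]; linear_combination h2)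
      (by rw [hgi, herm_two hF]; ring)
    rw [hgi, ← map_smul, ← map_smul, g.injective.eq_iff] at ht
    have e := congrFun ht 2
    rw [herm_two hF] at e
    simpa [u₀] using e
  have h1 := key 1 one_ne_zero
  have h3 := key ω hω0
  have hd : d = 0 := by
    have : d * (ω ^ 2 - 1) = 0 := by linear_combination h3 - h1
    exact (mul_eq_zero.1 this).resolve_right fun e => hω0 (by linear_combination hw - e - h2)
  refine ⟨a, ?_⟩
  rw [← map_smul]
  congr 1
  have hc' : c = 0 := by linear_combination h1 - hd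
  have hb : b = a := by linear_combination hwu - a * h2
  funext i
  fin_cases i <;> simp [u₀, hd, hc', hb]

variable {H : Subgroup ((F × F × (Fin 4 → F)) ≃ₗ[F] (F × F × (Fin 4 → F)))}

/-- Every line through the point contains a root point. -/
theorem exists_cone_root (hH : H ≤ suE hF 4) (hL : Light hF H)
    (hlight : ∀ p : E, uExt σ B p p = 0 → ¬ Root (hermSpace_std hF 4).ext H p →
      ∃ g ∈ suE hF 4, g a₀ = p ∧ Light hF (conjSub g⁻¹ H))
    {u : V} (hu : B u u = 0) (hu0 : u ≠ 0) : ∃ s, Root (hermSpace_std hF 4).ext H (s, 0, u) := by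
  have h := hermSpace_std hF 4
  have h2 := two_eq_zero hF
  have hneg : ∀ x : F, -x = x := fun x => by linear_combination (-x) * h2
  have h1sk : (1 : F) + σ 1 = 0 := by rw [map_one]; linear_combination h2
  have hskew : ∀ x : F, x + σ x = 0 → x = 0 ∨ x = 1 := fun x hx => by
    have : x * (x - 1) = 0 := by rw [sq_eq hF] at hx; linear_combination hx - x * h2
    exact (mul_eq_zero.1 this).imp id sub_eq_zero.1
  -- lifts of transvections
  have lift : ∀ z : V, ∃ w c hc, uT hV w c hc * uInd (tv h z 1) ∈ H := fun z => by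
    have : tv h z 1 ∈ leviImg hF H := by rw [hL.levi]; exact tv_mem _ _
    exact this.2
  have happ : ∀ (z : V) (_ : B z z = 0) (w : V) (c : F) (hc : c + σ c + B w w = 0) (p : E),
      (uT hV w c hc * uInd (tv h z 1)) p
        = (p.1 + c * p.2.1 - B (p.2.2 + B p.2.2 z • z) w, p.2.1, p.2.2 + B p.2.2 z • z + p.2.1 • w) := by
    intro z hzz w c hc p
    rw [LinearEquiv.mul_apply, uInd_apply, uT_apply, tv_apply hzz h1sk, one_mul]
  have hself : ∀ (z : V), B z z = 0 → tv h z 1 * tv h z 1 = 1 := fun z hzz =>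
    LinearEquiv.ext fun x => by
      rw [LinearEquiv.mul_apply, tv_apply hzz h1sk, tv_apply hzz h1sk, h.add_left, h.smul_left, hzz,
        one_mul, one_mul, mul_zero, add_zero, add_assoc, ← add_smul]
      rw [show B x z + B x z = 0 by linear_combination (B x z) * h2, zero_smul, add_zero]
      rfl
  have hfix : ∀ {x : E ≃ₗ[F] E} (_ : x ∈ H) (w : V) (c : F) (hc : c + σ c + B w w = 0),
      (∀ p : E, x p = uT hV w c hc p) → x = 1 := by
    intro x hx w c hc hp
    have e : x = uT hV w c hc := LinearEquiv.ext hp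
    rw [e] at hx ⊢
    obtain ⟨rfl, rfl⟩ := hL.eq_one hF hx
    exact uT_zero hV
  obtain ⟨w, c, hc, hX⟩ := lift u
  set X := uT hV w c hc * uInd (tv h u 1) with hXdef
  -- the square is trivial
  have hwu : B w u = 0 := by
    set d : F := c + c - B (tv h u 1 w) w
    have hd : d + σ d + B (w + tv h u 1 w) (w + tv h u 1 w) = 0 := by
      have hki : tv h u 1 ∈ biIsoGroup B := uGroup_le _ (tv_mem _ _)
      simp only [d, map_sub, map_add, h.symm, h.add_left, h.add_right, hki w w]
      linear_combination 2 * hc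
    have e := hfix (H.mul_mem hX hX) (w + tv h u 1 w) d hd fun p => by
      rw [LinearEquiv.mul_apply, hXdef, happ u hu, happ u hu, uT_apply]
      simp only [d, tv_apply hu h1sk, one_mul]
      refine Prod.ext ?_ (Prod.ext rfl ?_)
      · simp only [h.add_left, h.add_right, h.smul_left, h.smul_right, hu]
        linear_combination (-(B p.2.2 u) * B u w) * h2 + B p.2.2 u * h.symm w u
      · simp only [h.add_left, h.smul_left, hu, mul_zero, add_zero]
        match_scalars <;> first
          | ring1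
          | linear_combination (B p.2.2 u) * h2
          | linear_combination (-B p.2.2 u) * h2
    have e1 := congrArg (fun f : E ≃ₗ[F] E => (f ((0 : F), (1 : F), (0 : V))).2.2) e
    simp only [LinearEquiv.mul_apply, hXdef, happ u hu] at e1
    simp only [h.zero_left, zero_smul, add_zero, zero_add, one_smul] at e1
    have e2 : B w u • u = 0 := by
      have : w + B w u • u + w = (0 : V) := e1
      have e3 : w + w = 0 := by rw [← two_smul F w, h2, zero_smul]
      rw [show B w u • u = (w + B w u • u + w) - (w + w) by abel, this, e3, sub_zero]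
    exact (smul_eq_zero.1 e2).resolve_right hu0
  -- lifts of perpendicular transvections commute with it
  obtain ⟨l, rfl⟩ := mem_line_of_perp hF hu0 hu hwu fun z hzz hzu => by
    obtain ⟨w', c', hc', hY⟩ := lift z
    set Y := uT hV w' c' hc' * uInd (tv h z 1) with hYdef
    have huz : B u z = 0 := by rw [← h.symm, hzu, map_zero]
    have hcomm : tv h u 1 * tv h z 1 = tv h z 1 * tv h u 1 := LinearEquiv.ext fun x => by
      simp only [LinearEquiv.mul_apply, tv_apply hu h1sk, tv_apply hzz h1sk, one_mul, h.add_left,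
        h.smul_left, hzu, huz, mul_zero, add_zero]
      abel
    have hXY := H.mul_mem (H.mul_mem hX hY) (H.inv_mem (H.mul_mem hY hX))
    obtain ⟨D, hD, K, hK, e⟩ : ∃ D hD K, ∃ _ : K = (1 : V ≃ₗ[F] V),
        X * Y * (Y * X)⁻¹ = uT hV ((w + tv h u 1 w') + -(w' + tv h z 1 w)) D hD * uInd K := by
      have hku : tv h u 1 ∈ biIsoGroup B := uGroup_le _ (tv_mem _ _)
      have hkz : tv h z 1 ∈ biIsoGroup B := uGroup_le _ (tv_mem _ _)
      have move : ∀ (k : V ≃ₗ[F] V) (hk : k ∈ biIsoGroup B) (v : V) (b : F) (hb : b + σ b + B v v = 0),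
          uInd k * uT hV v b hb = uT hV (k v) b (by rw [hk, hb]) * uInd k := fun k hk v b hb =>
        mul_inv_eq_iff_eq_mul.1 (Fusion.SUData.uInd_conj_uT hV hk v b hb)
      have e1 : X * Y = uT hV w c hc * uT hV (tv h u 1 w') c' (by rw [hku, hc'])
          * uInd (tv h u 1 * tv h z 1) := by
        rw [hXdef, hYdef, mul_assoc, ← mul_assoc (uInd (tv h u 1)), move _ hku, uInd_mul']
        group
      have e2 : Y * X = uT hV w' c' hc' * uT hV (tv h z 1 w) c (by rw [hkz, hc])
          * uInd (tv h z 1 * tv h u 1) := by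
        rw [hXdef, hYdef, mul_assoc, ← mul_assoc (uInd (tv h z 1)), move _ hkz, uInd_mul']
        group
      rw [e1, e2, hcomm, mul_inv_rev, mul_assoc, mul_inv_cancel_left, uT_mul, uT_mul, uT_inv, uT_mul]
      exact ⟨_, _, 1, rfl, by rw [uInd_one', mul_one]⟩
    rw [e] at hXY
    subst hK
    rw [uInd_one', mul_one] at hXY
    have e0 := (hL.eq_one hF hXY).1
    refine ⟨B w' u, ?_⟩
    rw [tv_apply hu h1sk, tv_apply hzz h1sk, one_mul, one_mul, ← sub_eq_add_neg, sub_eq_zero] at e0
    have e0' : B w' u • u = B w z • z := by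
      have : w + w' + B w' u • u = w + w' + B w z • z := by
        rw [add_assoc, e0]; abel
      exact add_left_cancel this
    exact e0'.symm
  -- the point of the line
  have hc2 : c = 0 ∨ c = 1 := hskew c (by simpa [h.smul_left, h.smul_right, hu] using hc)
  have hl2 : l * σ l = 0 ∨ l * σ l = 1 := hskew _ (by
    rw [map_mul, h.invol]; linear_combination (l * σ l) * h2)
  have hX' : ∀ p : E, X p = (p.1 + c * p.2.1 - σ l * B p.2.2 u, p.2.1,
      p.2.2 + (B p.2.2 u + l * p.2.1) • u) := fun p => by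
    rw [hXdef, happ u hu]
    refine Prod.ext ?_ (Prod.ext rfl ?_)
    · simp [h.smul_right, h.add_left, h.smul_left, hu, -Forms.qPowHom_apply]
    · simp only [add_smul, smul_smul, mul_comm l, add_assoc]
  by_cases hr : c + l * σ l = 0
  · -- a transvection
    refine ⟨σ l, by simp [uExt, hu, -Forms.qPowHom_apply], fun d hd => ?_⟩
    have hpp : uExt σ B ((σ l : F), (0 : F), u) (σ l, 0, u) = 0 := by simp [uExt, hu, -Forms.qPowHom_apply]
    rcases hskew d hd with rfl | rfl
    · have : tv h.ext ((σ l : F), (0 : F), u) 0 = 1 := LinearEquiv.ext fun x => by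
        rw [tv_apply hpp hd, zero_mul, zero_smul, add_zero]; rfl
      rw [this]; exact H.one_mem
    · have : tv h.ext ((σ l : F), (0 : F), u) 1 = X := LinearEquiv.ext fun x => by
        rw [tv_apply hpp hd, hX']
        simp only [uExt, one_mul, map_zero, mul_zero, zero_add, h.invol, Prod.smul_mk, smul_eq_mul]
        refine Prod.ext ?_ (Prod.ext (by simp) ?_)
        · show x.1 + (x.2.1 * l + B x.2.2 u) * σ l = x.1 + c * x.2.1 - σ l * B x.2.2 u
          linear_combination (-x.2.1) * hr + (x.2.1 * l * σ l + B x.2.2 u * σ l) * h2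
        · show x.2.2 + (x.2.1 * l + B x.2.2 u) • u = x.2.2 + (B x.2.2 u + l * x.2.1) • u
          rw [mul_comm x.2.1, add_comm (l * x.2.1)]
      rw [this]; exact hX
  · -- a radical element at another point of the line
    have hcl : c + l * σ l = 1 := by
      rcases hc2 with e | e <;> rcases hl2 with e' | e' <;> rw [e, e'] at hr ⊢
      · simp at hr
      · ring
      · ring
      · exact absurd (by linear_combination h2) hr
    refine ⟨σ l + 1, ?_⟩
    by_contra hnr
    have hpp : uExt σ B ((σ l + 1 : F), (0 : F), u) (σ l + 1, 0, u) = 0 := by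
      simp [uExt, hu, -Forms.qPowHom_apply]
    obtain ⟨g, hg, hga, hLg⟩ := hlight _ hpp hnr
    have hgi := uGroup_le _ hg
    set Z := g⁻¹ * X * g with hZ
    have hZH : Z ∈ conjSub g⁻¹ H := by
      rw [mem_conjSub, hZ]; simpa [mul_assoc] using hX
    have hZs : Z ∈ suE hF 4 := conjSub_le (inv_mem hgi) hH hZH
    have hZa : Z a₀ = a₀ := by
      rw [hZ, LinearEquiv.mul_apply, LinearEquiv.mul_apply, hga, hX']
      simp only [mul_zero, add_zero, hu, zero_smul, sub_zero]
      rw [← hga]
      exact g.symm_apply_apply _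
    obtain ⟨w', c', hc', k, -, hdec⟩ := fix_decomp hF hZs hZa
    have hk : k = 1 := LinearEquiv.ext fun v => by
      have hy : uExt σ B (g ((0 : F), (0 : F), v)) (σ l + 1, 0, u) = 0 := by
        rw [← hga, hgi]; simp [uExt, h.zero_right, -Forms.qPowHom_apply]
      obtain ⟨y₁, y₂, y₃, hgy⟩ : ∃ y₁ y₂ y₃, g ((0 : F), (0 : F), v) = (y₁, y₂, y₃) := ⟨_, _, _, rfl⟩
      rw [hgy] at hy
      simp only [uExt, map_zero, mul_zero, zero_add, map_add, map_one, h.invol] at hy
      have hZv : Z ((0 : F), (0 : F), v) = (y₂, 0, v) := by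
        rw [hZ, LinearEquiv.mul_apply, LinearEquiv.mul_apply, hgy, hX']
        show g.symm _ = _
        rw [LinearEquiv.symm_apply_eq, show ((y₂ : F), (0 : F), v) = y₂ • a₀ + (0, 0, v) by simp,
          map_add, map_smul, hga, hgy]
        simp only [Prod.smul_mk, smul_eq_mul, mul_zero, Prod.mk_add_mk, zero_add]
        refine Prod.ext ?_ (Prod.ext rfl ?_)
        · show y₁ + c * y₂ - σ l * B y₃ u = y₂ * (σ l + 1) + y₁
          linear_combination y₂ * hcl - σ l * hy + (y₂ * σ l * 0) * h2
        · show y₃ + (B y₃ u + l * y₂) • u = y₂ • u + y₃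
          rw [add_comm (y₂ • u), show B y₃ u + l * y₂ = y₂ by linear_combination hy - y₂ * h2]
      have e := congrArg (fun f : E ≃ₗ[F] E => (f ((0 : F), (0 : F), v)).2.2) hdec
      simp only [LinearEquiv.mul_apply, hZv, uInd_apply, uT_apply, zero_smul, add_zero] at e
      exact e.symm
    subst hk
    rw [uInd_one', mul_one] at hdec
    rw [hdec] at hZH
    obtain ⟨rfl, rfl⟩ := hLg.eq_one hF hZH
    rw [uT_zero, hZ] at hdec
    have hX1 : X = 1 := by
      have := congrArg (fun f => g * f * g⁻¹) hdec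
      simpa [mul_assoc] using this
    -- but it moves a vector off the line
    obtain ⟨v, hv⟩ : ∃ v, B v u ≠ 0 := by
      by_contra hall
      push Not at hall
      exact hu0 (h.nondeg u fun z => by rw [← h.symm, hall, map_zero])
    have e := congrArg (fun p : E => p.2.2) (hX' ((0 : F), (0 : F), v))
    rw [hX1] at e
    have e2 : B v u • u = 0 := by simpa using e.symm
    exact hu0 ((smul_eq_zero.1 e2).resolve_left hv)

/-- A light subgroup with all root groups of a complement. -/
theorem exists_frame_four (hH : H ≤ suE hF 4) (hL : Light hF H) (hcl : PerpClosed hF H)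
    (hlight : ∀ p : E, uExt σ B p p = 0 → ¬ Root (hermSpace_std hF 4).ext H p →
      ∃ g ∈ suE hF 4, g a₀ = p ∧ Light hF (conjSub g⁻¹ H)) :
    ∃ (x : V) (c : F) (hc : c + σ c + B x x = 0),
      ∀ u : V, B u u = 0 → Root (hermSpace_std hF 4).ext (conjSub (uT hV x c hc) H) (0, 0, u) := by
  classical
  have h := hermSpace_std hF 4
  have hex : ∀ v : V, ∃ s : F, B v v = 0 → v ≠ 0 → Root h.ext H (s, 0, v) := fun v => by
    by_cases hv : B v v = 0 ∧ v ≠ 0
    · obtain ⟨s, hs⟩ := exists_cone_root hF hH hL hlight hv.1 hv.2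
      exact ⟨s, fun _ _ => hs⟩
    · exact ⟨0, fun a b => absurd ⟨a, b⟩ hv⟩
  choose s₀ hs₀ using hex
  let s : V → F := fun v => if v = 0 then 0 else s₀ v
  have hroot : ∀ v : V, B v v = 0 → Root h.ext H (s v, 0, v) := fun v hv => by
    by_cases hv0 : v = 0
    · subst hv0; simp only [s, if_pos rfl]; exact root_zero h.ext H
    · simpa [s, hv0] using hs₀ v hv hv0
  have huniq : ∀ (v : V) (t : F), Root h.ext H (t, 0, v) → v ≠ 0 → B v v = 0 → t = s v :=
    fun v t ht hv0 hv => hL.unique hF hH hv0 ht (hroot v hv)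
  obtain ⟨x, hx⟩ := linear_of_perp hF s (fun a v hv => by
      by_cases h0 : a • v = 0
      · rcases smul_eq_zero.1 h0 with rfl | rfl <;> simp [s]
      · have := (hroot v hv).smul a
        simp only [Prod.smul_mk, smul_eq_mul, mul_zero] at this
        exact (huniq _ _ this h0 (by rw [h.smul_left, h.smul_right, hv, mul_zero, mul_zero])).symm)
    (fun v w hv hw hvw => by
      have hvw' : B (v + w) (v + w) = 0 := by
        simp [h.add_left, h.add_right, hv, hw, hvw, show B w v = 0 by rw [← h.symm, hvw, map_zero]]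
      have := hcl _ _ (hroot v hv) (hroot w hw) (by simp [uExt, hvw, -Forms.qPowHom_apply])
      simp only [Prod.mk_add_mk, add_zero] at this
      by_cases h0 : v + w = 0
      · obtain rfl : w = -v := eq_neg_of_add_eq_zero_right h0
        by_cases hv0 : v = 0
        · subst hv0; simp [s]
        have h1 := (hroot v hv).smul (-1 : F)
        simp only [neg_smul, one_smul, Prod.neg_mk, neg_zero] at h1
        rw [h0, show s (0 : V) = 0 by simp [s], ← huniq _ _ h1 (neg_ne_zero.2 hv0) hw, add_neg_cancel]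
      · exact (huniq _ _ this h0 hvw').symm)
  obtain ⟨c, hc⟩ := h.exists_fill x
  refine ⟨x, c, hc, fun u hu => ?_⟩
  have e : ((0 : F), (0 : F), u) = uT hV x c hc (s u, 0, u) := by
    rw [uT_apply, hx u hu]; simp
  rw [e, root_conjSub (uGroup_le _ (uT_mem hV x c hc))]
  exact hroot u hu

end Cfsg.Agent.Lib.MinIndexUnitary
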