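import Cfsg.Agent.Lib.MinIndexUnitary.ThreeLattice

/-!
# Minimal index in unitary groups: subgroups inducing a proper subgroup on a complement

The orbit formula reduces the bound to the bound for the smaller group; in dimension three the case
of a trivial centre part needs the stabilisers of the group of radical vectors.
-/

set_option autoImplicit false
set_option linter.unusedSectionVars false

namespace Cfsg.Agent.Lib.MinIndexUnitary

open Cfsg.Agent.Lib.Classical Cfsg.Agent.Lib.MinDegree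

variable {F : Type*} [Field F] [Fintype F] {q : ℕ} (hF : Fintype.card F = q ^ 2) {m : ℕ}

local notation "σ" => Forms.qPowHom hF
local notation "V" => (Fin m → F)
local notation "E" => (F × F × (Fin m → F))
local notation "hV" => hermSpace_std hF m
local notation "B" => Cfsg.hermForm m F q
local notation "a₀" => ((1 : F), (0 : F), (0 : Fin m → F))

variable {H : Subgroup ((F × F × (Fin m → F)) ≃ₗ[F] (F × F × (Fin m → F)))}

theorem radVec_leviImg {k : V ≃ₗ[F] V} (hk : k ∈ leviImg hF H) {w : V} (hw : w ∈ radVec hF H) :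
    k w ∈ radVec hF H := by
  obtain ⟨c, hc, hm⟩ := hw
  obtain ⟨hk, v, d, hd, hm'⟩ := hk
  have hi := uGroup_le _ hk
  have h3 := H.mul_mem (H.mul_mem hm' hm) (H.inv_mem hm')
  rw [show uT hV v d hd * uInd k * uT hV w c hc * (uT hV v d hd * uInd k)⁻¹
      = uT hV v d hd * (uInd k * uT hV w c hc * (uInd k)⁻¹) * (uT hV v d hd)⁻¹ by group,
    Fusion.SUData.uInd_conj_uT hV hi] at h3
  obtain ⟨hc', e⟩ := Fusion.SUData.uT_conj_uT hV v (k w) d c hd (by rw [hi, hc])
  rw [e] at h3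
  exact ⟨_, hc', h3⟩

theorem leviImg_le : leviImg hF H ≤ suV hF m := fun _ hk => hk.1

theorem pointNum_five {q : ℕ} : pointNum q 5 = q ^ 7 + q ^ 5 + q ^ 2 + 1 := by
  simp [pointNum]; ring

/-- The inductive bound, off by the radical vectors. -/
theorem proper_bound (hm : 1 ≤ m) {b : ℕ} (hb : b ≤ (leviImg hF H).relIndex (suV hF m))
    (hH : H ≤ suE hF m) (ha : ¬ Root (hermSpace_std hF m).ext H a₀) :
    b * q ^ (m + 1) ≤ H.relIndex (suE hF m) := by
  have hp := point_bound hF H hm hH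
  obtain ⟨hg, -⟩ := scalar_gain hF H hH ha
  have hW := radVec_card hF H ha
  have hz : 0 < Nat.card (centreVal hF H) := Nat.card_pos
  have hq := two_le_q hF
  refine Nat.le_of_mul_le_mul_right (c := q ^ m * Nat.card (centreVal hF H)) ?_
    (Nat.mul_pos (pow_pos (by omega) _) hz)
  calc b * q ^ (m + 1) * (q ^ m * Nat.card (centreVal hF H))
      = Nat.card (centreVal hF H) * b * q ^ (2 * m + 1) := by
        rw [show 2 * m + 1 = m + 1 + m by ring, pow_add]; ring
    _ ≤ (pointScalars H).index * (leviImg hF H).relIndex (suV hF m) * q ^ (2 * m + 1) :=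
      Nat.mul_le_mul_right _ (Nat.mul_le_mul hg hb)
    _ ≤ H.relIndex (suE hF m) * (Nat.card (radVec hF H) * Nat.card (centreVal hF H)) := hp
    _ ≤ _ := Nat.mul_le_mul_left _ (Nat.mul_le_mul_right _ hW)

/-- Dimension at least seven, from the bound two dimensions below. -/
theorem proper_large (hm : 5 ≤ m) (hH : H ≤ suE hF m) (ha : ¬ Root (hermSpace_std hF m).ext H a₀)
    (hb : pointNum q m ≤ (leviImg hF H).relIndex (suV hF m)) :
    pointNum q (m + 2) ≤ H.relIndex (suE hF m) := by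
  refine le_trans ?_ (proper_bound hF (by omega) hb hH ha)
  have hq := two_le_q hF
  obtain ⟨j, rfl⟩ : ∃ j, m = j + 2 := ⟨m - 2, by omega⟩
  have hN : q ^ (2 * j + 1) ≤ pointNum q (j + 2) := pointNum_ge
  rw [show pointNum q (j + 2 + 2) = 1 + q ^ 2 * pointNum q (j + 2) + q ^ (2 * (j + 2) + 1) from pointNum.eq_3 q _,
    show q ^ (2 * (j + 2) + 1) = q ^ 4 * q ^ (2 * j + 1) by ring,
    show q ^ (j + 2 + 1) = q ^ (j + 3) from rfl]
  have h1 : q ^ 2 + q ^ 4 + 1 ≤ q ^ (j + 3) := by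
    have h6 : q ^ 6 ≤ q ^ (j + 3) := Nat.pow_le_pow_right (by omega) (by omega)
    have h22 : q ^ 2 ≤ q ^ 4 := Nat.pow_le_pow_right (by omega) (by omega)
    have h64 : 4 * q ^ 4 ≤ q ^ 6 := by
      rw [show q ^ 6 = q ^ 2 * q ^ 4 by ring]
      exact Nat.mul_le_mul_right _ (by nlinarith)
    have : 1 ≤ q ^ 4 := Nat.one_le_pow _ _ (by omega)
    omega
  have h1N : 1 ≤ pointNum q (j + 2) := le_trans (Nat.one_le_pow _ _ (by omega)) hN
  calc 1 + q ^ 2 * pointNum q (j + 2) + q ^ 4 * q ^ (2 * j + 1)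
      ≤ 1 * pointNum q (j + 2) + q ^ 2 * pointNum q (j + 2) + q ^ 4 * pointNum q (j + 2) := by
        rw [one_mul]
        exact Nat.add_le_add (Nat.add_le_add_right h1N _) (Nat.mul_le_mul_left _ hN)
    _ = pointNum q (j + 2) * (q ^ 2 + q ^ 4 + 1) := by ring
    _ ≤ _ := Nat.mul_le_mul_left _ h1

include hF in
/-- An invariant real group of radical vectors in dimension three costs enough index. -/
theorem three_invariant {M : Subgroup ((Fin 3 → F) ≃ₗ[F] (Fin 3 → F))} (hM : M ≤ suV hF 3)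
    (hne : M ≠ suV hF 3) (W : AddSubgroup (Fin 3 → F)) (hinv : ∀ g ∈ M, ∀ w ∈ W, g w ∈ W)
    (hreal : ∀ w ∈ W, ∀ w' ∈ W,
      σ (Cfsg.hermForm 3 F q w w') = Cfsg.hermForm 3 F q w w')
    (hcard : Nat.card W ≤ q ^ 3) :
    (q ^ 7 + q ^ 5 + q ^ 2 + 1) * Nat.card W ≤ M.relIndex (suV hF 3) * q ^ 7 := by
  classical
  have h := hermSpace_std hF 3
  have hq := two_le_q hF
  set μ := M.relIndex (suV hF 3) with hμ
  have e25 : q ^ 5 + q ^ 2 + 1 ≤ q ^ 7 := by
    have a : 4 * q ^ 5 ≤ q ^ 7 := by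
      rw [show q ^ 7 = q ^ 2 * q ^ 5 by ring]; exact Nat.mul_le_mul_right _ (by nlinarith)
    have b : q ^ 2 ≤ q ^ 5 := Nat.pow_le_pow_right (by omega) (by omega)
    have : 1 ≤ q ^ 5 := Nat.one_le_pow _ _ (by omega)
    omega
  have small : Nat.card W ≤ q ^ 2 → q ^ 2 + 2 ≤ μ →
      (q ^ 7 + q ^ 5 + q ^ 2 + 1) * Nat.card W ≤ μ * q ^ 7 := fun h1 h2 => by
    refine (Nat.mul_le_mul_left _ h1).trans ((le_of_eq (by ring : (q ^ 7 + q ^ 5 + q ^ 2 + 1) * q ^ 2
      = q ^ 2 * q ^ 7 + (q ^ 7 + q ^ 4 + q ^ 2))).trans ?_)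
    refine le_trans ?_ (Nat.mul_le_mul_right _ h2)
    have : q ^ 4 + q ^ 2 ≤ q ^ 7 := by
      have b : q ^ 2 ≤ q ^ 4 := Nat.pow_le_pow_right (by omega) (by omega)
      have a : 8 * q ^ 4 ≤ q ^ 7 := by
        rw [show q ^ 7 = q ^ 3 * q ^ 4 by ring]
        exact Nat.mul_le_mul_right _ (le_trans (by norm_num) (Nat.pow_le_pow_left hq 3))
      omega
    rw [add_mul (q ^ 2) 2]
    omega
  by_cases hW : ∀ w ∈ W, w = 0
  · have h1 : Nat.card W = 1 := by
      rw [show W = ⊥ from (AddSubgroup.eq_bot_iff_forall _).2 hW, AddSubgroup.card_bot]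
    have h2 : 2 ≤ μ := by
      have h0 : μ ≠ 0 := Subgroup.index_ne_zero_of_finite
      have h1 : μ ≠ 1 := fun e => hne (le_antisymm hM (Subgroup.relIndex_eq_one.1 e))
      omega
    rw [h1, mul_one]
    calc _ ≤ 2 * q ^ 7 := by omega
      _ ≤ _ := Nat.mul_le_mul_right _ h2
  push Not at hW
  obtain ⟨w₁, hw₁, hw₁0⟩ := hW
  by_cases hone : ∀ w ∈ W, ∃ a : F, w = a • w₁
  · -- one line
    have hWq : Nat.card W ≤ q ^ 2 := by
      rw [← natCard_field hF]
      choose a ha using fun w : W => hone w.1 w.2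
      exact Nat.card_le_card_of_injective a fun x y e => Subtype.ext (by rw [ha x, ha y, e])
    have hfix : ∀ g ∈ M, ∃ a : F, g w₁ = a • w₁ := fun g hg => hone _ (hinv g hg _ hw₁)
    refine small hWq ?_
    by_cases h11 : Cfsg.hermForm 3 F q w₁ w₁ = 0
    · refine le_trans ?_ (iso_stab_index hF hw₁0 h11 hfix)
      have : 2 * q ^ 2 ≤ q ^ 3 := by rw [pow_succ' q 2]; exact Nat.mul_le_mul_right _ hq
      have : 2 ≤ q ^ 2 := le_trans hq (Nat.le_self_pow two_ne_zero q)
      omega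
    · exact aniso_stab_index hF h11 hfix
  push Not at hone
  obtain ⟨w₂, hw₂, hw₂'⟩ := hone
  by_cases hthree : ∃ w₃ ∈ W, LinearIndependent F ![w₁, w₂, w₃]
  · obtain ⟨w₃, hw₃, hind⟩ := hthree
    have h1 := lattice_index hF hM W hinv hreal (b := ![w₁, w₂, w₃])
      (fun i => by fin_cases i <;> simpa) hind
    calc (q ^ 7 + q ^ 5 + q ^ 2 + 1) * Nat.card W ≤ (q ^ 7 + q ^ 5 + q ^ 2 + 1) * q ^ 3 :=
          Nat.mul_le_mul_left _ hcard
      _ = q ^ 10 + q ^ 8 + q ^ 5 + q ^ 3 := by ring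
      _ ≤ q ^ 12 + q ^ 9 := by
          have a : 4 * q ^ 10 ≤ q ^ 12 := by
            rw [show q ^ 12 = q ^ 2 * q ^ 10 by ring]; exact Nat.mul_le_mul_right _ (by nlinarith)
          have : q ^ 8 ≤ q ^ 10 := Nat.pow_le_pow_right (by omega) (by omega)
          have : q ^ 5 ≤ q ^ 10 := Nat.pow_le_pow_right (by omega) (by omega)
          have : q ^ 3 ≤ q ^ 10 := Nat.pow_le_pow_right (by omega) (by omega)
          omega
      _ = q ^ 2 * (q ^ 3 + 1) * q ^ 7 := by ring
      _ ≤ _ := Nat.mul_le_mul_right _ h1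
  push Not at hthree
  -- two dimensions
  have h12 : LinearIndependent F ![w₁, w₂] := by
    rw [LinearIndependent.pair_iff]
    intro s t e
    by_cases ht : t = 0
    · rw [ht, zero_smul, add_zero, smul_eq_zero, or_iff_left hw₁0] at e
      exact ⟨e, ht⟩
    · refine absurd ?_ (hw₂' (-(t⁻¹ * s)))
      have : t • w₂ = -(s • w₁) := eq_neg_of_add_eq_zero_right e
      rw [← inv_smul_smul₀ ht w₂, this, smul_neg, smul_smul, neg_smul]
  have hWS : ∀ w ∈ W, w ∈ Submodule.span F (Set.range ![w₁, w₂]) := by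
    intro w hw
    by_contra hns
    refine hthree w hw ?_
    have h2 := h12.finSnoc hns
    have e3 : (Fin.snoc ![w₁, w₂] w : Fin 3 → (Fin 3 → F)) = ![w₁, w₂, w] := by
      ext i : 1
      fin_cases i <;> rfl
    exact e3 ▸ h2
  obtain ⟨n, hn0, hn1, hn2⟩ : ∃ n : Fin 3 → F, n ≠ 0 ∧ Cfsg.hermForm 3 F q n w₁ = 0 ∧
      Cfsg.hermForm 3 F q n w₂ = 0 := by
    let L : (Fin 3 → F) →ₗ[F] F × F :=
      { toFun := fun v => (Cfsg.hermForm 3 F q v w₁, Cfsg.hermForm 3 F q v w₂)
        map_add' := fun v v' => by simp [h.add_left]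
        map_smul' := fun s v => by simp [h.smul_left] }
    have hker : L.ker ≠ ⊥ := fun e => by
      have := LinearMap.finrank_le_finrank_of_injective (LinearMap.ker_eq_bot.1 e)
      simp at this
    obtain ⟨g, hg, hg0⟩ := Submodule.exists_mem_ne_zero_of_ne_bot hker
    obtain ⟨e1, e2⟩ := Prod.ext_iff.1 (LinearMap.mem_ker.1 hg)
    exact ⟨g, hg0, e1, e2⟩
  have hnW : ∀ w ∈ W, Cfsg.hermForm 3 F q n w = 0 := fun w hw => by
    obtain ⟨c, rfl⟩ := (Submodule.mem_span_range_iff_exists_fun F).1 (hWS w hw)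
    simp [Fin.sum_univ_two, h.add_right, h.smul_right, hn1, hn2]
  -- every vector orthogonal to the group is a multiple of the normal
  have hperp : ∀ y : Fin 3 → F, Cfsg.hermForm 3 F q y w₁ = 0 → Cfsg.hermForm 3 F q y w₂ = 0 →
      ∃ a : F, y = a • n := by
    intro y hy1 hy2
    obtain ⟨i, hi⟩ : ∃ i : Fin 3, Cfsg.hermForm 3 F q n (Pi.single i 1) ≠ 0 := by
      by_contra hall
      push Not at hall
      refine hn0 (h.nondeg n fun z => ?_)
      conv_lhs => rw [show z = ∑ j, z j • (Pi.single j (1 : F) : Fin 3 → F) from pi_eq_sum_univ' z]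
      simp [Fin.sum_univ_three, h.add_right, h.smul_right, hall]
    set z : Fin 3 → F := Pi.single i 1
    have hz : z ∉ Submodule.span F (Set.range ![w₁, w₂]) := fun hz => hi (by
      obtain ⟨c, e⟩ := (Submodule.mem_span_range_iff_exists_fun F).1 hz
      rw [← e]
      simp [Fin.sum_univ_two, h.add_right, h.smul_right, hn1, hn2])
    have hb := (h12.finSnoc hz).span_eq_top_of_card_eq_finrank (by simp)
    refine ⟨Cfsg.hermForm 3 F q y z / Cfsg.hermForm 3 F q n z, sub_eq_zero.1 (h.nondeg _ fun v => ?_)⟩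
    obtain ⟨c, rfl⟩ := (Submodule.mem_span_range_iff_exists_fun F).1 (hb ▸ Submodule.mem_top (x := v))
    have e0 : (Fin.snoc ![w₁, w₂] z : Fin 3 → Fin 3 → F) 0 = w₁ := rfl
    have e1 : (Fin.snoc ![w₁, w₂] z : Fin 3 → Fin 3 → F) 1 = w₂ := rfl
    have e2 : (Fin.snoc ![w₁, w₂] z : Fin 3 → Fin 3 → F) 2 = z := rfl
    rw [Fin.sum_univ_three, e0, e1, e2]
    simp only [h.add_right, h.smul_right, h.sub_left, h.smul_left, hy1, hy2, hn1, hn2]
    field_simp
    ring
  have hfix : ∀ g ∈ M, ∃ a : F, g n = a • n := fun g hg => by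
    have hgi := uGroup_le _ (hM hg)
    refine hperp _ ?_ ?_
    · have := hnW _ (hinv _ (M.inv_mem hg) w₁ hw₁)
      rw [← hgi] at this
      change Cfsg.hermForm 3 F q (g n) (g (g.symm w₁)) = 0 at this
      rwa [g.apply_symm_apply] at this
    · have := hnW _ (hinv _ (M.inv_mem hg) w₂ hw₂)
      rw [← hgi] at this
      change Cfsg.hermForm 3 F q (g n) (g (g.symm w₂)) = 0 at this
      rwa [g.apply_symm_apply] at this
  by_cases hnn : Cfsg.hermForm 3 F q n n = 0
  · -- a degenerate plane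
    obtain ⟨w, hw, hwn⟩ : ∃ w ∈ W, ∀ a : F, w ≠ a • n := by
      by_contra hall
      push Not at hall
      obtain ⟨a, ha⟩ := hall w₁ hw₁
      obtain ⟨c, hc⟩ := hall w₂ hw₂
      have ha0 : a ≠ 0 := fun e => hw₁0 (by rw [ha, e, zero_smul])
      exact hw₂' (c / a) (by rw [hc, ha, smul_smul, div_mul_cancel₀ _ ha0])
    have hwr : Cfsg.hermForm 3 F q w n = 0 := by rw [← h.symm, hnW w hw, map_zero]
    have hww : Cfsg.hermForm 3 F q w w ≠ 0 := by
      intro e
      obtain ⟨a, ha⟩ := PSUAut.eq_of_orth h hn0 hnn e fun z _ hzz hzn => by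
        -- the perpendicular of the normal is spanned by the group
        by_contra hzw
        have hspan2 : LinearIndependent F ![n, w] := by
          rw [LinearIndependent.pair_iff]
          intro s t e'
          by_cases ht : t = 0
          · rw [ht, zero_smul, add_zero, smul_eq_zero, or_iff_left hn0] at e'
            exact ⟨e', ht⟩
          · refine absurd ?_ (hwn (-(t⁻¹ * s)))
            have : t • w = -(s • n) := eq_neg_of_add_eq_zero_right e'
            rw [← inv_smul_smul₀ ht w, this, smul_neg, smul_smul, neg_smul]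
        have hz' : z ∉ Submodule.span F (Set.range ![n, w]) := fun hz' => hzw (by
          obtain ⟨c, ec⟩ := (Submodule.mem_span_range_iff_exists_fun F).1 hz'
          rw [← ec]
          simp [Fin.sum_univ_two, h.add_left, h.smul_left, hnW w hw, e])
        have hb := (hspan2.finSnoc hz').span_eq_top_of_card_eq_finrank (by simp)
        refine hn0 (h.nondeg n fun v => ?_)
        obtain ⟨c, rfl⟩ := (Submodule.mem_span_range_iff_exists_fun F).1 (hb ▸ Submodule.mem_top (x := v))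
        have e0 : (Fin.snoc ![n, w] z : Fin 3 → Fin 3 → F) 0 = n := rfl
        have e1 : (Fin.snoc ![n, w] z : Fin 3 → Fin 3 → F) 1 = w := rfl
        have e2 : (Fin.snoc ![n, w] z : Fin 3 → Fin 3 → F) 2 = z := rfl
        rw [Fin.sum_univ_three, e0, e1, e2]
        have hnz : Cfsg.hermForm 3 F q n z = 0 := by rw [← h.symm, hzn, map_zero]
        simp [h.add_right, h.smul_right, hnn, hnW w hw, hnz]
      exact hwn a ha
    obtain ⟨g, hg, ⟨a, hga⟩, hgw⟩ := exists_torus_move hF hn0 hnn hwr hww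
    let L : Subgroup ((Fin 3 → F) ≃ₗ[F] (Fin 3 → F)) :=
      { carrier := {k | k ∈ suV hF 3 ∧ ∃ a : F, k n = a • n}
        one_mem' := ⟨one_mem _, 1, by simp⟩
        mul_mem' := fun {k l} ⟨hk, a, ea⟩ ⟨hl, c, ec⟩ => ⟨mul_mem hk hl, c * a, by
          rw [LinearEquiv.mul_apply, ec, map_smul, ea, smul_smul]⟩
        inv_mem' := fun {k} ⟨hk, a, ea⟩ => ⟨inv_mem hk, a⁻¹, by
          have ha : a ≠ 0 := fun e => hn0 (k.map_eq_zero_iff.1 (by rw [ea, e, zero_smul]))
          show k.symm n = _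
          rw [LinearEquiv.symm_apply_eq, map_smul, ea, smul_smul, inv_mul_cancel₀ ha, one_smul]⟩ }
    have hML : M ≤ L := fun k hk => ⟨hM hk, hfix k hk⟩
    have hLle : L ≤ suV hF 3 := fun k hk => hk.1
    have hL1 : q ^ 3 + 1 ≤ L.relIndex (suV hF 3) := iso_stab_index hF hn0 hnn fun k hk => hk.2
    have hML2 : 2 ≤ M.relIndex L := by
      have h0 : M.relIndex L ≠ 0 := Subgroup.index_ne_zero_of_finite
      have h1 : M.relIndex L ≠ 1 := fun e => by
        have hgM : g ∈ M := Subgroup.relIndex_eq_one.1 e ⟨hg, a, hga⟩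
        exact hgw (hreal _ (hinv g hgM w hw) w hw)
      omega
    have hμ2 : 2 * (q ^ 3 + 1) ≤ μ := by
      rw [hμ, ← Subgroup.relIndex_mul_relIndex M L (suV hF 3) hML hLle]
      exact Nat.mul_le_mul hML2 hL1
    calc (q ^ 7 + q ^ 5 + q ^ 2 + 1) * Nat.card W ≤ (q ^ 7 + q ^ 7) * q ^ 3 :=
          Nat.mul_le_mul (by omega) hcard
      _ ≤ 2 * (q ^ 3 + 1) * q ^ 7 := by
          rw [show 2 * (q ^ 3 + 1) * q ^ 7 = (q ^ 7 + q ^ 7) * q ^ 3 + 2 * q ^ 7 by ring]
          omega
      _ ≤ _ := Nat.mul_le_mul_right _ hμ2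
  · -- a nondegenerate plane
    refine small ?_ (aniso_stab_index hF hnn hfix)
    let Fx := {a : F // σ a = a}
    have hinj : Function.Injective (fun x : W => ((⟨_, hreal x.1 x.2 w₁ hw₁⟩, ⟨_, hreal x.1 x.2 w₂ hw₂⟩) : Fx × Fx)) := by
      intro x y e
      have e1 : Cfsg.hermForm 3 F q x.1 w₁ = Cfsg.hermForm 3 F q y.1 w₁ :=
        congrArg Subtype.val (congrArg Prod.fst e :)
      have e2 : Cfsg.hermForm 3 F q x.1 w₂ = Cfsg.hermForm 3 F q y.1 w₂ :=
        congrArg Subtype.val (congrArg Prod.snd e :)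
      obtain ⟨a, ha⟩ := hperp (x.1 - y.1) (by rw [h.sub_left, e1, sub_self]) (by rw [h.sub_left, e2, sub_self])
      have h1 : Cfsg.hermForm 3 F q (x.1 - y.1) n = 0 := by
        rw [← h.symm, hnW _ (W.sub_mem x.2 y.2), map_zero]
      rw [ha, h.smul_left, mul_eq_zero, or_iff_left hnn] at h1
      rw [h1, zero_smul, sub_eq_zero] at ha
      exact Subtype.ext ha
    have := Nat.card_le_card_of_injective _ hinj
    rwa [Nat.card_prod, fixed_or_skew_card hF, ← sq] at this

/-- Dimension five. -/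
theorem proper_five {H : Subgroup ((F × F × (Fin 3 → F)) ≃ₗ[F] (F × F × (Fin 3 → F)))}
    (hH : H ≤ suE hF 3) (ha : ¬ Root (hermSpace_std hF 3).ext H ((1 : F), (0 : F), (0 : Fin 3 → F)))
    (hne : leviImg hF H ≠ suV hF 3)
    (hbase : 1 < Nat.card (centreVal hF H) → q ^ 3 + 1 ≤ (leviImg hF H).relIndex (suV hF 3)) :
    pointNum q 5 ≤ H.relIndex (suE hF 3) := by
  have hp := point_bound hF H (m := 3) (by omega) hH
  have hW := radVec_card hF H ha
  obtain ⟨hg, hg'⟩ := scalar_gain hF H hH ha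
  have hz2 := centreVal_card hF H ha
  have hq := two_le_q hF
  rw [pointNum_five]
  set z := Nat.card (centreVal hF H) with hz
  have hz0 : 0 < z := Nat.card_pos
  rcases Nat.lt_or_ge 1 z with h1 | h1
  · refine Nat.le_of_mul_le_mul_right (c := q ^ 3 * z) ?_ (Nat.mul_pos (pow_pos (by omega) _) hz0)
    refine le_trans ?_ (hp.trans (Nat.mul_le_mul_left _ (Nat.mul_le_mul_right _ hW)))
    refine le_trans ?_ (Nat.mul_le_mul_right _ (Nat.mul_le_mul (hg' h1) (hbase h1)))
    calc (q ^ 7 + q ^ 5 + q ^ 2 + 1) * (q ^ 3 * z) = z * q ^ 10 + (q ^ 8 + q ^ 5 + q ^ 3) * z := by ring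
      _ ≤ z * q ^ 10 + q ^ 10 := by
          refine Nat.add_le_add_left ?_ _
          have a : q ^ 5 + q ^ 3 ≤ q ^ 8 := by
            have : 2 * q ^ 5 ≤ q ^ 8 := by
              rw [show q ^ 8 = q ^ 3 * q ^ 5 by ring]
              exact Nat.mul_le_mul_right _ (le_trans (by norm_num) (Nat.pow_le_pow_left hq 3))
            have : q ^ 3 ≤ q ^ 5 := Nat.pow_le_pow_right (by omega) (by omega)
            omega
          calc (q ^ 8 + q ^ 5 + q ^ 3) * z ≤ (2 * q ^ 8) * z := Nat.mul_le_mul_right _ (by omega)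
            _ = q ^ 8 * (2 * z) := by ring
            _ ≤ q ^ 8 * q ^ 2 := Nat.mul_le_mul_left _ (le_trans hz2 (Nat.le_self_pow two_ne_zero q))
            _ = _ := by ring
      _ ≤ (z + 1) * (q ^ 3 + 1) * q ^ (2 * 3 + 1) := by
          rw [show (z + 1) * (q ^ 3 + 1) * q ^ (2 * 3 + 1) = z * q ^ 10 + q ^ 10 + (z + 1) * q ^ 7 by ring]
          exact Nat.le_add_right _ _
  · have hz1 : z = 1 := by omega
    rw [hz1, mul_one] at hp
    have hbot : centreVal hF H = ⊥ := AddSubgroup.card_eq_one.1 (hz ▸ hz1)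
    have hreal : ∀ w ∈ radVec hF H, ∀ w' ∈ radVec hF H,
        σ (Cfsg.hermForm 3 F q w w') = Cfsg.hermForm 3 F q w w' := fun w hw w' hw' => by
      have := radVec_comm hF H hw hw'
      rw [hbot, AddSubgroup.mem_bot, sub_eq_zero] at this
      rw [(hermSpace_std hF 3).symm, this]
    have h3 := three_invariant hF (leviImg_le hF) hne (radVec hF H)
      (fun g hg w hw => radVec_leviImg hF hg hw) hreal hW
    refine Nat.le_of_mul_le_mul_right (c := Nat.card (radVec hF H)) ?_ Nat.card_pos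
    refine h3.trans (le_trans ?_ hp)
    refine Nat.mul_le_mul_right _ ?_
    exact Nat.le_mul_of_pos_left _ (by omega)

end Cfsg.Agent.Lib.MinIndexUnitary
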