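import Cfsg.Agent.Lib.MinIndexUnitary.Step
import Cfsg.Agent.Lib.MinIndexUnitary.Proper
import Cfsg.Agent.Lib.U3Index.Transfer

/-!
# Minimal index in unitary groups: induction on the dimension and passage to the projective group
-/

set_option autoImplicit false
set_option linter.unusedSectionVars false

namespace Cfsg.Agent.Lib.MinIndexUnitary

open Cfsg.Agent.Lib.Classical Cfsg.Agent.Lib.MinDegree
open scoped commutatorElement

variable {F : Type*} [Field F] [Fintype F] {q : ℕ} (hF : Fintype.card F = q ^ 2) {m : ℕ}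

local notation "σ" => Forms.qPowHom hF
local notation "E" => (F × F × (Fin m → F))
local notation "a₀" => ((1 : F), (0 : F), (0 : Fin m → F))

/-- Proper subgroups of the special unitary group from those of the projective group. -/
theorem suV_of_psu {n b : ℕ} (hn : 1 ≤ n) (h32 : ¬ (n = 1 ∧ q = 2))
    (hb : ∀ H : Subgroup (Cfsg.PSU (n + 2) F q), H ≠ ⊤ → b ≤ H.index)
    {M : Subgroup ((Fin (n + 2) → F) ≃ₗ[F] (Fin (n + 2) → F))} (hM : M ≤ suV hF (n + 2))
    (hne : M ≠ suV hF (n + 2)) : b ≤ M.relIndex (suV hF (n + 2)) := by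
  have hr := range_suLinear hF (n + 2)
  set K := M.comap (suLinear (n + 2) F q) with hK
  have hi : K.index = M.relIndex (suV hF (n + 2)) := by rw [hK, Subgroup.index_comap, hr]
  have hKne : K ≠ ⊤ := fun e => hne (le_antisymm hM fun g hg => by
    obtain ⟨A, rfl⟩ : g ∈ (suLinear (n + 2) F q).range := hr.symm ▸ hg
    exact (e ▸ Subgroup.mem_top A : A ∈ K))
  let π := QuotientGroup.mk' (Subgroup.center (Cfsg.SU (n + 2) F q))
  have hπne : K.map π ≠ ⊤ := fun e => hKne <| top_le_iff.1 <| by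
    rw [← commutator_SU hF n hn h32, commutator_def, Subgroup.commutator_le]
    intro x _ y _
    have hdec : ∀ x : Cfsg.SU (n + 2) F q, ∃ k ∈ K, ∃ z ∈ Subgroup.center (Cfsg.SU (n + 2) F q),
        x = k * z := fun x => by
      obtain ⟨k, hk, hkx⟩ : π x ∈ K.map π := e ▸ Subgroup.mem_top _
      exact ⟨k, hk, k⁻¹ * x, QuotientGroup.eq.1 hkx, (mul_inv_cancel_left k x).symm⟩
    obtain ⟨k, hk, z, hz, rfl⟩ := hdec x
    obtain ⟨l, hl, w, hw, rfl⟩ := hdec y
    have hz' := Subgroup.mem_center_iff.1 hz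
    have hw' := Subgroup.mem_center_iff.1 hw
    have e1 : ⁅k * z, l * w⁆ = ⁅k, l⁆ := by
      rw [commutatorElement_def, commutatorElement_def,
        show k * z * (l * w) * (k * z)⁻¹ * (l * w)⁻¹
          = k * (z * (l * w) * z⁻¹) * k⁻¹ * w⁻¹ * l⁻¹ by group,
        show z * (l * w) * z⁻¹ = l * w by rw [← hz', mul_inv_cancel_right],
        show k * (l * w) * k⁻¹ * w⁻¹ * l⁻¹ = k * l * (w * k⁻¹ * w⁻¹) * l⁻¹ by group,
        show w * k⁻¹ * w⁻¹ = k⁻¹ by rw [← hw', mul_inv_cancel_right]]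
    rw [e1, commutatorElement_def]
    exact mul_mem (mul_mem (mul_mem hk hl) (inv_mem hk)) (inv_mem hl)
  exact hi ▸ (hb _ hπne).trans (Nat.le_of_dvd (Nat.pos_of_ne_zero Subgroup.index_ne_zero_of_finite)
    (Subgroup.index_map_dvd K (QuotientGroup.mk'_surjective _)))

/-- Proper subgroups of the standard group from those of the split one. -/
theorem suV_of_suE {b : ℕ}
    (hb : ∀ H : Subgroup (E ≃ₗ[F] E), H ≤ suE hF m → H ≠ suE hF m → b ≤ H.relIndex (suE hF m))
    {M : Subgroup ((Fin (m + 2) → F) ≃ₗ[F] (Fin (m + 2) → F))} (hM : M ≤ suV hF (m + 2))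
    (hne : M ≠ suV hF (m + 2)) : b ≤ M.relIndex (suV hF (m + 2)) := by
  obtain ⟨e, he⟩ := exists_split hF m
  set f := (autConj e.symm).toMonoidHom with hf
  have hinj : Function.Injective f := (autConj e.symm).injective
  have htop : (suV hF (m + 2)).map f = suE hF m := by
    refine le_antisymm ?_ fun g hg => ?_
    · rintro _ ⟨g, hg, rfl⟩
      exact autConj_mem_uGroup _ _ e.symm (isometry_symm e he) hg
    · exact ⟨autConj e g, autConj_mem_uGroup _ _ e he hg,
        LinearEquiv.ext fun x => by simp [hf, autConj_apply]⟩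
  rw [← Subgroup.relIndex_map_map_of_injective _ _ hinj, htop]
  refine hb _ (htop ▸ Subgroup.map_mono hM) fun h => hne ?_
  exact Subgroup.map_injective hinj (h.trans htop.symm)

include hF in
theorem base_three {H : Subgroup ((F × F × (Fin 3 → F)) ≃ₗ[F] (F × F × (Fin 3 → F)))}
    (ha : ¬ Root (hermSpace_std hF 3).ext H ((1 : F), (0 : F), (0 : Fin 3 → F)))
    (hne : leviImg hF H ≠ suV hF 3) (hz : 1 < Nat.card (centreVal hF H)) :
    q ^ 3 + 1 ≤ (leviImg hF H).relIndex (suV hF 3) := by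
  have hq := two_le_q hF
  have hz2 := centreVal_card hF H ha
  have hd : Nat.card (centreVal hF H) ∣ q ^ 2 :=
    (AddSubgroup.card_addSubgroup_dvd_card _).trans (dvd_of_eq (natCard_field hF))
  have h5 : q ≠ 5 := fun e => by
    replace hd : Nat.card (centreVal hF H) ∣ 5 ^ 2 := hd.trans (dvd_of_eq (by rw [e]))
    obtain ⟨k, hk, e'⟩ := (Nat.dvd_prime_pow (by norm_num : Nat.Prime 5)).1 hd
    rw [e'] at hz hz2
    interval_cases k <;> omega
  exact suV_of_psu hF (n := 1) le_rfl (by omega)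
    (U3Index.psu_three_min_index hF (by omega) h5).1 (leviImg_le hF) hne

/-- The index of a proper subgroup of the special unitary group. -/
theorem suV_bound (n : ℕ) : 5 ≤ n → (Even n → 3 ≤ q) →
    (Even n → ∀ M : Subgroup ((Fin 4 → F) ≃ₗ[F] (Fin 4 → F)), M ≤ suV hF 4 → M ≠ suV hF 4 →
      q ^ 4 + q ^ 2 + 2 ≤ M.relIndex (suV hF 4)) →
    ∀ M : Subgroup ((Fin n → F) ≃ₗ[F] (Fin n → F)), M ≤ suV hF n → M ≠ suV hF n →
      pointNum q n ≤ M.relIndex (suV hF n) := by
  induction n using Nat.strong_induction_on with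
  | _ n ih =>
    intro hn hq h4 M hM hne
    obtain ⟨j, rfl⟩ : ∃ j, n = j + 2 := ⟨n - 2, by omega⟩
    have hj : Even j → Even (j + 2) := fun h => h.add even_two
    refine suV_of_suE hF (fun K hK hKne => step_bound hF (by omega) (fun h => hq (hj h))
      (fun H hH ha hl => ?_) hK hKne) hM hne
    rcases Nat.lt_or_ge j 5 with hlt | hge
    · rcases (by omega : j = 3 ∨ j = 4) with rfl | rfl
      · exact proper_five hF hH ha hl (base_three hF ha hl)
      · have hev : Even (4 + 2) := by decide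
        refine le_trans ?_ (proper_bound hF (by omega) (h4 hev _ (leviImg_le hF) hl) hH ha)
        have h2 := two_le_q hF
        have a : 2 * q ^ 4 ≤ q ^ 5 := by rw [pow_succ' q 4]; exact Nat.mul_le_mul_right _ h2
        have a' : 4 * q ^ 2 ≤ q ^ 4 := by
          rw [show q ^ 4 = q ^ 2 * q ^ 2 by ring]; exact Nat.mul_le_mul_right _ (by nlinarith)
        have b : q ^ 2 + 1 ≤ q ^ 5 := by
          have : 8 * q ^ 2 ≤ q ^ 5 := by
            rw [show q ^ 5 = q ^ 3 * q ^ 2 by ring]
            exact Nat.mul_le_mul_right _ (le_trans (by norm_num) (Nat.pow_le_pow_left h2 3))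
          have : 1 ≤ q ^ 2 := Nat.one_le_pow _ _ (by omega)
          omega
        calc pointNum q (4 + 2) = q ^ 9 + q ^ 7 + q ^ 5 + q ^ 4 + q ^ 2 + 1 := by
              simp [pointNum]; ring
          _ ≤ q ^ 9 + q ^ 7 + 2 * q ^ 5 := by omega
          _ = _ := by ring
    · refine proper_large hF hge hH ha (ih j (by omega) hge (fun h => hq (hj h)) (fun h => h4 (hj h)) _
        (leviImg_le hF) hl)

/-- The bound in the projective group. -/
theorem psu_bound {n : ℕ} (hn : 5 ≤ n) (hq : Even n → 3 ≤ q)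
    (h4 : Even n → ∀ M : Subgroup ((Fin 4 → F) ≃ₗ[F] (Fin 4 → F)), M ≤ suV hF 4 → M ≠ suV hF 4 →
      q ^ 4 + q ^ 2 + 2 ≤ M.relIndex (suV hF 4))
    {H : Subgroup (Cfsg.PSU n F q)} (hH : H ≠ ⊤) : pointNum q n ≤ H.index := by
  let π := QuotientGroup.mk' (Subgroup.center (Cfsg.SU n F q))
  have hi : (H.comap π).index = H.index := Subgroup.index_comap_of_surjective H (QuotientGroup.mk'_surjective _)
  have hne : H.comap π ≠ ⊤ := fun e => hH <| by
    rw [← Subgroup.map_comap_eq_self_of_surjective (QuotientGroup.mk'_surjective _) H]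
    change (H.comap π).map π = ⊤
    rw [e, Subgroup.map_top_of_surjective _ (QuotientGroup.mk'_surjective _)]
  have hr := range_suLinear hF n
  have htop : (⊤ : Subgroup (Cfsg.SU n F q)).map (suLinear n F q) = suV hF n := by
    rw [← MonoidHom.range_eq_map, hr]
  rw [← hi, ← Subgroup.relIndex_top_right,
    ← Subgroup.relIndex_map_map_of_injective _ _ (suLinear_injective n), htop]
  refine suV_bound hF n hn hq h4 _ (htop ▸ Subgroup.map_mono le_top) fun h => hne ?_
  exact Subgroup.map_injective (suLinear_injective n) (h.trans htop.symm)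

include hF in
/-- Even dimension, from the projective group of dimension four. -/
theorem psu_bound_of_four {n : ℕ} (hn : 5 ≤ n) (hq : 3 ≤ q)
    (h4 : ∀ H : Subgroup (Cfsg.PSU 4 F q), H ≠ ⊤ → (q + 1) * (q ^ 3 + 1) ≤ H.index)
    {H : Subgroup (Cfsg.PSU n F q)} (hH : H ≠ ⊤) : pointNum q n ≤ H.index := by
  refine psu_bound hF hn (fun _ => hq) (fun _ M hM hne => ?_) hH
  refine le_trans ?_ (suV_of_psu hF (n := 2) (by omega) (by omega) h4 hM hne)
  have : q ^ 2 ≤ q ^ 3 := Nat.pow_le_pow_right (by omega) (by omega)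
  rw [show (q + 1) * (q ^ 3 + 1) = q ^ 4 + q ^ 3 + q + 1 by ring]
  omega

/-! ### The stabiliser of a point -/

/-- The stabiliser of the isotropic point. -/
def pointStab : Subgroup (E ≃ₗ[F] E) where
  carrier := {g | g ∈ suE hF m ∧ ∃ t : Fˣ, g a₀ = (t : F) • a₀}
  one_mem' := ⟨one_mem _, 1, by simp⟩
  mul_mem' := by
    rintro g k ⟨hg, s, e⟩ ⟨hk, t, e'⟩
    exact ⟨mul_mem hg hk, s * t, by
      rw [LinearEquiv.mul_apply, e', map_smul, e, smul_smul, mul_comm, Units.val_mul]⟩
  inv_mem' := by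
    rintro g ⟨hg, t, e⟩
    refine ⟨inv_mem hg, t⁻¹, ?_⟩
    show g.symm _ = _
    rw [LinearEquiv.symm_apply_eq, map_smul, e, smul_smul, Units.inv_mul, one_smul]

theorem pointStab_relIndex (hm : 1 ≤ m) : (pointStab hF).relIndex (suE hF m) = pointNum q (m + 2) := by
  have h := hermSpace_std hF m
  have hle : pointStab hF ≤ suE hF m := fun g hg => hg.1
  have hfix : Nat.card {g : E ≃ₗ[F] E // g ∈ pointStab hF ∧ g a₀ = a₀}
      = Nat.card {g : E ≃ₗ[F] E // g ∈ suE hF m ∧ g a₀ = a₀} :=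
    Nat.card_congr (Equiv.subtypeEquivRight fun g =>
      ⟨fun hg => ⟨hg.1.1, hg.2⟩, fun hg => ⟨⟨hg.1, 1, by simpa using hg.2⟩, hg.2⟩⟩)
  have horb : Nat.card (vecOrbit (pointStab (m := m) hF)) = q ^ 2 - 1 := by
    rw [← natCard_units_field hF]
    have e : vecOrbit (pointStab (m := m) hF) = Set.range fun t : Fˣ => (t : F) • (a₀ : E) := by
      ext v
      refine ⟨fun ⟨g, ⟨_, t, ht⟩, hv⟩ => ⟨t, ht.symm.trans hv⟩, fun ⟨t, hv⟩ => ?_⟩
      have hs := scal_ne hF t
      obtain ⟨k, hk, hd⟩ := exists_det hF hm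
        (μ := Units.mk0 (σ (t : F) / t) (div_ne_zero hs t.ne_zero))
        (by rw [Units.val_mk0, map_div₀, h.invol]; field_simp)
      have hmem : levHom σ (Fin m → F) (t, k) ∈ suE hF m := by
        refine levHom_mem_suE hF hk ?_
        rw [hd, Units.val_mk0, div_mul_cancel₀ _ t.ne_zero]
      exact ⟨_, ⟨hmem, t, levHom_apply_a hF⟩, (levHom_apply_a hF).trans hv⟩
    rw [e]
    refine Nat.card_congr (Equiv.ofInjective _ fun s t hst => Units.ext ?_).symm
    simpa using congrArg Prod.fst hst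
  have hi := Subgroup.card_mul_index ((pointStab hF).subgroupOf (suE hF m))
  rw [Nat.card_congr (Subgroup.subgroupOfEquivOfLe hle).toEquiv, card_eq_orbit_mul (pointStab hF),
    hfix, horb, card_eq_orbit_mul (suE hF m), vecOrbit_top hF hm] at hi
  change _ * (pointStab hF).relIndex (suE hF m) = _ at hi
  have hpos : 0 < q ^ 2 - 1 := by
    have : 4 ≤ q ^ 2 := by nlinarith [two_le_q hF]
    omega
  haveI : Nonempty {g : E ≃ₗ[F] E // g ∈ suE hF m ∧ g a₀ = a₀} := ⟨⟨1, one_mem _, rfl⟩⟩
  refine Nat.eq_of_mul_eq_mul_left (Nat.mul_pos hpos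
    (Nat.card_pos (α := {g : E ≃ₗ[F] E // g ∈ suE hF m ∧ g a₀ = a₀}))) ?_
  linarith [hi]

/-- An element commuting with the whole group fixes the point. -/
theorem mem_pointStab_of_central {g : E ≃ₗ[F] E} (hg : g ∈ suE hF m)
    (hc : ∀ k ∈ suE hF m, k * g = g * k) : g ∈ pointStab hF := by
  have h := hermSpace_std hF m
  obtain ⟨d, hd0, hd⟩ := h.exists_skew
  have hT : ∀ p : E, uT h 0 d (skew_fill h hd) p = p + (d * p.2.1) • (a₀ : E) := fun p => by
    rw [uT_apply]; ext <;> simp [h.zero_right]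
  have hk : ∀ p : E, (d * (g p).2.1) • (a₀ : E) = (d * p.2.1) • g a₀ := fun p => by
    have e := LinearEquiv.congr_fun (hc _ (uT_mem h 0 d (skew_fill h hd))) p
    rw [LinearEquiv.mul_apply, LinearEquiv.mul_apply, hT, hT, map_add, map_smul] at e
    exact add_left_cancel e
  have e := hk ((0 : F), (1 : F), 0)
  have hne : g a₀ ≠ 0 := fun e0 => one_ne_zero (congrArg Prod.fst (g.map_eq_zero_iff.1 e0))
  rw [mul_one, ← smul_smul, (smul_right_injective E hd0).eq_iff] at e
  exact ⟨hg, Units.mk0 (g ((0 : F), (1 : F), 0)).2.1 fun e0 => hne (by rw [← e, e0, zero_smul]), e.symm⟩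

include hF in
/-- A subgroup of that index in the projective group. -/
theorem psu_exists {n : ℕ} (hn : 3 ≤ n) : ∃ H : Subgroup (Cfsg.PSU n F q), H.index = pointNum q n := by
  obtain ⟨m, rfl⟩ : ∃ m, n = m + 2 := ⟨n - 2, by omega⟩
  obtain ⟨e, φ, -, -⟩ := exists_suEquiv hF m
  let f : Cfsg.SU (m + 2) F q →* _ := (uGroup (hermSpace_std hF m).ext).subtype.comp φ.toMonoidHom
  have hrange : f.range = suE hF m := by
    rw [MonoidHom.range_comp, MonoidHom.range_eq_top.2 φ.surjective, ← MonoidHom.range_eq_map,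
      Subgroup.range_subtype]
  let K := (pointStab hF).comap f
  have hK : K.index = pointNum q (m + 2) := by
    rw [Subgroup.index_comap, hrange, pointStab_relIndex hF (by omega)]
  refine ⟨K.map (QuotientGroup.mk' _), ?_⟩
  rw [Subgroup.index_map_eq K (QuotientGroup.mk'_surjective _), hK]
  rw [QuotientGroup.ker_mk']
  intro z hz
  refine mem_pointStab_of_central hF (φ z).2 fun k hk => ?_
  obtain ⟨A, hA⟩ := φ.surjective ⟨k, hk⟩
  have := congrArg (fun x => (φ x).1) (Subgroup.mem_center_iff.1 hz A)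
  simp only [map_mul, Subgroup.coe_mul, hA] at this
  exact this

end Cfsg.Agent.Lib.MinIndexUnitary
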