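import Cfsg.Agent.Lib.MinIndexUnitary.Cone
import Cfsg.Agent.Lib.MinIndexUnitary.Transfer

/-!
# Minimal index in unitary groups over the field of four elements, even dimension: the non-isotropic points
-/

set_option autoImplicit false
set_option linter.unusedSectionVars false

namespace Cfsg.Agent.Lib.MinIndexUnitary

open Cfsg.Agent.Lib.Classical Cfsg.Agent.Lib.MinDegree

/-- The number of non-isotropic points over the field of four elements in dimension `2 i + 2`. -/
def anisoNum (i : ℕ) : ℕ := 2 * 4 ^ i * (4 * 4 ^ i - 1) / 3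

theorem anisoNum_spec (i : ℕ) : 3 * anisoNum i + 2 * 4 ^ i = 8 * 4 ^ i * 4 ^ i := by
  have h : 3 ∣ 4 * 4 ^ i - 1 := by
    have : 4 * 4 ^ i % 3 = 1 := by rw [← pow_succ', Nat.pow_mod]; simp
    omega
  rw [anisoNum, Nat.mul_div_cancel' (Dvd.dvd.mul_left h _)]
  have h1 : 1 ≤ 4 * 4 ^ i := by have := Nat.one_le_pow i 4 (by omega); omega
  zify [h1]
  ring

theorem pointNum_two_pair (i : ℕ) :
    3 * pointNum 2 (2 * i + 2) + 1 = 8 * 4 ^ i * 4 ^ i + 2 * 4 ^ i ∧
      3 * pointNum 2 (2 * i + 1) + 4 ^ i + 1 = 2 * 4 ^ i * 4 ^ i := by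
  induction i with
  | zero => decide
  | succ i ih =>
    obtain ⟨a, b⟩ := ih
    have e1 : (2 : ℕ) ^ (2 * (2 * i + 2) + 1) = 32 * 4 ^ i * 4 ^ i := by
      rw [show 2 * (2 * i + 2) + 1 = 2 * i + 2 * i + 5 by ring, pow_add, pow_add, pow_mul]; ring
    have e2 : (2 : ℕ) ^ (2 * (2 * i + 1) + 1) = 8 * 4 ^ i * 4 ^ i := by
      rw [show 2 * (2 * i + 1) + 1 = 2 * i + 2 * i + 3 by ring, pow_add, pow_add, pow_mul]; ring
    rw [show 2 * (i + 1) + 2 = (2 * i + 2) + 2 by ring, show 2 * (i + 1) + 1 = (2 * i + 1) + 2 by ring,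
      show pointNum 2 (2 * i + 2 + 2) = 1 + 2 ^ 2 * pointNum 2 (2 * i + 2) + 2 ^ (2 * (2 * i + 2) + 1) from rfl,
      show pointNum 2 (2 * i + 1 + 2) = 1 + 2 ^ 2 * pointNum 2 (2 * i + 1) + 2 ^ (2 * (2 * i + 1) + 1) from rfl,
      e1, e2, pow_succ 4]
    constructor <;> linarith

open scoped commutatorElement in
theorem commutator_sup_center_le {G : Type*} [Group G] (K : Subgroup G) :
    ⁅K ⊔ Subgroup.center G, K ⊔ Subgroup.center G⁆ ≤ K := by
  rw [Subgroup.commutator_le]
  intro x hx y hy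
  obtain ⟨k, hk, z, hz, rfl⟩ := Subgroup.mem_sup_of_normal_right.1 hx
  obtain ⟨l, hl, w, hw, rfl⟩ := Subgroup.mem_sup_of_normal_right.1 hy
  have hz' := Subgroup.mem_center_iff.1 hz
  have hw' := Subgroup.mem_center_iff.1 hw
  have e1 : ⁅k * z, l * w⁆ = ⁅k, l⁆ := by
    rw [commutatorElement_def, commutatorElement_def,
      show k * z * (l * w) * (k * z)⁻¹ * (l * w)⁻¹
        = k * (z * (l * w) * z⁻¹) * k⁻¹ * w⁻¹ * l⁻¹ by group,
      show z * (l * w) * z⁻¹ = l * w by rw [← hz', mul_inv_cancel_right],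
      show k * (l * w) * k⁻¹ * w⁻¹ * l⁻¹ = k * l * (w * k⁻¹ * w⁻¹) * l⁻¹ by group,
      show w * k⁻¹ * w⁻¹ = k⁻¹ by rw [← hw', mul_inv_cancel_right]]
  rw [e1, commutatorElement_def]
  exact mul_mem (mul_mem (mul_mem hk hl) (inv_mem hk)) (inv_mem hl)

variable {F : Type*} [Field F] [Fintype F] (hF : Fintype.card F = 2 ^ 2)
include hF

/-- The index of a proper subgroup of the special unitary group. -/
theorem suV_two_bound (h4 : ∀ M : Subgroup ((Fin 4 → F) ≃ₗ[F] (Fin 4 → F)), M ≤ suV hF 4 → M ≠ suV hF 4 →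
      21 ≤ M.relIndex (suV hF 4)) :
    ∀ i, 2 ≤ i → ∀ M : Subgroup ((Fin (2 * i + 2) → F) ≃ₗ[F] (Fin (2 * i + 2) → F)),
      M ≤ suV hF (2 * i + 2) → M ≠ suV hF (2 * i + 2) → anisoNum i ≤ M.relIndex (suV hF (2 * i + 2)) := by
  intro i
  induction i with
  | zero => omega
  | succ i ih =>
    intro hi M hM hne
    set T := anisoNum (i + 1) with hT
    have sT := anisoNum_spec (i + 1)
    obtain ⟨pN, pO⟩ := pointNum_two_pair (i + 1)
    have hX : 1 ≤ 4 ^ (i + 1) := Nat.one_le_pow _ _ (by omega)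
    refine suV_of_suE hF (m := 2 * (i + 1)) (fun K hK hKne => step_bound_gen hF (by omega)
      (T := T) ?_ (fun _ k hk => ?_) ?_ (fun H hH ha hl => ?_) hK hKne) hM hne
    · omega
    · simp only [show (2 : ℕ) ^ 2 - 1 = 3 from rfl] at hk ⊢
      have e : (2 : ℕ) ^ (2 * (2 * (i + 1)) + 1) = 2 * 4 ^ (i + 1) * 4 ^ (i + 1) := by
        rw [show 2 * (2 * (i + 1)) + 1 = 2 * (i + 1) + 2 * (i + 1) + 1 by ring, pow_add, pow_add, pow_mul]
        ring
      rw [e]
      set X := 4 ^ (i + 1) with hX'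
      have hkb : k ≤ 6 * X * X + 3 * X := by linarith
      calc T * k ≤ T * (6 * X * X + 3 * X) := Nat.mul_le_mul_left _ hkb
        _ = (3 * T) * (2 * X * X + X) := by ring
        _ = (3 * pointNum 2 (2 * (i + 1) + 2)) * (2 * X * X) := by
          zify at sT pN ⊢
          rw [show (3 : ℤ) * (T : ℤ) = 8 * X * X - 2 * X by linarith,
            show (3 : ℤ) * (pointNum 2 (2 * (i + 1) + 2) : ℤ) = 8 * X * X + 2 * X - 1 by linarith]
          ring
    · intro H hH hL hcl hl
      rcases eq_or_ne (i + 1) 2 with e | e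
      · obtain rfl : i = 1 := by omega
        exact exists_frame_four hF hH hL hcl hl
      · exact exists_frame_roots hF (by omega) (fun _ => by omega) hH hL hcl
    · rcases eq_or_ne (i + 1) 2 with e | e
      · obtain rfl : i = 1 := by omega
        refine le_trans ?_ (proper_bound hF (by omega) (h4 _ (leviImg_le hF) hl) hH ha)
        rw [hT, anisoNum]
        norm_num
      · refine le_trans ?_ (proper_bound hF (by omega) (ih (by omega) _ (leviImg_le hF) hl) hH ha)
        have s0 := anisoNum_spec i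
        have hX4 : 16 ≤ 4 ^ i := le_trans (by norm_num) (Nat.pow_le_pow_right (by omega) (show 2 ≤ i by omega))
        have e' : (2 : ℕ) ^ (2 * (i + 1) + 1) = 8 * 4 ^ i := by
          rw [show 2 * (i + 1) + 1 = 2 * i + 3 by ring, pow_add, pow_mul]; ring
        rw [pow_succ] at sT
        rw [e']
        have : 3 * T ≤ 3 * (anisoNum i * (8 * 4 ^ i)) := by
          calc 3 * T ≤ 8 * (4 ^ i * 4) * (4 ^ i * 4) := by omega
            _ = 128 * 4 ^ i * 4 ^ i := by ring
            _ ≤ (3 * anisoNum i) * (8 * 4 ^ i) := by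
              rw [show 3 * anisoNum i * (8 * 4 ^ i) = (24 * anisoNum i) * 4 ^ i by ring]
              refine Nat.mul_le_mul_right _ ?_
              have : 16 * 4 ^ i ≤ 4 ^ i * 4 ^ i := Nat.mul_le_mul_right _ hX4
              have : 8 * 4 ^ i * 4 ^ i = 8 * (4 ^ i * 4 ^ i) := by ring
              omega
            _ = _ := by ring
        omega

/-- The bound in the projective group. -/
theorem psu_two_bound (h4 : ∀ H : Subgroup (Cfsg.PSU 4 F 2), H ≠ ⊤ → 27 ≤ H.index)
    {i : ℕ} (hi : 2 ≤ i) {H : Subgroup (Cfsg.PSU (2 * i + 2) F 2)} (hH : H ≠ ⊤) : anisoNum i ≤ H.index := by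
  let π := QuotientGroup.mk' (Subgroup.center (Cfsg.SU (2 * i + 2) F 2))
  rw [← Subgroup.index_comap_of_surjective H (QuotientGroup.mk'_surjective _), ← Subgroup.relIndex_top_right,
    ← Subgroup.relIndex_map_map_of_injective _ _ (suLinear_injective (2 * i + 2))]
  have htop : (⊤ : Subgroup (Cfsg.SU (2 * i + 2) F 2)).map (suLinear (2 * i + 2) F 2) = suV hF (2 * i + 2) := by
    rw [← MonoidHom.range_eq_map, range_suLinear hF]
  rw [htop]
  refine suV_two_bound hF (fun M hM hne => le_trans (by norm_num)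
    (suV_of_psu hF (n := 2) (by omega) (by omega) h4 hM hne)) i hi _ (htop ▸ Subgroup.map_mono le_top) ?_
  intro h
  refine hH ?_
  have e := Subgroup.map_injective (suLinear_injective (2 * i + 2)) (h.trans htop.symm)
  rw [← Subgroup.map_comap_eq_self_of_surjective (QuotientGroup.mk'_surjective _) H, e,
    Subgroup.map_top_of_surjective _ (QuotientGroup.mk'_surjective _)]

/-- The stabiliser of a non-isotropic point. -/
theorem psu_two_exists (h4 : ∀ H : Subgroup (Cfsg.PSU 4 F 2), H ≠ ⊤ → 27 ≤ H.index) {i : ℕ} (hi : 2 ≤ i) :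
    ∃ H : Subgroup (Cfsg.PSU (2 * i + 2) F 2), H.index = anisoNum i := by
  classical
  have h := hermSpace_std hF (2 * i + 2)
  set u : Fin (2 * i + 2) → F := Pi.single ⟨0, by omega⟩ 1 with hu
  have huu : Cfsg.hermForm (2 * i + 2) F 2 u u = 1 := by rw [hu, herm_single hF]; simp
  have hu0 : u ≠ 0 := fun e => by rw [e, h.zero_left] at huu; exact zero_ne_one huu
  let f := suLinear (2 * i + 2) F 2
  let K : Subgroup (Cfsg.SU (2 * i + 2) F 2) :=
    { carrier := {A | ∃ s : Fˣ, f A u = (s : F) • u}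
      one_mem' := ⟨1, by simp⟩
      mul_mem' := by
        rintro A A' ⟨s, e⟩ ⟨t, e'⟩
        exact ⟨t * s, by
          rw [map_mul, LinearEquiv.mul_apply, e', map_smul, e, smul_smul, Units.val_mul]⟩
      inv_mem' := by
        rintro A ⟨s, e⟩
        refine ⟨s⁻¹, ?_⟩
        rw [map_inv]
        show (f A).symm u = _
        rw [LinearEquiv.symm_apply_eq, map_smul, e, smul_smul, Units.inv_mul, one_smul] }
  -- the orbit lies in the non-isotropic points
  have hle : K.index ≤ anisoNum i := by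
    let Φ : (Cfsg.SU (2 * i + 2) F 2 ⧸ K) × Fˣ →
        {v : Fin (2 * i + 2) → F // ¬ Cfsg.hermForm (2 * i + 2) F 2 v v = 0} :=
      fun p => ⟨(p.2 : F) • f p.1.out u, by
        have hm : f p.1.out ∈ suV hF (2 * i + 2) := by rw [suV, ← range_suLinear hF]; exact ⟨_, rfl⟩
        rw [h.smul_left, h.smul_right, uGroup_le _ hm, huu, mul_one]
        exact mul_ne_zero p.2.ne_zero ((map_ne_zero _).2 p.2.ne_zero)⟩
    have hΦ : Function.Injective Φ := by
      rintro ⟨x, s⟩ ⟨y, t⟩ e
      have e' : (s : F) • f x.out u = (t : F) • f y.out u := congrArg Subtype.val e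
      have hxy : x = y := by
        rw [← x.out_eq, ← y.out_eq]
        refine QuotientGroup.eq.2 ⟨t⁻¹ * s, ?_⟩
        rw [map_mul, map_inv, LinearEquiv.mul_apply]
        show (f x.out).symm _ = _
        rw [LinearEquiv.symm_apply_eq, map_smul, Units.val_mul, ← smul_smul, e', smul_smul,
          Units.inv_mul, one_smul]
      subst hxy
      exact Prod.ext rfl (Units.ext (smul_left_injective F
        (fun e0 => hu0 ((f x.out).map_eq_zero_iff.1 e0)) e'))
    have hc := Nat.card_le_card_of_injective Φ hΦ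
    rw [Nat.card_prod, natCard_units_field hF, Nat.card_eq_fintype_card (α := {v : Fin (2 * i + 2) → F // ¬ _}),
      Fintype.card_subtype_compl, ← Nat.card_eq_fintype_card, ← Nat.card_eq_fintype_card, isoCount_eq hF,
      natCard_space hF] at hc
    change K.index * _ ≤ _ at hc
    have e : (2 : ℕ) ^ (2 * (2 * i + 2)) = 16 * 4 ^ i * 4 ^ i := by
      rw [show 2 * (2 * i + 2) = 2 * i + 2 * i + 4 by ring, pow_add, pow_add, pow_mul]; ring
    rw [e] at hc
    norm_num at hc
    have := anisoNum_spec i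
    have := (pointNum_two_pair i).1
    have : 16 * 4 ^ i * 4 ^ i = 2 * (8 * 4 ^ i * 4 ^ i) := by ring
    omega
  have hne : K ≠ ⊤ := by
    intro e
    set j₀ : Fin (2 * i + 2) := ⟨0, by omega⟩
    set j₁ : Fin (2 * i + 2) := ⟨1, by omega⟩
    have hj : j₀ ≠ j₁ := by simp [j₀, j₁, Fin.ext_iff]
    have h2 := two_eq_zero hF
    have hv := twoVec_self hF (m := 2 * i + 2) hj (α := 1) (by rw [map_one, mul_one]; linear_combination h2)
    have hm : tv h (twoVec j₀ j₁ (1 : F)) 1 ∈ (suLinear (2 * i + 2) F 2).range := by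
      rw [range_suLinear hF]; exact tv_mem _ _
    obtain ⟨A, hA⟩ := hm
    obtain ⟨s, hs⟩ : A ∈ K := e ▸ Subgroup.mem_top A
    have := congrFun (hA ▸ hs : tv h (twoVec j₀ j₁ (1 : F)) 1 u = (s : F) • u) j₁
    rw [tv_apply hv (by rw [map_one]; linear_combination h2), herm_twoVec hF] at this
    simp [hu, twoVec, j₀, j₁, Fin.ext_iff] at this
  let π := QuotientGroup.mk' (Subgroup.center (Cfsg.SU (2 * i + 2) F 2))
  have hπne : K.map π ≠ ⊤ := fun e => hne <| top_le_iff.1 <| by
    rw [← commutator_SU hF (2 * i) (by omega) (by omega), commutator_def]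
    have hK : ⊤ ≤ K ⊔ Subgroup.center (Cfsg.SU (2 * i + 2) F 2) := by
      rw [show K ⊔ Subgroup.center _ = (K.map π).comap π by
        rw [Subgroup.comap_map_eq, QuotientGroup.ker_mk'], e, Subgroup.comap_top]
    refine le_trans (Subgroup.commutator_mono hK hK) ?_
    exact commutator_sup_center_le K
  have h1 := psu_two_bound hF h4 hi hπne
  have h2 : (K.map π).index ≤ K.index :=
    Nat.le_of_dvd (Nat.pos_of_ne_zero Subgroup.index_ne_zero_of_finite)
      (Subgroup.index_map_dvd K (QuotientGroup.mk'_surjective _))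
  exact ⟨_, le_antisymm (h2.trans hle) h1⟩

end Cfsg.Agent.Lib.MinIndexUnitary
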