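import Cfsg.Agent.Lib.MinIndexUnitary.Full

/-!
# Minimal index in unitary groups: a light subgroup has all root groups of some complement
-/

set_option autoImplicit false
set_option linter.unusedSectionVars false

namespace Cfsg.Agent.Lib.MinIndexUnitary

open Cfsg.Agent.Lib.Classical Cfsg.Agent.Lib.MinDegree

variable {F : Type*} [Field F] [Fintype F] {q : ℕ} (hF : Fintype.card F = q ^ 2) {m : ℕ}

local notation "σ" => Forms.qPowHom hF
local notation "V" => (Fin m → F)
local notation "E" => (F × F × (Fin m → F))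
local notation "hV" => hermSpace_std hF m
local notation "B" => Cfsg.hermForm m F q
local notation "a₀" => ((1 : F), (0 : F), (0 : Fin m → F))

variable {H : Subgroup ((F × F × (Fin m → F)) ≃ₗ[F] (F × F × (Fin m → F)))}

theorem uT_fix {x : V} {c : F} (hc : c + σ c + B x x = 0) : uT hV x c hc a₀ = a₀ := by
  rw [uT_apply]
  simp [(hermSpace_std hF m).zero_left]

theorem Light.conj (hL : Light hF H) {x : V} {c : F} (hc : c + σ c + B x x = 0) :
    Light hF (conjSub (uT hV x c hc) H) := by
  have h := hermSpace_std hF m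
  refine ⟨?_, ?_, ?_, ?_⟩
  · refine le_antisymm (fun k hk => hk.1) fun k hk => ⟨hk, ?_⟩
    have hi := uGroup_le _ hk
    rw [← hL.levi] at hk
    obtain ⟨-, w, d, hd, hg⟩ := hk
    have h3 : uT hV x c hc * (uT hV w d hd * uInd k) * (uT hV x c hc)⁻¹ ∈ conjSub (uT hV x c hc) H :=
      ⟨_, hg, rfl⟩
    rw [uT_inv, mul_assoc, mul_assoc (uT hV w d hd),
      show uInd k * uT hV (-x) (σ c) _ = _ from mul_inv_eq_iff_eq_mul.1 (Fusion.SUData.uInd_conj_uT hV hi (-x) (σ c)
        (by rw [h.invol, h.neg_left, h.neg_right, neg_neg]; linear_combination hc)),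
      ← mul_assoc (uT hV w d hd), uT_mul, ← mul_assoc, uT_mul] at h3
    exact ⟨_, _, _, h3⟩
  · refine (AddSubgroup.eq_bot_iff_forall _).2 fun w ⟨d, hd, hm⟩ => ?_
    rw [mem_conjSub, uT_inv, uT_mul, uT_mul] at hm
    simpa using (hL.eq_one hF hm).1
  · refine (AddSubgroup.eq_bot_iff_forall _).2 fun d ⟨hd, hm⟩ => ?_
    rw [mem_conjSub, uT_inv, uT_mul, uT_mul] at hm
    have h2 := (hL.eq_one hF hm).2
    simp only [h.zero_left, h.zero_right, h.neg_left, h.neg_right, h.add_left, h.add_right, add_zero,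
      neg_zero, sub_zero, sub_neg_eq_add] at h2
    linear_combination h2 - hc
  · refine eq_top_iff.2 fun t _ => ?_
    obtain ⟨g, hg, hga⟩ : t ∈ pointScalars H := hL.scal ▸ Subgroup.mem_top t
    refine ⟨_, ⟨g, hg, rfl⟩, ?_⟩
    show (uT hV x c hc * g * (uT hV x c hc)⁻¹) a₀ = _
    have e : (uT hV x c hc)⁻¹ a₀ = a₀ := by
      show (uT hV x c hc).symm a₀ = a₀
      rw [LinearEquiv.symm_apply_eq, uT_fix]
    rw [LinearEquiv.mul_apply, LinearEquiv.mul_apply, e, hga, map_smul, uT_fix]

theorem PerpClosed.conj (hcl : PerpClosed hF H) {g : E ≃ₗ[F] E} (hg : g ∈ biIsoGroup (uExt σ B)) :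
    PerpClosed hF (conjSub g H) := by
  intro x y hx hy hxy
  obtain ⟨x, rfl⟩ := g.surjective x
  obtain ⟨y, rfl⟩ := g.surjective y
  rw [root_conjSub hg] at hx hy
  rw [← map_add, root_conjSub hg]
  exact hcl x y hx hy (by rwa [hg] at hxy)

/-- A conjugate containing a fixed-point-free Levi element. -/
theorem exists_levi_elt (hH : H ≤ suE hF m) (hL : Light hF H) {t : Fˣ} {k : V ≃ₗ[F] V} (hk : k ∈ biIsoGroup B)
    (hd : ((LinearEquiv.det k : Fˣ) : F) * (t : F) = σ (t : F))
    (hfree : ∀ w, σ (t : F) • k w = w → w = 0) :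
    ∃ (x : V) (c : F) (hc : c + σ c + B x x = 0) (d : F) (hd : d + σ d + B (0 : V) 0 = 0),
      uT hV 0 d hd * levHom σ V (t, k) ∈ conjSub (uT hV x c hc) H := by
  have h := hermSpace_std hF m
  obtain ⟨g, hg, hga⟩ : t ∈ pointScalars H := hL.scal ▸ Subgroup.mem_top t
  obtain ⟨w₀, c₀, hc₀, k₀, hk₀, rfl, hdet⟩ := pt_decomp hF (hH hg) hga
  have hdd : LinearEquiv.det (k * k₀⁻¹) = 1 := by
    rw [map_mul, map_inv, mul_inv_eq_one]
    exact Units.ext (mul_right_cancel₀ t.ne_zero (hd.trans hdet.symm))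
  have hmem : k * k₀⁻¹ ∈ leviImg hF H := by
    rw [hL.levi]; exact mem_suV hF (mul_mem hk (inv_mem hk₀)) hdd
  obtain ⟨-, w₁, c₁, hc₁, hG⟩ := hmem
  have hi : k * k₀⁻¹ ∈ biIsoGroup B := mul_mem hk (inv_mem hk₀)
  have h3 := H.mul_mem hG hg
  rw [mul_assoc, ← mul_assoc (uInd (k * k₀⁻¹)),
    show uInd (k * k₀⁻¹) * uT hV w₀ c₀ hc₀ = _ from mul_inv_eq_iff_eq_mul.1
      (Fusion.SUData.uInd_conj_uT hV hi w₀ c₀ hc₀),
    mul_assoc (uT hV ((k * k₀⁻¹) w₀) c₀ _), ← levHom_one, ← map_mul,
    show ((1, k * k₀⁻¹) : Fˣ × (V ≃ₗ[F] V)) * (t, k₀) = (t, k) by simp,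
    ← mul_assoc, uT_mul] at h3
  set w₂ := w₁ + (k * k₀⁻¹) w₀
  let L : V →ₗ[F] V := σ (t : F) • k.toLinearMap - LinearMap.id
  have hinj : Function.Injective L := (injective_iff_map_eq_zero L).2 fun w hw => hfree w (sub_eq_zero.1 hw)
  obtain ⟨x, hx⟩ := LinearMap.surjective_of_injective hinj w₂
  obtain ⟨c, hc⟩ := h.exists_fill x
  have hc' : σ c + σ (σ c) + B (-x) (-x) = 0 := by
    rw [h.invol, h.neg_left, h.neg_right, neg_neg]; linear_combination hc
  obtain ⟨hc'', e⟩ := lev_conj hF (t := t) hk (-x) (σ c) hc'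
  set c₂ := c₁ + c₀ - B ((k * k₀⁻¹) w₀) w₁
  have h4 : uT hV x c hc * (uT hV w₂ c₂ (by
      rw [map_sub, map_add, h.symm]
      simp only [w₂, h.add_left, h.add_right, hi w₀ w₀]
      linear_combination hc₁ + hc₀) * levHom σ V (t, k)) * (uT hV x c hc)⁻¹
      ∈ conjSub (uT hV x c hc) H := ⟨_, h3, rfl⟩
  rw [uT_inv, mul_assoc, mul_assoc (uT hV w₂ c₂ _),
    show levHom σ V (t, k) * uT hV (-x) (σ c) _ = _ from mul_inv_eq_iff_eq_mul.1 e,
    ← mul_assoc (uT hV w₂ c₂ _), uT_mul, ← mul_assoc, uT_mul] at h4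
  have hx' : σ (t : F) • k x - x = w₂ := hx
  have hw : x + (w₂ + σ (t : F) • k (-x)) = 0 := by
    rw [← hx', map_neg]
    module
  have key : ∀ (W : V) (C : F) (hWC : C + σ C + B W W = 0), W = 0 →
      uT hV W C hWC * levHom σ V (t, k) ∈ conjSub (uT hV x c hc) H →
      ∃ (d : F) (hd : d + σ d + B (0 : V) 0 = 0),
        uT hV 0 d hd * levHom σ V (t, k) ∈ conjSub (uT hV x c hc) H := by
    rintro W C hWC rfl hm
    exact ⟨C, hWC, hm⟩
  exact ⟨x, c, hc, key _ _ _ hw h4⟩

/-- A light subgroup has all the root groups of some complement of the point. -/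
theorem exists_frame_roots (hm : 3 ≤ m) (hq : q = 2 → m ≠ 4) (hH : H ≤ suE hF m) (hL : Light hF H)
    (hcl : PerpClosed hF H) :
    ∃ (x : V) (c : F) (hc : c + σ c + B x x = 0),
      ∀ u : V, B u u = 0 → Root (hermSpace_std hF m).ext (conjSub (uT hV x c hc) H) (0, 0, u) := by
  classical
  have h := hermSpace_std hF m
  have hq2 := two_le_q hF
  have huniv : ∀ (v : V), ∀ i, i ∉ (Finset.univ : Finset (Fin m)) → v i = 0 :=
    fun v i hi => absurd (Finset.mem_univ i) hi
  have hzero : ∀ H' : Subgroup (E ≃ₗ[F] E), Root h.ext H' (0, 0, (0 : V)) := fun H' => root_zero h.ext H'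
  rcases (show 3 ≤ q ∨ q = 2 by omega) with hq3 | hq2'
  · -- a fixed scalar other than zero and one
    obtain ⟨t, ht, ht0, ht1⟩ : ∃ t : F, σ t = t ∧ t ≠ 0 ∧ t ≠ 1 := by
      by_contra hall
      push Not at hall
      have : Nat.card {x : F // σ x = x} ≤ 2 := by
        rw [Nat.card_eq_fintype_card, Fintype.card_subtype]
        refine (Finset.card_le_card (t := {0, 1}) fun x hx => ?_).trans Finset.card_le_two
        by_cases hx0 : x = 0
        · simp [hx0]
        · simp [hall x (Finset.mem_filter.1 hx).2 hx0]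
      rw [fixed_or_skew_card hF] at this
      omega
    have hfree : ∀ w : V, σ ((Units.mk0 t ht0 : Fˣ) : F) • (1 : V ≃ₗ[F] V) w = w → w = 0 := fun w hw => by
      have : (t - 1) • w = 0 := by rw [sub_smul, one_smul, sub_eq_zero]; simpa [ht] using hw
      exact (smul_eq_zero.1 this).resolve_left (sub_ne_zero.2 ht1)
    obtain ⟨x, c, hc, d, hd, hh⟩ := exists_levi_elt hF hH hL (t := Units.mk0 t ht0) (k := 1) (one_mem _)
      (by simp [ht, -Forms.qPowHom_apply]) hfree
    refine ⟨x, c, hc, fun u hu => ?_⟩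
    by_cases hu0 : u = 0
    · rw [hu0]; exact hzero _
    obtain ⟨w, hwu, hww, -⟩ := exists_aniso_orth hF (S := Finset.univ) (by simpa using hm) hu0 (huniv u)
    exact root_of_eigen hF (hL.conj hF hc) (one_mem _) hfree hh hu hwu hww (r := 1) (by simp)
      (one_smul F u).symm (one_smul F w).symm
  · have hpow : ∀ x : F, x ≠ 0 → x ^ 3 = 1 := fun x hx => by
      have := FiniteField.pow_card_sub_one_eq_one x hx
      rwa [hF, hq2'] at this
    obtain ⟨ω, hω0, hω1⟩ : ∃ ω : F, ω ≠ 0 ∧ ω ≠ 1 := by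
      by_contra hall
      push Not at hall
      have : Fintype.card F ≤ 2 := by
        refine (Finset.card_le_card (t := ({0, 1} : Finset F)) fun x _ => ?_).trans Finset.card_le_two
        by_cases hx0 : x = 0
        · simp [hx0]
        · simp [hall x hx0]
      rw [hF, hq2'] at this
      omega
    have hσ : ∀ a : F, σ a = a ^ 2 := fun a => by rw [Forms.qPowHom_apply, hq2']
    have hω3 := hpow ω hω0
    have hN : ∀ a : F, a ≠ 0 → a * σ a = 1 := fun a ha => by rw [hσ, ← pow_succ', hpow a ha]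
    let u₁ : Fˣ := Units.mk0 ω hω0
    by_cases hm1 : m % 3 = 1
    · -- a Levi element with two eigenspaces
      have hm7 : 7 ≤ m := by have := hq hq2'; omega
      set i₀ : Fin m := ⟨0, by omega⟩
      set i₁ : Fin m := ⟨1, by omega⟩
      have h01 : i₀ ≠ i₁ := by simp [i₀, i₁, Fin.ext_iff]
      set S₂ : Finset (Fin m) := {i₀, i₁}
      have hS₂ : S₂.card = 2 := Finset.card_pair h01
      set S₁ : Finset (Fin m) := S₂ᶜ
      have hS₁ : S₁.card = m - 2 := by rw [Finset.card_compl, Fintype.card_fin, hS₂]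
      let f : Fin m → Fˣ := fun i => if i ∈ S₂ then u₁ else 1
      have hf : ∀ i, (f i : F) * σ (f i : F) = 1 := fun i => hN _ (f i).ne_zero
      have hdet : ((LinearEquiv.det (diagAut f) : Fˣ) : F) = ω ^ 2 := by
        rw [det_diagAut, ← Finset.prod_mul_prod_compl S₂, Finset.prod_congr rfl (g := fun _ => ω)
          (fun i hi => by simp [f, hi, u₁]), Finset.prod_const, hS₂,
          Finset.prod_eq_one (fun i hi => by simp [f, Finset.mem_compl.1 hi]), mul_one]
      have ht : σ ((u₁ ^ 2 : Fˣ) : F) = ω := by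
        rw [hσ, Units.val_pow_eq_pow_val, ← pow_mul, show u₁.1 = ω from rfl]
        linear_combination ω * hω3
      have hfree : ∀ w : V, σ ((u₁ ^ 2 : Fˣ) : F) • diagAut f w = w → w = 0 := fun w hw => by
        funext i
        have h1 := congrFun hw i
        rw [Pi.smul_apply, diagAut_apply, smul_eq_mul, ht, ← mul_assoc] at h1
        have h2 : (ω * (f i : F) - 1) * w i = 0 := by linear_combination h1
        refine (mul_eq_zero.1 h2).resolve_left ?_
        by_cases hi : i ∈ S₂
        · simp only [f, hi, if_true, u₁, Units.val_mk0]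
          intro e
          exact hω1 (by linear_combination hω3 - ω * e)
        · simp [f, hi, sub_eq_zero, hω1]
      obtain ⟨x, c, hc, d, hd, hh⟩ := exists_levi_elt hF hH hL (t := u₁ ^ 2) (k := diagAut f)
        (diagAut_mem hF hf) (by
          rw [hdet, ht, Units.val_pow_eq_pow_val, show u₁.1 = ω from rfl]
          linear_combination ω * hω3) hfree
      refine ⟨x, c, hc, ?_⟩
      set H' := conjSub (uT hV x c hc) H
      have hL' := hL.conj hF hc
      have hH' : H' ≤ suE hF m := conjSub_le (uGroup_le _ (uT_mem hV x c hc)) hH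
      have hH'i : H' ≤ biIsoGroup (uExt σ B) := hH'.trans (uGroup_le _)
      have hcl' : PerpClosed hF H' := hcl.conj hF (uGroup_le _ (uT_mem hV x c hc))
      have hk1 : ∀ v : V, (∀ i, i ∉ S₁ → v i = 0) → diagAut f v = v := fun v hv => by
        funext i
        rw [diagAut_apply]
        by_cases hi : i ∈ S₂
        · simp [hv i (by simp [S₁, hi])]
        · simp [f, hi]
      have hk2 : ∀ v : V, (∀ i, i ∉ S₂ → v i = 0) → diagAut f v = ω • v := fun v hv => by
        funext i
        rw [diagAut_apply, Pi.smul_apply, smul_eq_mul]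
        by_cases hi : i ∈ S₂
        · simp [f, hi, u₁]
        · simp [hv i hi]
      have hroot1 : ∀ v : V, B v v = 0 → (∀ i, i ∉ S₁ → v i = 0) → Root h.ext H' (0, 0, v) := by
        intro v hv hvS
        by_cases hv0 : v = 0
        · rw [hv0]; exact hzero _
        obtain ⟨w, hwu, hww, hwS⟩ := exists_aniso_orth hF (S := S₁) (by omega) hv0 hvS
        exact root_of_eigen hF hL' (diagAut_mem hF hf) hfree hh hv hwu hww (r := 1) (by simp)
          (by rw [hk1 v hvS, one_smul]) (by rw [hk1 w hwS, one_smul])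
      -- a root vector inside the first eigenspace
      obtain ⟨i₂, hi₂⟩ : S₁.Nonempty := Finset.card_pos.1 (by omega)
      obtain ⟨u₀, hu₀, hne, hu₀S⟩ := exists_iso_in hF (S := S₁) (by omega) (w := Pi.single i₂ 1)
        (by simp) (fun i hi => by simp [show i ≠ i₂ from fun e => hi (e ▸ hi₂)])
      have hu₀0 : u₀ ≠ 0 := fun e => hne (by rw [e, h.zero_right])
      have hexists : ∀ v : V, B v v = 0 → v ≠ 0 → ∃ s, Root h.ext H' (s, 0, v) := by
        intro v hv hv0
        obtain ⟨g, hg, hgv⟩ := suV_move hF hm hu₀0 hu₀ hv0 hv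
        rw [← hL'.levi] at hg
        obtain ⟨-, w, e, he, hG⟩ := hg
        have h1 := (hroot1 u₀ hu₀ hu₀S).map hH'i hG
        rw [LinearEquiv.mul_apply, uInd_apply, uT_apply] at h1
        refine ⟨-B v w, ?_⟩
        simpa [hgv] using h1
      have hroot2 : ∀ v : V, B v v = 0 → (∀ i, i ∉ S₂ → v i = 0) → Root h.ext H' (0, 0, v) := by
        intro v hv hvS
        by_cases hv0 : v = 0
        · rw [hv0]; exact hzero _
        obtain ⟨s, hs⟩ := hexists v hv hv0
        have h1 := hs.map hH'i hh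
        rw [LinearEquiv.mul_apply, levHom_apply, uT_apply] at h1
        simp only [mul_zero, add_zero, zero_smul, h.zero_right, sub_zero, hk2 v hvS] at h1
        have h2 := hs.smul ω
        simp only [Prod.smul_mk, smul_eq_mul, mul_zero] at h2
        have h3 := hL'.unique hF hH' (smul_ne_zero hω0 hv0) h1 h2
        have hs0 : s = 0 := by
          rw [Units.val_pow_eq_pow_val, show u₁.1 = ω from rfl] at h3
          have : (ω - 1) * (ω * s) = 0 := by linear_combination h3
          exact (mul_eq_zero.1 ((mul_eq_zero.1 this).resolve_left (sub_ne_zero.2 hω1))).resolve_left hω0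
        rwa [hs0] at hs
      intro u hu
      set w₁ : V := fun i => if i ∈ S₂ then 0 else u i with hw₁
      set w₂ : V := fun i => if i ∈ S₂ then u i else 0 with hw₂
      have hw₁S : ∀ i, i ∉ S₁ → w₁ i = 0 := fun i hi => by
        have : i ∈ S₂ := by simpa [S₁] using hi
        simp [w₁, this]
      have hw₂S : ∀ i, i ∉ S₂ → w₂ i = 0 := fun i hi => by simp [w₂, hi]
      obtain ⟨a, b, hab, ha, hb, haS, hbS⟩ := exists_iso_split hF (S := S₁) (by omega) w₁ hw₁S
      obtain ⟨a', b', hab', ha', hb', haS', hbS'⟩ := exists_iso_split hF (S := S₂) (by omega) w₂ hw₂S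
      have hu12 : u = w₁ + w₂ := funext fun i => by by_cases hi : i ∈ S₂ <;> simp [w₁, w₂, hi]
      have horth : ∀ v v' : V, (∀ i, i ∉ S₁ → v i = 0) → (∀ i, i ∉ S₂ → v' i = 0) → B v v' = 0 := by
        intro v v' hv hv'
        refine Finset.sum_eq_zero fun i _ => ?_
        by_cases hi : i ∈ S₂
        · rw [hv i (by simp [S₁, hi]), zero_mul]
        · rw [hv' i hi, zero_pow (by omega), mul_zero]
      have e1 : ∀ v v' : V, ((0 : F), (0 : F), v) + (0, 0, v') = (0, 0, v + v') := fun v v' => by simp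
      have hp : ∀ v v' : V, B v v = 0 → (∀ i, i ∉ S₁ → v i = 0) → B v' v' = 0 →
          (∀ i, i ∉ S₂ → v' i = 0) → Root h.ext H' (0, 0, v + v') := fun v v' hv hvS hv' hvS' => by
        rw [← e1]
        refine hcl' _ _ (hroot1 v hv hvS) (hroot2 v' hv' hvS') ?_
        simp [uExt, horth v v' hvS hvS', -Forms.qPowHom_apply]
      have r1 := hp a a' ha haS ha' haS'
      have r2 := hp b b' hb hbS hb' hbS'
      have eu : u = (a + a') + (b + b') := by rw [hu12, hab, hab']; abel
      rw [eu] at hu ⊢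
      rw [← e1]
      by_cases hne' : uExt σ B ((0 : F), (0 : F), b + b') (0, 0, a + a') = 0
      · refine hcl' _ _ r1 r2 ?_
        rw [← h.ext.symm, hne', map_zero]
      · refine r1.hyper hH'i r2 hne' ?_
        rw [e1]
        simpa [uExt, -Forms.qPowHom_apply] using hu
    · -- a scalar Levi element
      let f : Fin m → Fˣ := fun _ => u₁
      have hdet : ((LinearEquiv.det (diagAut f) : Fˣ) : F) = ω ^ m := by
        rw [det_diagAut]
        simp [f, u₁]
      have hωm : ω ^ m = ω ^ (m % 3) := by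
        conv_lhs => rw [← Nat.mod_add_div m 3, pow_add, pow_mul, hω3, one_pow, mul_one]
      have ht : σ ((u₁ ^ m : Fˣ) : F) = ω ^ (2 * m) := by
        rw [hσ, Units.val_pow_eq_pow_val, ← pow_mul, show u₁.1 = ω from rfl, mul_comm]
      have hne : ω ^ (2 * m + 1) ≠ 1 := by
        rw [pow_succ, pow_mul', hωm]
        rcases (show m % 3 = 0 ∨ m % 3 = 2 by omega) with e | e <;> rw [e]
        · simpa using hω1
        · intro e'
          exact hω1 (by linear_combination hω3 * (ω ^ 3) - ω * e' + hω3)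
      have hfree : ∀ w : V, σ ((u₁ ^ m : Fˣ) : F) • diagAut f w = w → w = 0 := fun w hw => by
        funext i
        have h1 := congrFun hw i
        rw [Pi.smul_apply, diagAut_apply, smul_eq_mul, ht, ← mul_assoc] at h1
        have h2 : (ω ^ (2 * m + 1) - 1) * w i = 0 := by
          rw [pow_succ]
          simp only [f, u₁, Units.val_mk0] at h1
          linear_combination h1
        exact (mul_eq_zero.1 h2).resolve_left (sub_ne_zero.2 hne)
      obtain ⟨x, c, hc, d, hd, hh⟩ := exists_levi_elt hF hH hL (t := u₁ ^ m) (k := diagAut f)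
        (diagAut_mem hF fun i => hN _ (f i).ne_zero) (by
          rw [hdet, ht, Units.val_pow_eq_pow_val, show u₁.1 = ω from rfl, two_mul, pow_add]) hfree
      refine ⟨x, c, hc, fun u hu => ?_⟩
      by_cases hu0 : u = 0
      · rw [hu0]; exact hzero _
      obtain ⟨w, hwu, hww, -⟩ := exists_aniso_orth hF (S := Finset.univ) (by simpa using hm) hu0 (huniv u)
      exact root_of_eigen hF (hL.conj hF hc) (diagAut_mem hF fun i => hN _ (f i).ne_zero) hfree hh hu hwu
        hww (r := ω) (hN ω hω0) (funext fun i => by rw [diagAut_apply]; rfl)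
        (funext fun i => by rw [diagAut_apply]; rfl)

end Cfsg.Agent.Lib.MinIndexUnitary
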