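import Cfsg.Agent.Lib.MinIndexUnitary.Moves

/-!
# Minimal index in unitary groups: subgroups inducing the whole unitary group on a complement
-/

set_option autoImplicit false
set_option linter.unusedSectionVars false

namespace Cfsg.Agent.Lib.MinIndexUnitary

open Cfsg.Agent.Lib.Classical Cfsg.Agent.Lib.MinDegree

variable {F : Type*} [Field F] [Fintype F] {q : ℕ} (hF : Fintype.card F = q ^ 2) {m : ℕ}

local notation "σ" => Forms.qPowHom hF
local notation "V" => (Fin m → F)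
local notation "E" => (F × F × (Fin m → F))
local notation "hV" => hermSpace_std hF m
local notation "B" => Cfsg.hermForm m F q
local notation "a₀" => ((1 : F), (0 : F), (0 : Fin m → F))

theorem uInd_mul' (k l : V ≃ₗ[F] V) : (uInd (k * l) : E ≃ₗ[F] E) = uInd k * uInd l :=
  LinearEquiv.ext fun _ => rfl

theorem uInd_one' : (uInd (1 : V ≃ₗ[F] V) : E ≃ₗ[F] E) = 1 := LinearEquiv.ext fun _ => rfl

theorem uInd_inv' (k : V ≃ₗ[F] V) : (uInd k : E ≃ₗ[F] E)⁻¹ = uInd k⁻¹ := LinearEquiv.ext fun _ => rfl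

variable (H : Subgroup ((F × F × (Fin m → F)) ≃ₗ[F] (F × F × (Fin m → F))))

/-- The subgroup induces everything on the complement and is trivial on the radical. -/
structure Light : Prop where
  levi : leviImg hF H = suV hF m
  rad : radVec hF H = ⊥
  centre : centreVal hF H = ⊥
  scal : pointScalars H = ⊤

theorem radVec_invariant (hlevi : leviImg hF H = suV hF m) {k : V ≃ₗ[F] V} (hk : k ∈ suV hF m) {w : V}
    (hw : w ∈ radVec hF H) : k w ∈ radVec hF H := by
  obtain ⟨c, hc, hm⟩ := hw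
  rw [← hlevi] at hk
  obtain ⟨hk, v, d, hd, hm'⟩ := hk
  have hi := uGroup_le _ hk
  have h3 := H.mul_mem (H.mul_mem hm' hm) (H.inv_mem hm')
  rw [show uT hV v d hd * uInd k * uT hV w c hc * (uT hV v d hd * uInd k)⁻¹
      = uT hV v d hd * (uInd k * uT hV w c hc * (uInd k)⁻¹) * (uT hV v d hd)⁻¹ by group,
    Fusion.SUData.uInd_conj_uT hV hi] at h3
  obtain ⟨hc', e⟩ := Fusion.SUData.uT_conj_uT hV v (k w) d c hd (by rw [hi, hc])
  rw [e] at h3
  exact ⟨_, hc', h3⟩

theorem radVec_eq_bot (hm : 3 ≤ m) (hlevi : leviImg hF H = suV hF m)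
    (ha : ¬ Root (hermSpace_std hF m).ext H a₀) : radVec hF H = ⊥ :=
  invariant_eq_bot hF hm _ (fun _ hk _ hw => radVec_invariant hF H hlevi hk hw) (radVec_card hF H ha)

/-- When the whole group is induced on the complement, the index is large or the subgroup is light. -/
theorem full_dichotomy (hm : 3 ≤ m) (hH : H ≤ suE hF m) (hlevi : leviImg hF H = suV hF m)
    (ha : ¬ Root (hermSpace_std hF m).ext H a₀) :
    pointNum q (m + 2) ≤ H.relIndex (suE hF m) ∨ Light hF H := by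
  have hW := radVec_eq_bot hF H hm hlevi ha
  have hb := point_bound hF H (by omega) hH
  rw [hW, AddSubgroup.card_bot, one_mul, hlevi, Subgroup.relIndex_self, mul_one] at hb
  obtain ⟨hg1, hg2⟩ := scalar_gain hF H hH ha
  have hz := centreVal_card hF H ha
  have hz0 : 0 < Nat.card (centreVal hF H) := Nat.card_pos
  have hcone := cone_le hF m (by omega)
  have hq := two_le_q hF
  have hN : pointNum q (m + 2) = 1 + q ^ 2 * pointNum q m + q ^ (2 * m + 1) := pointNum.eq_3 q m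
  have hp : q ^ (2 * m + 1) = q * q ^ (2 * m) := pow_succ' q (2 * m)
  rcases Nat.lt_or_ge 1 (Nat.card (centreVal hF H)) with h1 | h1
  · left
    have h2 := hg2 h1
    set z := Nat.card (centreVal hF H)
    refine Nat.le_of_mul_le_mul_right ?_ hz0
    have h3 : (z + 1) * q ^ (2 * m + 1) ≤ H.relIndex (suE hF m) * z :=
      le_trans (Nat.mul_le_mul_right _ h2) hb
    have h4 : (1 + q ^ 2 * pointNum q m) * z ≤ q ^ (2 * m + 1) := by
      rw [hp]
      calc (1 + q ^ 2 * pointNum q m) * z ≤ 2 * q ^ (2 * m) * z := Nat.mul_le_mul_right _ hcone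
        _ = q ^ (2 * m) * (2 * z) := by ring
        _ ≤ q ^ (2 * m) * q := Nat.mul_le_mul_left _ hz
        _ = _ := mul_comm _ _
    calc pointNum q (m + 2) * z = (1 + q ^ 2 * pointNum q m) * z + z * q ^ (2 * m + 1) := by rw [hN]; ring
      _ ≤ q ^ (2 * m + 1) + z * q ^ (2 * m + 1) := Nat.add_le_add_right h4 _
      _ = (z + 1) * q ^ (2 * m + 1) := by ring
      _ ≤ _ := h3
  · have hz1 : Nat.card (centreVal hF H) = 1 := by omega
    rw [hz1, mul_one] at hb
    by_cases hD : pointScalars H = ⊤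
    · exact Or.inr ⟨hlevi, hW, AddSubgroup.card_eq_one.1 hz1, hD⟩
    · left
      have hd1 : 2 ≤ (pointScalars H).index := by
        have h0 : (pointScalars H).index ≠ 0 := Subgroup.index_ne_zero_of_finite
        have h1 : (pointScalars H).index ≠ 1 := fun e => hD (Subgroup.index_eq_one.1 e)
        omega
      refine le_trans ?_ hb
      refine le_trans ?_ (Nat.mul_le_mul_right _ hd1)
      rw [hN]
      have : 2 * q ^ (2 * m) ≤ q * q ^ (2 * m) := Nat.mul_le_mul_right _ hq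
      omega

variable {H}

/-- An element of a light subgroup acting trivially on the complement is trivial. -/
theorem Light.eq_one (hL : Light hF H) {w : V} {c : F} {hc : c + σ c + B w w = 0}
    (hm : uT hV w c hc ∈ H) : w = 0 ∧ c = 0 := by
  have hw : w = 0 := by
    have : w ∈ radVec hF H := ⟨c, hc, hm⟩
    rwa [hL.rad, AddSubgroup.mem_bot] at this
  subst hw
  have : c ∈ centreVal hF H := ⟨hc, hm⟩
  rw [hL.centre, AddSubgroup.mem_bot] at this
  exact ⟨rfl, this⟩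

/-- At most one root vector over each vector of the complement. -/
theorem Light.unique (hL : Light hF H) (hH : H ≤ suE hF m) {u : V} (hu : u ≠ 0) {s s' : F}
    (h1 : Root (hermSpace_std hF m).ext H (s, 0, u)) (h2 : Root (hermSpace_std hF m).ext H (s', 0, u)) :
    s = s' := by
  have h := hermSpace_std hF m
  obtain ⟨c, hc0, hc⟩ := h.exists_skew
  have huu : B u u = 0 := by simpa [uExt, -Forms.qPowHom_apply] using h1.1
  have hnc : -c + σ (-c) = 0 := by rw [map_neg]; linear_combination -hc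
  have hgH : tv h.ext (s', 0, u) c * tv h.ext (s, 0, u) (-c) ∈ H := H.mul_mem (h2.2 c hc) (h1.2 _ hnc)
  set g := tv h.ext (s', 0, u) c * tv h.ext (s, 0, u) (-c) with hg
  have hga : g a₀ = a₀ := by
    rw [hg, LinearEquiv.mul_apply, tv_apply h1.1 hnc, tv_apply h2.1 hc]
    simp [uExt, h.zero_left, -Forms.qPowHom_apply]
  obtain ⟨w, d, hd, k, -, e⟩ := fix_decomp hF (hH hgH) hga
  have hk : k = 1 := LinearEquiv.ext fun v => by
    have h3 := congrArg (fun f : E ≃ₗ[F] E => (f (0, 0, v)).2.2) e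
    rw [hg] at h3
    simp only [LinearEquiv.mul_apply, uInd_apply, uT_apply, tv_apply h1.1 hnc, tv_apply h2.1 hc] at h3
    simp [uExt, h.add_left, h.neg_left, h.smul_left, huu, -Forms.qPowHom_apply] at h3
    exact h3.symm
  have e1 : g = uT hV w d hd := by rw [e, hk, uInd_one', mul_one]
  obtain ⟨hw, -⟩ := hL.eq_one hF (e1 ▸ hgH)
  have h4 := congrArg (fun f : E ≃ₗ[F] E => (f (0, 1, 0)).2.2) e1
  rw [hg] at h4
  simp only [LinearEquiv.mul_apply, uT_apply, hw, tv_apply h1.1 hnc, tv_apply h2.1 hc] at h4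
  simp [uExt, h.zero_left, h.neg_left, h.smul_left, huu, -Forms.qPowHom_apply] at h4
  rw [neg_add_eq_zero, eq_comm, ← sub_eq_zero, ← sub_smul, smul_eq_zero, or_iff_left hu] at h4
  have h5 : c * (σ s' - σ s) = 0 := by linear_combination h4
  exact ((Forms.qPowHom hF).injective (sub_eq_zero.1 ((mul_eq_zero.1 h5).resolve_left hc0))).symm

/-- Orthogonal root vectors add up. -/
def PerpClosed (H : Subgroup ((F × F × (Fin m → F)) ≃ₗ[F] (F × F × (Fin m → F)))) : Prop :=
  ∀ x y, Root (hermSpace_std hF m).ext H x → Root (hermSpace_std hF m).ext H y → uExt σ B x y = 0 →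
    Root (hermSpace_std hF m).ext H (x + y)

/-- Lifts of the centraliser of a fixed-point-free Levi element lie in the Levi part. -/
theorem lift_levi {t : Fˣ} {k : V ≃ₗ[F] V} {d : F} {hd : d + σ d + B (0 : V) 0 = 0} (hL : Light hF H) (hk : k ∈ biIsoGroup B)
    (hfree : ∀ w, σ (t : F) • k w = w → w = 0) (hh : uT hV 0 d hd * levHom σ V (t, k) ∈ H)
    {k' : V ≃ₗ[F] V} (hk' : k' ∈ suV hF m) (hcomm : k' * k = k * k') :
    ∃ c hc, uT hV 0 c hc * uInd k' ∈ H := by
  have h := hermSpace_std hF m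
  have hk'' := hk'
  rw [← hL.levi] at hk''
  obtain ⟨-, w, c, hc, hg⟩ := hk''
  have hi := uGroup_le _ hk'
  suffices hw : w = 0 by subst hw; exact ⟨c, hc, hg⟩
  obtain ⟨hc', e'⟩ := lev_conj hF (t := t) hk w c hc
  have hswap : (uInd k' : E ≃ₗ[F] E) * levHom σ V (t, k) = levHom σ V (t, k) * uInd k' := by
    rw [← levHom_one, ← map_mul, ← map_mul]
    congr 1
    exact Prod.ext (mul_comm _ _) hcomm
  have hfix : (uInd k' : E ≃ₗ[F] E) * uT hV 0 d hd = uT hV 0 d hd * uInd k' := by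
    rw [← mul_inv_eq_iff_eq_mul, Fusion.SUData.uInd_conj_uT hV hi]
    exact uT_congr hV (map_zero k') rfl
  have e1 : uT hV w c hc * uInd k' * (uT hV 0 d hd * levHom σ V (t, k))
      = uT hV w c hc * uT hV 0 d hd * (levHom σ V (t, k) * uInd k') := by
    rw [mul_assoc, ← mul_assoc (uInd k'), hfix, mul_assoc (uT hV 0 d hd), hswap, ← mul_assoc]
  have e2 : uT hV 0 d hd * levHom σ V (t, k) * (uT hV w c hc * uInd k')
      = uT hV 0 d hd * uT hV _ _ hc' * (levHom σ V (t, k) * uInd k') := by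
    rw [← e']; group
  have h3 := H.mul_mem (H.mul_mem hh hg) (H.inv_mem (H.mul_mem hg hh))
  rw [e1, e2, mul_inv_rev, mul_assoc (uT hV 0 d hd * uT hV _ _ hc'), ← mul_assoc (levHom σ V (t, k) * uInd k'),
    mul_inv_cancel, one_mul, uT_mul, uT_mul, uT_inv, uT_mul] at h3
  have h4 := (hL.eq_one hF h3).1
  refine hfree w ?_
  linear_combination (norm := module) h4

/-- Root vectors from an eigenspace of the Levi element. -/
theorem root_of_eigen {t : Fˣ} {k : V ≃ₗ[F] V} {d : F} {hd : d + σ d + B (0 : V) 0 = 0} (hL : Light hF H) (hk : k ∈ biIsoGroup B)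
    (hfree : ∀ w, σ (t : F) • k w = w → w = 0) (hh : uT hV 0 d hd * levHom σ V (t, k) ∈ H)
    {u w : V} (hu : B u u = 0) (hwu : B w u = 0) (hww : B w w ≠ 0) {r : F} (hr : r * σ r = 1)
    (hku : k u = r • u) (hkw : k w = r • w) : Root (hermSpace_std hF m).ext H (0, 0, u) := by
  have h := hermSpace_std hF m
  have hww' : σ (B w w) = B w w := h.symm w w
  refine ⟨by simp [uExt, hu, -Forms.qPowHom_apply], fun c hc => ?_⟩
  obtain ⟨s, hs⟩ := exists_sub_conj hF (c := -c / B w w) (by rw [map_div₀, map_neg, hww', ← add_div,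
    show -c + -σ c = 0 by linear_combination -hc, zero_div])
  have hsw : B (s • w) u = 0 := by rw [h.smul_left, hwu, mul_zero]
  obtain ⟨c₁, hc₁⟩ := h.exists_fill w
  obtain ⟨c₂, hc₂⟩ := h.exists_fill (s • w)
  have hcomm : ∀ (v : V) (e : F), B v u = 0 → k v = r • v → e + σ e + B v v = 0 →
      UnitGen.ue h u v e * k = k * UnitGen.ue h u v e := by
    intro v e hvu hkv he
    have : k * UnitGen.ue h u v e * k⁻¹ = UnitGen.ue h u v e := by
      rw [UnitGen.ue_conj hk, hku, hkv, UnitGen.ue_smul_left hu (by rw [h.smul_left, hvu, mul_zero])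
        (by rw [h.smul_left, h.smul_right, ← mul_assoc, hr, one_mul, he]), smul_smul, mul_comm (σ r),
        hr, one_smul, one_mul]
    rw [← mul_inv_eq_iff_eq_mul.1 this]
  obtain ⟨d₁, hd₁, hg₁⟩ := lift_levi hF hL hk hfree hh (k' := UnitGen.ue h u w c₁) (UnitGen.ue_mem_uGroup _ _ _)
    (hcomm w c₁ hwu hkw hc₁)
  obtain ⟨d₂, hd₂, hg₂⟩ := lift_levi hF hL hk hfree hh (k' := UnitGen.ue h u (s • w) c₂)
    (UnitGen.ue_mem_uGroup _ _ _) (hcomm (s • w) c₂ hsw (by rw [map_smul, hkw, smul_comm]) hc₂)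
  set k₁ := UnitGen.ue h u w c₁
  set k₂ := UnitGen.ue h u (s • w) c₂
  have hi₁ : k₁ ∈ biIsoGroup B := UnitGen.ue_mem_iso _ _ _
  have hi₂ : k₂ ∈ biIsoGroup B := UnitGen.ue_mem_iso _ _ _
  have hz : ∀ {k' : V ≃ₗ[F] V}, k' ∈ biIsoGroup B → ∀ (e : F) (he : e + σ e + B (0 : V) 0 = 0),
      (uInd k' : E ≃ₗ[F] E) * uT hV 0 e he = uT hV 0 e he * uInd k' := by
    intro k' hk' e he
    rw [← mul_inv_eq_iff_eq_mul, Fusion.SUData.uInd_conj_uT hV hk']
    exact uT_congr hV (map_zero k') rfl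
  have hzz : uT hV 0 d₁ hd₁ * uT hV 0 d₂ hd₂ = uT hV 0 d₂ hd₂ * uT hV 0 d₁ hd₁ := by
    rw [uT_mul, uT_mul]; exact uT_congr hV rfl (by ring)
  have h3 := H.mul_mem (H.mul_mem hg₁ hg₂) (H.inv_mem (H.mul_mem hg₂ hg₁))
  have e3 : uT hV 0 d₁ hd₁ * uInd k₁ * (uT hV 0 d₂ hd₂ * uInd k₂)
      * (uT hV 0 d₂ hd₂ * uInd k₂ * (uT hV 0 d₁ hd₁ * uInd k₁))⁻¹
      = uInd (k₁ * k₂ * (k₂ * k₁)⁻¹) := by
    rw [mul_assoc (uT hV 0 d₁ hd₁), ← mul_assoc (uInd k₁), hz hi₁, mul_assoc (uT hV 0 d₂ hd₂) (uInd k₁),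
      mul_assoc (uT hV 0 d₂ hd₂) (uInd k₂), ← mul_assoc (uInd k₂) (uT hV 0 d₁ hd₁), hz hi₂,
      mul_assoc (uT hV 0 d₁ hd₁) (uInd k₂), ← uInd_mul', ← uInd_mul', ← mul_assoc, ← mul_assoc,
      ← hzz, mul_inv_rev, uInd_inv']
    have hz' := hz (mul_mem (mul_mem hi₁ hi₂) (inv_mem (mul_mem hi₂ hi₁)))
    rw [show uT hV 0 d₁ hd₁ * uT hV 0 d₂ hd₂ * uInd (k₁ * k₂)
        * (uInd (k₂ * k₁)⁻¹ * (uT hV 0 d₁ hd₁ * uT hV 0 d₂ hd₂)⁻¹)
        = uT hV 0 d₁ hd₁ * uT hV 0 d₂ hd₂ * (uInd (k₁ * k₂) * uInd (k₂ * k₁)⁻¹)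
          * (uT hV 0 d₁ hd₁ * uT hV 0 d₂ hd₂)⁻¹ by group, ← uInd_mul', mul_assoc (uT hV 0 d₁ hd₁),
      ← hz' d₂ hd₂, ← mul_assoc, ← hz' d₁ hd₁]
    group
  rw [e3] at h3
  have e4 : k₁ * k₂ * (k₂ * k₁)⁻¹ = tv h u c := by
    rw [mul_inv_eq_iff_eq_mul]
    simp only [k₁, k₂, tv]
    rw [UnitGen.ue_mul hu hwu hsw hc₁ hc₂, UnitGen.ue_mul hu hsw hwu hc₂ hc₁,
      UnitGen.ue_mul hu (h.zero_left u) (by rw [h.add_left, hsw, hwu, add_zero])
        (UnitGen.fill_zero hc h) (UnitGen.fill_mul hc₂ hc₁ h), zero_add, h.zero_right, sub_zero,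
      add_comm w (s • w)]
    congr 1
    rw [h.smul_left, h.smul_right]
    have hs' : (s - σ s) * B w w = -c := by rw [hs, div_mul_cancel₀ _ hww]
    linear_combination -hs'
  have e5 : tv h.ext (0, 0, u) c = uInd (tv h u c) := LinearEquiv.ext fun p => by
    rw [uInd_apply, tv_apply (by simp [uExt, hu, -Forms.qPowHom_apply]) hc, tv_apply hu hc]
    ext <;> simp [uExt, -Forms.qPowHom_apply]
  rw [e5, ← e4]
  exact h3

end Cfsg.Agent.Lib.MinIndexUnitary
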