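import Cfsg.Agent.Lib.MinIndexUnitary.Frame

/-!
# Minimal index in unitary groups: sections of the root set

If all isotropic vectors of a complement of a hyperbolic plane are root vectors and orthogonal root
vectors add up, a further root vector with anisotropic plane part spreads over a hyperplane section.
-/

set_option autoImplicit false
set_option linter.unusedSectionVars false

namespace Cfsg.Agent.Lib.MinIndexUnitary

open Cfsg.Agent.Lib.Classical Cfsg.Agent.Lib.MinDegree

variable {F : Type*} [Field F] [Fintype F] {q : ℕ} (hF : Fintype.card F = q ^ 2) {m : ℕ}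

local notation "σ" => Forms.qPowHom hF
local notation "V" => (Fin m → F)
local notation "E" => (F × F × (Fin m → F))
local notation "hV" => hermSpace_std hF m
local notation "B" => Cfsg.hermForm m F q

variable {H : Subgroup ((F × F × (Fin m → F)) ≃ₗ[F] (F × F × (Fin m → F)))}

theorem uExt_pair (x y x' y' : F) (w w' : V) :
    uExt σ B (x, y, w) (x', y', w') = x * σ y' + y * σ x' + B w w' := rfl

theorem uExt_zero_left (w : V) (x' y' : F) (w' : V) :
    uExt σ B ((0 : F), (0 : F), w) (x', y', w') = B w w' := by
  rw [uExt_pair]; ring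

theorem uExt_zero_right (x y : F) (w w' : V) :
    uExt σ B (x, y, w) ((0 : F), (0 : F), w') = B w w' := by
  rw [uExt_pair, map_zero]; ring

include hF in
/-- An isotropic vector orthogonal to an anisotropic one and pairing with a given orthogonal vector. -/
theorem exists_iso_orth (hm : 3 ≤ m) {w f : V} (hw : B w w ≠ 0) (hf : f ≠ 0) (hfw : B f w = 0) :
    ∃ u : V, B u u = 0 ∧ B u w = 0 ∧ B f u ≠ 0 := by
  have h := hermSpace_std hF m
  have hwf : B w f = 0 := by rw [← h.symm, hfw, map_zero]
  by_cases hff : B f f = 0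
  · obtain ⟨g₀, hg₀⟩ : ∃ g, B f g ≠ 0 := by
      by_contra hall; push Not at hall; exact hf (h.nondeg f hall)
    set g := g₀ - (B g₀ w / B w w) • w with hg
    have hgw : B g w = 0 := by rw [hg, h.sub_left, h.smul_left, div_mul_cancel₀ _ hw, sub_self]
    have hfg : B f g ≠ 0 := by rwa [hg, h.sub_right, h.smul_right, hfw, mul_zero, sub_zero]
    obtain ⟨t, ht⟩ := h.exists_trace (-B g g) (by rw [map_neg, h.symm])
    refine ⟨g + (t / B f g) • f, ?_, by rw [h.add_left, h.smul_left, hgw, hfw, mul_zero, add_zero], ?_⟩
    · have e : B g f = σ (B f g) := (h.symm f g).symm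
      simp only [h.add_left, h.add_right, h.smul_left, h.smul_right, hff, e, map_div₀]
      have : σ (B f g) ≠ 0 := (map_ne_zero σ).2 hfg
      field_simp
      linear_combination ((σ (B f g)) * B f g) * ht
    · rw [h.add_right, h.smul_right, hff, mul_zero, add_zero]; exact hfg
  · obtain ⟨g, hg0, hgf, hgw⟩ : ∃ g : V, g ≠ 0 ∧ B g f = 0 ∧ B g w = 0 := by
      let L : V →ₗ[F] F × F :=
        { toFun := fun v => (B v f, B v w)
          map_add' := fun v v' => by simp [h.add_left]
          map_smul' := fun s v => by simp [h.smul_left] }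
      have hker : L.ker ≠ ⊥ := fun e => by
        have := LinearMap.finrank_le_finrank_of_injective (LinearMap.ker_eq_bot.1 e)
        rw [Module.finrank_prod, Module.finrank_self, Module.finrank_fintype_fun_eq_card,
          Fintype.card_fin] at this
        omega
      obtain ⟨g, hg, hg0⟩ := Submodule.exists_mem_ne_zero_of_ne_bot hker
      obtain ⟨e1, e2⟩ := Prod.ext_iff.1 (LinearMap.mem_ker.1 hg)
      exact ⟨g, hg0, e1, e2⟩
    obtain ⟨g', hg'f, hg'w, hg'⟩ : ∃ g' : V, B g' f = 0 ∧ B g' w = 0 ∧ B g' g' ≠ 0 := by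
      by_cases hgg : B g g = 0
      swap
      · exact ⟨g, hgf, hgw, hgg⟩
      obtain ⟨k₀, hk₀⟩ : ∃ k, B g k ≠ 0 := by
        by_contra hall; push Not at hall; exact hg0 (h.nondeg g hall)
      set k := k₀ - (B k₀ w / B w w) • w - (B k₀ f / B f f) • f with hk
      have hkw : B k w = 0 := by
        rw [hk, h.sub_left, h.sub_left, h.smul_left, h.smul_left, hfw, mul_zero, sub_zero,
          div_mul_cancel₀ _ hw, sub_self]
      have hkf : B k f = 0 := by
        rw [hk, h.sub_left, h.sub_left, h.smul_left, h.smul_left, hwf, mul_zero, sub_zero,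
          div_mul_cancel₀ _ hff, sub_self]
      have hgk : B g k ≠ 0 := by
        rwa [hk, h.sub_right, h.sub_right, h.smul_right, h.smul_right, hgw, hgf, mul_zero, mul_zero,
          sub_zero, sub_zero]
      obtain ⟨t, ht⟩ := h.exists_trace (1 - B k k) (by rw [map_sub, map_one, h.symm])
      refine ⟨k + (t / B g k) • g, by rw [h.add_left, h.smul_left, hkf, hgf, mul_zero, add_zero],
        by rw [h.add_left, h.smul_left, hkw, hgw, mul_zero, add_zero], ?_⟩
      have e : B k g = σ (B g k) := (h.symm g k).symm
      have hs : σ (B g k) ≠ 0 := (map_ne_zero σ).2 hgk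
      simp only [h.add_left, h.add_right, h.smul_left, h.smul_right, hgg, e, map_div₀]
      intro h0
      field_simp at h0
      exact mul_ne_zero hs hgk (by linear_combination h0 - (σ (B g k) * B g k) * ht)
    obtain ⟨s, hs⟩ := Forms.exists_norm_eq (Forms.qPowHom_ne_id hF) (Forms.qPowHom_qPowHom hF)
      (c := -B g' g' / B f f) (by rw [map_div₀, map_neg, h.symm, h.symm])
    have hs0 : s ≠ 0 := fun e => hg' (by
      rw [e, map_zero, mul_zero, eq_comm, div_eq_zero_iff, or_iff_left hff, neg_eq_zero] at hs
      exact hs)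
    have hfg' : B f g' = 0 := by rw [← h.symm, hg'f, map_zero]
    refine ⟨s • f + g', ?_, by rw [h.add_left, h.smul_left, hfw, hg'w, mul_zero, add_zero], ?_⟩
    · simp only [h.add_left, h.add_right, h.smul_left, h.smul_right, hg'f, hfg']
      rw [eq_div_iff hff] at hs
      linear_combination hs
    · rw [h.add_right, h.smul_right, hfg', add_zero]
      exact mul_ne_zero ((map_ne_zero σ).2 hs0) hff

/-- A root vector with anisotropic plane part spreads over all complement parts of the same norm. -/
theorem section_roots (hm : 3 ≤ m) (hcl : PerpClosed hF H)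
    (hU : ∀ u : V, B u u = 0 → Root (hermSpace_std hF m).ext H (0, 0, u)) {x y : F} {w : V}
    (hr : Root (hermSpace_std hF m).ext H (x, y, w)) (hw : B w w ≠ 0) {w' : V} (hw' : B w' w' = B w w) :
    Root (hermSpace_std hF m).ext H (x, y, w') := by
  have h := hermSpace_std hF m
  have step : ∀ v d : V, Root h.ext H (x, y, v) → B d d = 0 → B v d = 0 →
      Root h.ext H (x, y, v + d) := by
    intro v d hv hd hvd
    have := hcl _ _ hv (hU d hd) (by rw [uExt_zero_right, hvd])
    simpa using this
  have indep : ∀ v v' : V, Root h.ext H (x, y, v) → B v v = B w w → B v' v' = B w w →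
      (∀ r : F, v' ≠ r • v) → Root h.ext H (x, y, v') := by
    intro v v' hv hvn hv'n hind
    have hvn0 : B v v ≠ 0 := by rw [hvn]; exact hw
    have hs : σ (B v v) = B v v := h.symm v v
    set δ := B v v - B v' v with hδ
    by_cases hδ0 : δ = 0
    · have e : B v' v = B v v := (sub_eq_zero.1 (hδ ▸ hδ0)).symm
      have e' : B v v' = B v v := by rw [← h.symm, e, hs]
      have := step v (v' - v) hv
        (by rw [h.sub_left, h.sub_right, h.sub_right, hv'n, e, e', hvn]; ring)
        (by rw [h.sub_right, e', sub_self])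
      rwa [add_sub_cancel] at this
    set f := v' - (B v' v / B v v) • v with hfdef
    have hf0 : f ≠ 0 := fun e => hind _ (sub_eq_zero.1 (hfdef ▸ e))
    have hfv : B f v = 0 := by rw [hfdef, h.sub_left, h.smul_left, div_mul_cancel₀ _ hvn0, sub_self]
    obtain ⟨u, hu, huv, hfu⟩ := exists_iso_orth hF hm hvn0 hf0 hfv
    have hvu : B v u = 0 := by rw [← h.symm, huv, map_zero]
    have hv'u : B v' u = B f u := by rw [hfdef, h.sub_left, h.smul_left, hvu, mul_zero, sub_zero]
    set s := σ (δ / B v' u) with hsd
    have hsu : B v' (s • u) = δ := by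
      rw [h.smul_right, hsd, h.invol, div_mul_cancel₀ _ (hv'u ▸ hfu)]
    have h1 := step v (s • u) hv (by rw [h.smul_left, h.smul_right, hu]; ring)
      (by rw [h.smul_right, hvu, mul_zero])
    set v₂ := v + s • u with hv₂
    have hv₂n : B v₂ v₂ = B v v := by
      rw [hv₂, h.add_left, h.add_right, h.add_right, h.smul_left, h.smul_right, h.smul_left, h.smul_right,
        huv, hvu, hu]
      ring
    have e : B v' v₂ = B v v := by rw [hv₂, h.add_right, hsu, hδ, add_sub_cancel]
    have e' : B v₂ v' = B v v := by rw [← h.symm, e, hs]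
    have := step v₂ (v' - v₂) h1
      (by rw [h.sub_left, h.sub_right, h.sub_right, hv'n, e, e', hv₂n, hvn]; ring)
      (by rw [h.sub_right, e', hv₂n, sub_self])
    rwa [add_sub_cancel] at this
  by_cases hdep : ∀ r : F, w' ≠ r • w
  · exact indep w w' hr rfl hw' hdep
  push Not at hdep
  obtain ⟨r, rfl⟩ := hdep
  have hr0 : r ≠ 0 := fun e => by
    rw [e, zero_smul, h.zero_left] at hw'; exact hw hw'.symm
  obtain ⟨f, hf0, hfw⟩ : ∃ f : V, f ≠ 0 ∧ B f w = 0 := by
    let L : V →ₗ[F] F :=
      { toFun := fun v => B v w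
        map_add' := fun v v' => h.add_left _ _ _
        map_smul' := fun s v => h.smul_left _ _ _ }
    have hker : L.ker ≠ ⊥ := fun e => by
      have := LinearMap.finrank_le_finrank_of_injective (LinearMap.ker_eq_bot.1 e)
      rw [Module.finrank_self, Module.finrank_fintype_fun_eq_card, Fintype.card_fin] at this
      omega
    obtain ⟨g, hg, hg0⟩ := Submodule.exists_mem_ne_zero_of_ne_bot hker
    exact ⟨g, hg0, hg⟩
  obtain ⟨u, hu, huw, hfu⟩ := exists_iso_orth hF hm hw hf0 hfw
  have hu0 : u ≠ 0 := fun e => hfu (by rw [e, h.zero_right])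
  have hwu : B w u = 0 := by rw [← h.symm, huw, map_zero]
  have h1 := step w u hr hu hwu
  have hn : B (w + u) (w + u) = B w w := by
    rw [h.add_left, h.add_right, h.add_right, huw, hwu, hu]; ring
  refine indep (w + u) (r • w) h1 hn hw' fun s e => ?_
  have e1 : (r - s) • w = s • u := by rw [sub_smul, e, smul_add]; abel
  have e2 := congrArg (fun v => B v w) e1
  simp only [h.smul_left, huw, mul_zero, mul_eq_zero, sub_eq_zero, or_iff_left hw] at e2
  rw [← e2, sub_self, zero_smul, eq_comm, smul_eq_zero] at e1
  exact hu0 (e1.resolve_left hr0)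

end Cfsg.Agent.Lib.MinIndexUnitary
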