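import Cfsg.Agent.Lib.MinIndexUnitary.Point

/-!
# Minimal index in unitary groups: the orbit formula at an isotropic point
-/

set_option autoImplicit false
set_option linter.unusedSectionVars false

namespace Cfsg.Agent.Lib.MinIndexUnitary

open Cfsg.Agent.Lib.Classical Cfsg.Agent.Lib.MinDegree

variable {F : Type*} [Field F] [Fintype F] {q : ℕ} (hF : Fintype.card F = q ^ 2) {m : ℕ}

local notation "σ" => Forms.qPowHom hF
local notation "V" => (Fin m → F)
local notation "E" => (F × F × (Fin m → F))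
local notation "hV" => hermSpace_std hF m
local notation "a₀" => ((1 : F), (0 : F), (0 : Fin m → F))

instance finiteEquivE : Finite ((F × F × (Fin m → F)) ≃ₗ[F] (F × F × (Fin m → F))) :=
  Finite.of_injective (fun g => (g : (F × F × (Fin m → F)) → (F × F × (Fin m → F)))) DFunLike.coe_injective

instance finiteEquivV : Finite ((Fin m → F) ≃ₗ[F] (Fin m → F)) :=
  Finite.of_injective (fun g => (g : (Fin m → F) → (Fin m → F))) DFunLike.coe_injective

variable (H : Subgroup ((F × F × (Fin m → F)) ≃ₗ[F] (F × F × (Fin m → F))))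

/-- The elements of the subgroup fixing the vector. -/
theorem fix_card (hH : H ≤ suE hF m) :
    Nat.card {g : E ≃ₗ[F] E // g ∈ H ∧ g a₀ = a₀}
      = Nat.card (leviImg hF H) * Nat.card (radVec hF H) * Nat.card (centreVal hF H) := by
  have h := hermSpace_std hF m
  choose φ ψ hψ hφ using fun k : leviImg hF H => k.2.2
  choose ρ hρ hρH using fun w : radVec hF H => w.2
  choose hz hzH using fun c : centreVal hF H => c.2
  let f : leviImg hF H × radVec hF H × centreVal hF H → {g : E ≃ₗ[F] E // g ∈ H ∧ g a₀ = a₀} := fun p =>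
    ⟨uT hV 0 _ (hz p.2.2) * uT hV _ _ (hρ p.2.1) * (uT hV _ _ (hψ p.1) * uInd p.1.1),
      H.mul_mem (H.mul_mem (hzH _) (hρH _)) (hφ _), by
      rw [LinearEquiv.mul_apply, uT_mul_uInd_fix, LinearEquiv.mul_apply, uT_apply, uT_apply]
      simp [h.zero_left]⟩
  rw [mul_assoc, ← Nat.card_prod, ← Nat.card_prod]
  refine (Nat.card_eq_of_bijective f ⟨?_, ?_⟩).symm
  · rintro ⟨k, w, c⟩ ⟨k', w', c'⟩ e
    have e' := congrArg Subtype.val e
    simp only [f, ← mul_assoc, uT_mul] at e'
    obtain ⟨e1, e2, e3⟩ := Fusion.SUData.uT_uInd_inj hV e'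
    obtain rfl : k = k' := Subtype.ext e3
    obtain rfl : w = w' := Subtype.ext (by simpa using e1)
    have : c = c' := Subtype.ext (by simpa using e2)
    rw [this]
  · rintro ⟨g, hgH, hg⟩
    obtain ⟨w, c, hc, k, hk, rfl⟩ := fix_decomp hF (hH hgH) hg
    let k' : leviImg hF H := ⟨k, hk, w, c, hc, hgH⟩
    have h1 := H.mul_mem hgH (H.inv_mem (hφ k'))
    rw [mul_inv_rev, mul_assoc, ← mul_assoc (uInd k), mul_inv_cancel, one_mul, uT_inv, uT_mul] at h1
    let w' : radVec hF H := ⟨w + -φ k', _, _, h1⟩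
    have h2 := H.mul_mem h1 (H.inv_mem (hρH w'))
    rw [uT_inv, uT_mul] at h2
    have hw : (w + -φ k') + -(w' : V) = 0 := by simp [w']
    set c1 := c + σ (ψ k') - Cfsg.hermForm m F q (-φ k') w with hc1
    have hd : c1 + σ c1 + Cfsg.hermForm m F q (w + -φ k') (w + -φ k') = 0 := by
      rw [hc1, map_sub, map_add, h.invol, h.symm]
      simp only [h.add_left, h.add_right, h.neg_left, h.neg_right, neg_neg]
      linear_combination hc + hψ k'
    set c2 := c1 + σ (ρ w') - Cfsg.hermForm m F q (-(w' : V)) (w + -φ k') with hc2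
    have hd2 : c2 + σ c2 + Cfsg.hermForm m F q 0 0 = 0 := by
      have hρ' := hρ w'
      rw [hc2, map_sub, map_add, h.invol, h.symm, h.zero_left]
      simp only [w', h.neg_left, h.neg_right] at hρ' ⊢
      linear_combination hd + hρ'
    let z : centreVal hF H := ⟨c2, hd2, by convert h2 using 1; exact uT_congr hV hw.symm rfl⟩
    refine ⟨⟨k', w', z⟩, Subtype.ext ?_⟩
    show uT hV 0 c2 _ * uT hV _ _ (hρ w') * (uT hV _ _ (hψ k') * uInd k) = _
    rw [← mul_assoc]
    congr 1
    rw [uT_mul, uT_mul]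
    refine uT_congr hV (by simp [w']) ?_
    rw [hc2, hc1]
    have hρ' := hρ w'
    have hψ' := hψ k'
    simp only [w', h.zero_right, h.neg_left, h.neg_right, h.add_left, h.add_right,
      zero_add] at hρ' ⊢
    linear_combination hρ' + hψ'

/-- The radical and Levi data of the whole group. -/
theorem fix_card_top : Nat.card {g : E ≃ₗ[F] E // g ∈ suE hF m ∧ g a₀ = a₀}
    = Nat.card (suV hF m) * q ^ (2 * m) * q := by
  have h := hermSpace_std hF m
  rw [fix_card hF _ le_rfl]
  congr 1; congr 1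
  · congr 2
    refine le_antisymm (fun k hk => hk.1) fun k hk => ⟨hk, 0, 0, by rw [map_zero, h.zero_left]; ring, ?_⟩
    · rw [uT_zero, one_mul]; exact uInd_uGroup hV hk
  · rw [← natCard_space hF m]
    refine Nat.card_congr ((Equiv.subtypeEquivRight fun w => ?_).trans (Equiv.Set.univ _))
    refine ⟨fun _ => Set.mem_univ _, fun _ => ?_⟩
    obtain ⟨c, hc⟩ := h.exists_fill w
    exact ⟨c, hc, uT_mem hV _ _ _⟩
  · refine Eq.trans (Nat.card_congr (Equiv.subtypeEquivRight fun c => ?_)) (card_skew hF)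
    refine ⟨fun ⟨hc, _⟩ => ?_, fun hc => ⟨skew_fill hV (mem_skew.1 hc), uT_mem hV _ _ _⟩⟩
    rw [mem_skew]
    rwa [h.zero_left, add_zero] at hc

/-- The orbit of the vector. -/
def vecOrbit : Set (F × F × (Fin m → F)) := {v | ∃ g ∈ H, g a₀ = v}

theorem card_eq_orbit_mul :
    Nat.card H = Nat.card (vecOrbit H) * Nat.card {g : E ≃ₗ[F] E // g ∈ H ∧ g a₀ = a₀} := by
  classical
  choose s hsH hs using fun v : vecOrbit H => v.2
  rw [← Nat.card_prod]
  refine Nat.card_congr
    ⟨fun g => (⟨g.1 a₀, g.1, g.2, rfl⟩, ⟨(s ⟨g.1 a₀, g.1, g.2, rfl⟩)⁻¹ * g.1,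
        H.mul_mem (H.inv_mem (hsH _)) g.2, ?_⟩),
      fun p => ⟨s p.1 * p.2.1, H.mul_mem (hsH _) p.2.2.1⟩, fun g => ?_, fun p => ?_⟩
  · rw [LinearEquiv.mul_apply]
    show (s _).symm _ = _
    rw [LinearEquiv.symm_apply_eq, hs]
  · exact Subtype.ext (mul_inv_cancel_left _ _)
  · have e : (s p.1 * p.2.1) a₀ = p.1.1 := by rw [LinearEquiv.mul_apply, p.2.2.2, hs]
    obtain ⟨v, k⟩ := p
    have : (⟨(s v * k.1) a₀, s v * k.1, H.mul_mem (hsH _) k.2.1, rfl⟩ : vecOrbit H) = v := Subtype.ext e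
    refine Prod.ext this (Subtype.ext ?_)
    show (s _)⁻¹ * (s v * k.1) = k.1
    rw [this, inv_mul_cancel_left]

/-- The isotropic vectors other than zero. -/
theorem vecOrbit_top (hm : 1 ≤ m) :
    Nat.card (vecOrbit (suE hF m)) = (q ^ 2 - 1) * pointNum q (m + 2) := by
  have h := hermSpace_std hF m
  obtain ⟨v, hv⟩ := exists_unit hF hm
  have ha : (a₀ : E) ≠ 0 := fun e => one_ne_zero (congrArg Prod.fst e)
  have e : vecOrbit (suE hF m)
      = {p : E | uExt σ (Cfsg.hermForm m F q) p p = 0} \ {0} := by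
    ext p
    refine ⟨?_, fun hp => exists_uGroup_move h hv p hp.1 hp.2⟩
    rintro ⟨g, hg, rfl⟩
    exact ⟨by
      show uExt σ _ _ _ = 0
      rw [uGroup_le _ hg]; simp [uExt, h.zero_left, -Forms.qPowHom_apply], fun e => ha (g.map_eq_zero_iff.1 e)⟩
  have hcard := isoCount_ext hF m
  rw [e, Nat.card_coe_set_eq, Set.ncard_sdiff_singleton_of_mem (by simp [uExt, h.zero_left, -Forms.qPowHom_apply])]
  rw [← Nat.card_coe_set_eq]
  exact (congrArg (· - 1) hcard).trans (Nat.add_sub_cancel _ _)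

/-- The orbit formula. -/
theorem index_eq (hm : 1 ≤ m) (hH : H ≤ suE hF m) :
    H.relIndex (suE hF m) * Nat.card (vecOrbit H) * (Nat.card (radVec hF H) * Nat.card (centreVal hF H))
      = (q ^ 2 - 1) * pointNum q (m + 2) * (leviImg hF H).relIndex (suV hF m) * q ^ (2 * m + 1) := by
  have hi := Subgroup.card_mul_index (H.subgroupOf (suE hF m))
  rw [Nat.card_congr (Subgroup.subgroupOfEquivOfLe hH).toEquiv, card_eq_orbit_mul H,
    fix_card hF H hH, card_eq_orbit_mul (suE hF m), fix_card_top, vecOrbit_top hF hm] at hi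
  have hle : leviImg hF H ≤ suV hF m := fun k hk => hk.1
  have hM := Subgroup.card_mul_index ((leviImg hF H).subgroupOf (suV hF m))
  rw [Nat.card_congr (Subgroup.subgroupOfEquivOfLe hle).toEquiv] at hM
  change _ * H.relIndex (suE hF m) = _ at hi
  change _ * (leviImg hF H).relIndex (suV hF m) = _ at hM
  rw [← hM] at hi
  refine Nat.eq_of_mul_eq_mul_left (Nat.card_pos (α := leviImg hF H)) ?_
  rw [show q ^ (2 * m + 1) = q ^ (2 * m) * q from pow_succ q (2 * m)]
  linarith [hi]

/-- The orbit meets each line in at most as many vectors as there are scalars. -/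
theorem orbit_le (hm : 1 ≤ m) (hH : H ≤ suE hF m) :
    (q ^ 2 - 1) * Nat.card (vecOrbit H)
      ≤ (q ^ 2 - 1) * pointNum q (m + 2) * Nat.card (pointScalars H) := by
  classical
  rw [← natCard_units_field hF, ← Nat.card_prod]
  have key : ∀ (p : Fˣ × vecOrbit H), ((p.1 : F) • (p.2.1 : E)) ∈ vecOrbit (suE hF m) := by
    rintro ⟨s, v, g, hg, rfl⟩
    have h := hermSpace_std hF m
    obtain ⟨u, hu⟩ := exists_unit hF hm
    refine exists_uGroup_move h hu _ ?_ ?_
    · rw [h.ext.smul_left, h.ext.smul_right, uGroup_le _ (hH hg)]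
      simp [uExt, h.zero_left, -Forms.qPowHom_apply]
    · intro e
      rw [smul_eq_zero] at e
      exact e.elim s.ne_zero fun e' => one_ne_zero (congrArg Prod.fst (g.map_eq_zero_iff.1 e'))
  rw [natCard_units_field hF, ← vecOrbit_top hF hm, ← Nat.card_prod]
  choose g hg hga using fun v : vecOrbit H => v.2
  let f : Fˣ × vecOrbit H → vecOrbit (suE hF m) := fun p => ⟨_, key p⟩
  have : Nonempty (Fˣ × vecOrbit H) := ⟨(1, ⟨_, 1, H.one_mem, rfl⟩)⟩
  refine Nat.card_le_card_of_injective (fun p => (f p, ⟨(Function.invFun f (f p)).1 * p.1⁻¹, ?_⟩)) ?_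
  · have e : f (Function.invFun f (f p)) = f p := Function.invFun_eq ⟨p, rfl⟩
    set p₀ := Function.invFun f (f p)
    have e' : (p₀.1 : F) • (g p₀.2) a₀ = (p.1 : F) • (g p.2) a₀ := by
      rw [hga, hga]; exact congrArg Subtype.val e
    refine ⟨(g p₀.2)⁻¹ * g p.2, H.mul_mem (H.inv_mem (hg _)) (hg _), ?_⟩
    rw [LinearEquiv.mul_apply]
    show (g p₀.2).symm _ = _
    rw [LinearEquiv.symm_apply_eq, map_smul, Units.val_mul, Units.val_inv_eq_inv_val, mul_comm,
      mul_smul, e', smul_smul, inv_mul_cancel₀ p.1.ne_zero, one_smul]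
  · intro p p' e
    have e1 : f p = f p' := congrArg Prod.fst e
    have e3 : (Function.invFun f (f p)).1 * p.1⁻¹ = (Function.invFun f (f p')).1 * p'.1⁻¹ :=
      congrArg Subtype.val (congrArg Prod.snd e :)
    rw [e1, mul_right_inj, inv_inj] at e3
    refine Prod.ext e3 (Subtype.ext ?_)
    have e4 : (p.1 : F) • (p.2.1 : E) = (p'.1 : F) • (p'.2.1 : E) := congrArg Subtype.val e1
    rw [e3] at e4
    exact smul_right_injective E p'.1.ne_zero e4

/-- The index bound at a point. -/
theorem point_bound (hm : 1 ≤ m) (hH : H ≤ suE hF m) :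
    (pointScalars H).index * (leviImg hF H).relIndex (suV hF m) * q ^ (2 * m + 1)
      ≤ H.relIndex (suE hF m) * (Nat.card (radVec hF H) * Nat.card (centreVal hF H)) := by
  have he := index_eq hF H hm hH
  have ho := orbit_le hF H hm hH
  have hD := Subgroup.card_mul_index (pointScalars H)
  rw [natCard_units_field hF] at hD
  have hN : 0 < (q ^ 2 - 1) * pointNum q (m + 2) := by
    have h2 := two_le_q hF
    have h4 : 4 ≤ q ^ 2 := by nlinarith
    refine Nat.mul_pos (by omega) ?_
    rw [pointNum]; omega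
  refine Nat.le_of_mul_le_mul_left ?_ (Nat.mul_pos hN (Nat.card_pos (α := pointScalars H)))
  calc _ = (q ^ 2 - 1) * ((q ^ 2 - 1) * pointNum q (m + 2) * (leviImg hF H).relIndex (suV hF m)
          * q ^ (2 * m + 1)) := by rw [← hD]; ring
    _ = (q ^ 2 - 1) * Nat.card (vecOrbit H) * (H.relIndex (suE hF m)
          * (Nat.card (radVec hF H) * Nat.card (centreVal hF H))) := by rw [← he]; ring
    _ ≤ (q ^ 2 - 1) * pointNum q (m + 2) * Nat.card (pointScalars H) * (H.relIndex (suE hF m)
          * (Nat.card (radVec hF H) * Nat.card (centreVal hF H))) := Nat.mul_le_mul_right _ ho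

end Cfsg.Agent.Lib.MinIndexUnitary
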