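import Cfsg.Agent.Lib.MinIndexUnitary.Local
import Cfsg.Agent.Lib.MinIndexSp.Count

/-!
# Minimal index in unitary groups: bounds for the radical vectors, the centre and the scalars
-/

set_option autoImplicit false
set_option linter.unusedSectionVars false

namespace Cfsg.Agent.Lib.MinIndexUnitary

open Cfsg.Agent.Lib.Classical Cfsg.Agent.Lib.MinDegree

variable {F : Type*} [Field F] [Fintype F] {q : ℕ} (hF : Fintype.card F = q ^ 2) {m : ℕ}

local notation "σ" => Forms.qPowHom hF
local notation "V" => (Fin m → F)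
local notation "E" => (F × F × (Fin m → F))
local notation "hV" => hermSpace_std hF m
local notation "a₀" => ((1 : F), (0 : F), (0 : Fin m → F))

variable (H : Subgroup ((F × F × (Fin m → F)) ≃ₗ[F] (F × F × (Fin m → F))))

theorem tv_a {c : F} (hc : c + σ c = 0) :
    tv (hermSpace_std hF m).ext a₀ c = uT hV 0 c (skew_fill hV hc) := by
  have h := hermSpace_std hF m
  refine LinearEquiv.ext fun p => ?_
  rw [tv_apply (by simp [uExt, h.zero_left, -Forms.qPowHom_apply]) hc, uT_apply]
  ext <;> simp [uExt, h.zero_right, -Forms.qPowHom_apply]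

theorem centreVal_skew {c : F} (hc : c ∈ centreVal hF H) : c + σ c = 0 := by
  obtain ⟨h, -⟩ := hc
  rwa [(hermSpace_std hF m).zero_left, add_zero] at h

theorem centreVal_ne (ha : ¬ Root (hermSpace_std hF m).ext H a₀) :
    ∃ c : F, c + σ c = 0 ∧ c ∉ centreVal hF H := by
  by_contra hne
  push Not at hne
  refine ha ⟨by simp [uExt, (hermSpace_std hF m).zero_left, -Forms.qPowHom_apply], fun c hc => ?_⟩
  obtain ⟨hm₀, hm⟩ := hne c hc
  rwa [tv_a hF hc]

theorem radVec_comm {v w : V} (hv : v ∈ radVec hF H) (hw : w ∈ radVec hF H) :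
    Cfsg.hermForm m F q v w - Cfsg.hermForm m F q w v ∈ centreVal hF H := by
  obtain ⟨c, hc, hm⟩ := hv
  obtain ⟨d, hd, hm'⟩ := hw
  open scoped commutatorElement in
  have e := uT_commutator hV v w c d hc hd
  refine ⟨skew_fill hV (by rw [map_sub, (hermSpace_std hF m).symm, (hermSpace_std hF m).symm]; ring), ?_⟩
  rw [← e, commutatorElement_def]
  exact H.mul_mem (H.mul_mem (H.mul_mem hm hm') (H.inv_mem hm)) (H.inv_mem hm')

/-- Radical vectors pair into a proper subgroup of the skew scalars. -/
theorem radVec_card (ha : ¬ Root (hermSpace_std hF m).ext H a₀) :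
    Nat.card (radVec hF H) ≤ q ^ m := by
  classical
  have h := hermSpace_std hF m
  obtain ⟨c₀, hc₀, hc₀Z⟩ := centreVal_ne hF H ha
  obtain ⟨x₀, hx₀⟩ := exists_sub_conj hF hc₀
  let tr : F →+ F := AddMonoidHom.id F - (Forms.qPowHom hF).toAddMonoidHom
  let K : AddSubgroup F := (centreVal hF H).comap tr
  have hK : x₀ ∉ K := fun hx => hc₀Z (by
    rw [← hx₀]
    exact hx)
  obtain ⟨χ, hχ⟩ := AddChar.exists_apply_ne_zero.2
    (show (QuotientAddGroup.mk x₀ : F ⧸ K) ≠ 0 from fun e => hK ((QuotientAddGroup.eq_zero_iff x₀).1 e))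
  let ψ : AddChar F ℂ := χ.compAddMonoidHom (QuotientAddGroup.mk' K)
  have hψK : ∀ k ∈ K, ψ k = 1 := fun k hk => by simp [ψ, (QuotientAddGroup.eq_zero_iff k).2 hk]
  have hψ : ψ x₀ ≠ 1 := by simpa [ψ] using hχ
  let W := radVec hF H
  let Φ : W →+ AddChar V ℂ :=
    { toFun := fun w => ψ.compAddMonoidHom
        { toFun := fun v => Cfsg.hermForm m F q (w : V) v
          map_zero' := h.zero_right _
          map_add' := fun v v' => h.add_right _ _ _ }
      map_zero' := DFunLike.ext _ _ fun v => by simp [h.zero_left]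
      map_add' := fun w w' => DFunLike.ext _ _ fun v => by simp [h.add_left, AddChar.map_add_eq_mul] }
  have hinj : Function.Injective Φ := (injective_iff_map_eq_zero Φ).2 fun w hw => by
    by_contra hne
    obtain ⟨u, hu⟩ : ∃ u, Cfsg.hermForm m F q (w : V) u ≠ 0 := by
      by_contra hall
      push Not at hall
      exact hne (Subtype.ext (h.nondeg _ hall))
    have := DFunLike.congr_fun hw ((σ (x₀ / Cfsg.hermForm m F q (w : V) u)) • u)
    simp only [Φ, AddMonoidHom.coe_mk, ZeroHom.coe_mk, AddChar.compAddMonoidHom_apply,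
      h.smul_right, h.invol, div_mul_cancel₀ _ hu, AddChar.zero_apply] at this
    exact hψ this
  have himg : ∀ w : W, ∀ y ∈ W, Φ w y = 1 := fun w y hy => by
    simp only [Φ, AddMonoidHom.coe_mk, ZeroHom.coe_mk, AddChar.compAddMonoidHom_apply]
    refine hψK _ ?_
    show Cfsg.hermForm m F q (w : V) y - σ (Cfsg.hermForm m F q (w : V) y) ∈ centreVal hF H
    rw [h.symm]
    exact radVec_comm hF H w.2 hy
  have h1 : Nat.card W * Nat.card W ≤ q ^ (2 * m) := by
    let Y : AddSubgroup V := W
    let g : W → {χ : AddChar V ℂ // ∀ y ∈ Y, χ y = 1} := fun w => ⟨Φ w, himg w⟩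
    have hg : Function.Injective g := fun w w' e => hinj (congrArg Subtype.val e)
    have h2 := Nat.mul_le_mul_right (Nat.card W) (Nat.card_le_card_of_injective g hg)
    refine h2.trans ?_
    rw [← natCard_space hF m]
    exact MinIndexSp.card_char_trivial Y
  rw [mul_comm 2 m, pow_mul, sq] at h1
  exact Nat.mul_self_le_mul_self_iff.1 h1

/-- The fixed scalars stabilising the centre values. -/
theorem centre_stab (ha : ¬ Root (hermSpace_std hF m).ext H a₀) (S : Finset F)
    (hS : ∀ k ∈ S, k ≠ 0 ∧ σ k = k ∧ ∀ c ∈ centreVal hF H, k * c ∈ centreVal hF H) :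
    Nat.card (centreVal hF H) * (S.card + 1) ≤ q := by
  classical
  obtain ⟨y, hy, hyZ⟩ := centreVal_ne hF H ha
  let K : AddSubgroup F :=
    { carrier := {k | σ k = k ∧ ∀ c ∈ centreVal hF H, k * c ∈ centreVal hF H}
      zero_mem' := ⟨map_zero _, fun c _ => by rw [zero_mul]; exact (centreVal hF H).zero_mem⟩
      add_mem' := fun {a b} ha hb => ⟨by rw [map_add, ha.1, hb.1],
        fun c hc => by rw [add_mul]; exact (centreVal hF H).add_mem (ha.2 c hc) (hb.2 c hc)⟩
      neg_mem' := fun {a} ha => ⟨by rw [map_neg, ha.1],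
        fun c hc => by rw [neg_mul]; exact (centreVal hF H).neg_mem (ha.2 c hc)⟩ }
  let f : centreVal hF H × K → skew σ := fun p => ⟨(p.1 : F) + (p.2 : F) * y, by
    rw [mem_skew, map_add, map_mul, p.2.2.1]
    linear_combination centreVal_skew hF H p.1.2 + (p.2 : F) * hy⟩
  have hf : Function.Injective f := by
    rintro ⟨⟨c, hc⟩, ⟨k, hk⟩⟩ ⟨⟨c', hc'⟩, ⟨k', hk'⟩⟩ e
    have e' : c + k * y = c' + k' * y := congrArg Subtype.val e
    have hd : (k - k') * y ∈ centreVal hF H := by
      rw [show (k - k') * y = c' - c by linear_combination e']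
      exact (centreVal hF H).sub_mem hc' hc
    obtain rfl : k = k' := by
      by_contra hne
      have hne' : k - k' ≠ 0 := sub_ne_zero.2 hne
      let L : centreVal hF H → centreVal hF H := fun w => ⟨(k - k') * w, (K.sub_mem hk hk').2 _ w.2⟩
      obtain ⟨w, hw⟩ := Finite.surjective_of_injective
        (f := L) (fun a b h => Subtype.ext (mul_left_cancel₀ hne' (congrArg Subtype.val h))) ⟨_, hd⟩
      exact hyZ (mul_left_cancel₀ hne' (congrArg Subtype.val hw) ▸ w.2)
    obtain rfl : c = c' := by linear_combination e'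
    rfl
  have h1 := Nat.card_le_card_of_injective f hf
  rw [Nat.card_prod, card_skew hF] at h1
  refine le_trans (Nat.mul_le_mul_left _ ?_) h1
  rw [← Finset.card_insert_of_notMem (a := (0 : F)) (s := S) fun h0 => (hS 0 h0).1 rfl,
    ← Nat.card_eq_finsetCard]
  refine Nat.card_le_card_of_injective (fun x => ⟨x.1, ?_⟩)
    fun x x' e => Subtype.ext (congrArg Subtype.val e :)
  rcases Finset.mem_insert.1 x.2 with hx | hx
  · rw [hx]; exact K.zero_mem
  · exact (hS _ hx).2

/-- The centre values are few. -/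
theorem centreVal_card (ha : ¬ Root (hermSpace_std hF m).ext H a₀) :
    2 * Nat.card (centreVal hF H) ≤ q := by
  classical
  have := centre_stab hF H ha {1} fun k hk => by
    rw [Finset.mem_singleton.1 hk]
    exact ⟨one_ne_zero, map_one _, fun c hc => by rwa [one_mul]⟩
  rw [Finset.card_singleton] at this
  omega

/-- The gain from the scalars. -/
theorem scalar_gain (hH : H ≤ suE hF m) (ha : ¬ Root (hermSpace_std hF m).ext H a₀) :
    Nat.card (centreVal hF H) ≤ (pointScalars H).index ∧
      (1 < Nat.card (centreVal hF H) → Nat.card (centreVal hF H) < (pointScalars H).index) := by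
  classical
  have hq2 := two_le_q hF
  have h := hermSpace_std hF m
  have : Fintype (pointScalars H) := Fintype.ofFinite _
  let S : Finset F := Finset.univ.image fun t : pointScalars H => ((t : Fˣ) : F) * σ ((t : Fˣ) : F)
  have hstab := centre_stab hF H ha S fun k hk => by
    obtain ⟨⟨t, g, hg, hga⟩, -, rfl⟩ := Finset.mem_image.1 hk
    refine ⟨mul_ne_zero t.ne_zero (scal_ne hF t), by rw [map_mul, h.invol, mul_comm], fun c hc => ?_⟩
    have hcs := centreVal_skew hF H hc
    obtain ⟨hm₀, hm⟩ := hc
    refine ⟨skew_fill hV (skew_norm_mul h _ hcs), ?_⟩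
    rw [← tv_a hF (skew_norm_mul h _ hcs),
      ← tv_smul (h := h.ext) (by simp [uExt, h.zero_left, -Forms.qPowHom_apply]) hcs, ← hga,
      ← tv_conj (uGroup_le _ (hH hg)), tv_a hF hcs]
    exact H.mul_mem (H.mul_mem hg hm) (H.inv_mem hg)
  have hfib : (Finset.univ : Finset (pointScalars H)).card ≤ (q + 1) * S.card := by
    refine Finset.card_le_mul_card_image _ _ fun k hk => ?_
    obtain ⟨⟨t, ht⟩, -, rfl⟩ := Finset.mem_image.1 hk
    rw [← norm_fibre hF (c := (t : F) * σ (t : F)) (mul_ne_zero t.ne_zero (scal_ne hF t))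
      (by rw [map_mul, h.invol, mul_comm]), ← Nat.card_eq_finsetCard]
    refine Nat.card_le_card_of_injective (fun x => ⟨((x.1 : Fˣ) : F), (Finset.mem_filter.1 x.2).2⟩)
      fun x x' e => Subtype.ext (Subtype.ext (Units.ext (congrArg Subtype.val e :)))
  have hI := Subgroup.card_mul_index (pointScalars H)
  rw [natCard_units_field hF, Nat.card_eq_fintype_card, ← Finset.card_univ] at hI
  have hz : 0 < Nat.card (centreVal hF H) := Nat.card_pos
  generalize Nat.card (centreVal hF H) = z at hstab hz ⊢
  generalize (pointScalars H).index = d at hI ⊢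
  generalize S.card = k at hstab hfib
  generalize (Finset.univ : Finset (pointScalars H)).card = D at hfib hI
  have hk : q - 1 ≤ k * d := by
    refine Nat.le_of_mul_le_mul_left ?_ (show 0 < q + 1 by omega)
    rw [← mul_assoc, show (q + 1) * (q - 1) = q ^ 2 - 1 by
      rw [← Nat.sq_sub_sq q 1, one_pow], ← hI]
    exact Nat.mul_le_mul_right _ hfib
  constructor
  · by_contra hlt
    push Not at hlt
    have : k * d + k ≤ k * z := by rw [← Nat.mul_succ]; exact Nat.mul_le_mul_left _ hlt
    have : z * k + z ≤ q := by rw [← Nat.mul_succ]; exact hstab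
    rw [mul_comm z k] at this
    rcases Nat.eq_zero_or_pos k with rfl | hk0
    · omega
    · omega
  · intro h1
    by_contra hlt
    push Not at hlt
    have : k * d ≤ k * z := Nat.mul_le_mul_left _ hlt
    have : z * k + z ≤ q := by rw [← Nat.mul_succ]; exact hstab
    rw [mul_comm z k] at this
    omega

end Cfsg.Agent.Lib.MinIndexUnitary
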