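import Cfsg.Agent.Lib.MinIndexUnitary.Geometry

/-!
# Minimal index in unitary groups: the step from a complement to the whole space

If the bound holds whenever a subgroup induces a proper subgroup on a complement, it holds for all
proper subgroups.
-/

set_option autoImplicit false
set_option linter.unusedSectionVars false

namespace Cfsg.Agent.Lib.MinIndexUnitary

open Cfsg.Agent.Lib.Classical Cfsg.Agent.Lib.MinDegree

variable {F : Type*} [Field F] [Fintype F] {q : ℕ} (hF : Fintype.card F = q ^ 2) {m : ℕ}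

local notation "σ" => Forms.qPowHom hF
local notation "V" => (Fin m → F)
local notation "E" => (F × F × (Fin m → F))
local notation "hV" => hermSpace_std hF m
local notation "B" => Cfsg.hermForm m F q
local notation "a₀" => ((1 : F), (0 : F), (0 : Fin m → F))

variable {H : Subgroup ((F × F × (Fin m → F)) ≃ₗ[F] (F × F × (Fin m → F)))}

/-- A light subgroup with many root vectors has large index. -/
theorem bound_of_roots' (hm : 3 ≤ m) (hH : H ≤ suE hF m) (hL : Light hF H)
    (ha : ¬ Root (hermSpace_std hF m).ext H a₀) {ι : Type*} [Finite ι] (f : ι → E)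
    (hf : Function.Injective f) (hr : ∀ i, Root (hermSpace_std hF m).ext H (f i))
    {T : ℕ} (hcount : ∀ k, k + Nat.card ι ≤ (q ^ 2 - 1) * pointNum q (m + 2) + 1 →
      T * k ≤ (q ^ 2 - 1) * pointNum q (m + 2) * q ^ (2 * m + 1)) :
    T ≤ H.relIndex (suE hF m) := by
  classical
  have h := hermSpace_std hF m
  have hHi : H ≤ biIsoGroup (uExt σ B) := hH.trans (uGroup_le _)
  have he := index_eq hF H (by omega) hH
  rw [hL.levi, Subgroup.relIndex_self, hL.rad, hL.centre, AddSubgroup.card_bot, AddSubgroup.card_bot,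
    mul_one, mul_one, mul_one] at he
  let Φ : vecOrbit H ⊕ ι → {p : E // uExt σ B p p = 0} := fun x => x.elim
    (fun v => ⟨v.1, by
      obtain ⟨g, hg, e⟩ := v.2
      rw [← e, hHi hg]
      simp [uExt, h.zero_left, -Forms.qPowHom_apply]⟩)
    (fun i => ⟨f i, (hr i).1⟩)
  have hne : ∀ (v : vecOrbit H) (i : ι), v.1 ≠ f i := by
    rintro ⟨v, g, hg, rfl⟩ i e
    have h1 := (hr i).map hHi (H.inv_mem hg)
    rw [← e] at h1
    change Root h.ext H (g.symm (g a₀)) at h1
    rw [g.symm_apply_apply] at h1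
    exact ha h1
  have hΦ : Function.Injective Φ := by
    rintro (v | i) (v' | i') e <;> have e' := congrArg Subtype.val e
    · exact congrArg Sum.inl (Subtype.ext e')
    · exact absurd e' (hne v i')
    · exact absurd e'.symm (hne v' i)
    · exact congrArg Sum.inr (hf e')
  have h1 := Nat.card_le_card_of_injective Φ hΦ
  rw [Nat.card_sum, isoCount_ext hF] at h1
  have : Nonempty (vecOrbit H) := ⟨⟨a₀, 1, H.one_mem, rfl⟩⟩
  refine Nat.le_of_mul_le_mul_right ?_ (Nat.card_pos (α := vecOrbit H))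
  exact (hcount _ h1).trans (le_of_eq he.symm)

/-- A light subgroup with many root vectors reaches the number of points. -/
theorem bound_of_roots (hm : 3 ≤ m) (hH : H ≤ suE hF m) (hL : Light hF H)
    (ha : ¬ Root (hermSpace_std hF m).ext H a₀) {ι : Type*} [Finite ι] (f : ι → E)
    (hf : Function.Injective f) (hr : ∀ i, Root (hermSpace_std hF m).ext H (f i))
    (hcount : (q ^ 2 - 1) * pointNum q (m + 2) + 1 ≤ Nat.card ι + (q ^ 2 - 1) * q ^ (2 * m + 1)) :
    pointNum q (m + 2) ≤ H.relIndex (suE hF m) := by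
  refine bound_of_roots' hF hm hH hL ha f hf hr fun k hk => ?_
  rw [mul_comm (q ^ 2 - 1) (pointNum q (m + 2)), mul_assoc]
  exact Nat.mul_le_mul_left _ (by omega)

theorem pointNum_succ_ge {q : ℕ} (hq : q = 2) :
    ∀ j : ℕ, 1 + q ^ 2 * pointNum q (2 * j + 1) ≤ pointNum q (2 * j + 2) := by
  subst hq
  intro j
  induction j with
  | zero => decide
  | succ j ih =>
    rw [show 2 * (j + 1) + 1 = (2 * j + 1) + 2 by ring, show 2 * (j + 1) + 2 = (2 * j + 2) + 2 by ring,
      pointNum, pointNum,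
      show (2 : ℕ) ^ (2 * (2 * j + 2) + 1) = 4 * 2 ^ (2 * (2 * j + 1) + 1) by
        rw [show 2 * (2 * j + 2) + 1 = (2 * (2 * j + 1) + 1) + 2 by ring, pow_add]; ring]
    norm_num at ih ⊢
    omega

/-- The bound for a light subgroup with all root groups of the standard complement. -/
theorem bound_of_frame (hm : 3 ≤ m) {T : ℕ} (hT : T ≤ pointNum q (m + 2))
    (hT2 : q = 2 → ∀ k, k + ((q ^ 2 - 1) * pointNum q (m + 1) + 1) ≤ (q ^ 2 - 1) * pointNum q (m + 2) + 1 →
      T * k ≤ (q ^ 2 - 1) * pointNum q (m + 2) * q ^ (2 * m + 1)) (hH : H ≤ suE hF m) (hL : Light hF H)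
    (ha : ¬ Root (hermSpace_std hF m).ext H a₀) (hcl : PerpClosed hF H)
    (hU : ∀ u : V, B u u = 0 → Root (hermSpace_std hF m).ext H (0, 0, u))
    (hadapt : ∀ p : E, uExt σ B p p = 0 → ¬ Root (hermSpace_std hF m).ext H p →
      ∃ g ∈ suE hF m, g a₀ = p ∧ ∀ u : V, B u u = 0 → Root (hermSpace_std hF m).ext H (g (0, 0, u))) :
    T ≤ H.relIndex (suE hF m) := by
  classical
  have h := hermSpace_std hF m
  have hq2 := two_le_q hF
  have hσ0 : ∀ {a : F}, a ≠ 0 → σ a ≠ 0 := fun ha' => (map_ne_zero σ).2 ha'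
  have hHi : H ≤ biIsoGroup (uExt σ B) := hH.trans (uGroup_le _)
  by_cases hcone : ∃ x y : F, (x ≠ 0 ∨ y ≠ 0) ∧ Root h.ext H (x, y, 0)
  · -- a root point of the plane: the perpendicular hyperplane consists of roots
    obtain ⟨x, y, hxy, hr⟩ := hcone
    refine hT.trans (bound_of_roots hF hm hH hL ha
      (fun p : F × {u : V // B u u = 0} => (p.1 * x, p.1 * y, p.2.1)) ?_ ?_ ?_)
    · rintro ⟨s, u⟩ ⟨s', u'⟩ e
      simp only [Prod.ext_iff] at e
      obtain ⟨e1, e2, e3⟩ := e
      refine Prod.ext ?_ (Subtype.ext e3)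
      rcases hxy with hx | hy
      · exact mul_right_cancel₀ hx e1
      · exact mul_right_cancel₀ hy e2
    · rintro ⟨s, u, hu⟩
      have := hcl _ _ (hr.smul s) (hU u hu) (by
        rw [uExt_zero_right]; simp [h.zero_left])
      simpa using this
    · rw [Nat.card_prod, natCard_field hF, isoCount_eq hF]
      have h1 : 1 ≤ q ^ 2 := Nat.one_le_pow _ _ (by omega)
      refine le_of_eq ?_
      rw [pointNum]
      zify [h1]
      ring
  push Not at hcone
  have hplane : ∀ (x y : F) (w : V), Root h.ext H (x, y, w) → (x ≠ 0 ∨ y ≠ 0) → B w w ≠ 0 := by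
    intro x y w hr hxy hw
    have := hcl _ _ hr (hU (-w) (by rw [h.neg_left, h.neg_right, hw, neg_zero, neg_zero]))
      (by rw [uExt_zero_right, h.neg_right, hw, neg_zero])
    exact hcone x y hxy (by simpa using this)
  have hnorm : ∀ (x y : F) (w : V), Root h.ext H (x, y, w) → B w w = -(x * σ y + y * σ x) :=
    fun x y w hr => by
      have := hr.1
      rw [uExt_pair] at this
      linear_combination this
  obtain ⟨e, f, hee, hff, hef⟩ := exists_neg_hyp hF (m := m) (by omega)
  have hfe : B f e = -1 := by rw [← h.symm, hef, map_neg, map_one]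
  by_cases hnone : ∀ (x y : F) (w : V), Root h.ext H (x, y, w) → x = 0 ∧ y = 0
  · -- all roots in the complement: impossible
    exfalso
    have hp : uExt σ B ((1 : F), (0 : F), e) (1, 0, e) = 0 := by simp [uExt, hee, -Forms.qPowHom_apply]
    obtain ⟨g, hg, hga, hgU⟩ := hadapt _ hp fun hr => one_ne_zero (hnone _ _ _ hr).1
    have hgi := uGroup_le _ hg
    set v : E := ((0 : F), (1 : F), f) with hv
    obtain ⟨v', hv'⟩ := g.surjective v
    have hy : v'.2.1 = 0 := by
      have h1 : uExt σ B (g v') (g a₀) = 0 := by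
        rw [hv', hga, hv, uExt_pair, hfe, map_zero, map_one]; ring
      rw [hgi] at h1
      simpa [uExt, h.zero_right, -Forms.qPowHom_apply] using h1
    have hw : B v'.2.2 v'.2.2 = 0 := by
      have h1 : uExt σ B (g v') (g v') = 0 := by
        rw [hv', hv, uExt_pair, hff, map_zero, map_one]; ring
      rw [hgi] at h1
      simpa [uExt, hy, -Forms.qPowHom_apply] using h1
    have hr := hgU _ hw
    have e1 : ((0 : F), (0 : F), v'.2.2) = v' - v'.1 • a₀ := by
      ext <;> simp [hy]
    rw [e1, map_sub, map_smul, hga, hv', hv] at hr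
    simp only [Prod.smul_mk, Prod.mk_sub_mk, smul_eq_mul, mul_one, mul_zero, sub_zero] at hr
    exact one_ne_zero (hnone _ _ _ hr).2
  push Not at hnone
  obtain ⟨x₁, y₁, w₁, hr₁, hne₁⟩ := hnone
  have hxy₁ : x₁ ≠ 0 ∨ y₁ ≠ 0 := by tauto
  have hw₁ := hplane _ _ _ hr₁ hxy₁
  by_cases hpair : ∃ (x y : F) (w : V), Root h.ext H (x, y, w) ∧ x₁ * y - y₁ * x ≠ 0
  · -- two plane directions: the point itself would be a root
    exfalso
    obtain ⟨x₂, y₂, w₂, hr₂, hD⟩ := hpair
    have hxy₂ : x₂ ≠ 0 ∨ y₂ ≠ 0 := by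
      by_contra hc
      push Not at hc
      simp [hc.1, hc.2] at hD
    have hphi : ∀ (x y : F), B (x • e + y • f) (x • e + y • f) = -(x * σ y + y * σ x) := fun x y => by
      simp only [h.add_left, h.add_right, h.smul_left, h.smul_right, hee, hff, hef, hfe]
      ring
    have r1 := section_roots hF hm hcl hU hr₁ hw₁ (w' := x₁ • e + y₁ • f)
      (by rw [hphi, hnorm _ _ _ hr₁])
    have r2 := section_roots hF hm hcl hU hr₂ (hplane _ _ _ hr₂ hxy₂) (w' := x₂ • e + y₂ • f)
      (by rw [hphi, hnorm _ _ _ hr₂])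
    set D := x₁ * y₂ - y₁ * x₂
    have r3 := hcl _ _ (r1.smul (y₂ / D)) (r2.smul (-y₁ / D)) (by
      rw [h.ext.smul_left, h.ext.smul_right, uExt_pair]
      simp only [h.add_left, h.add_right, h.smul_left, h.smul_right, hee, hff, hef, hfe]
      ring)
    have hpt : (y₂ / D) • ((x₁, y₁, x₁ • e + y₁ • f) : E) + (-y₁ / D) • (x₂, y₂, x₂ • e + y₂ • f)
        = (1, 0, e) := by
      simp only [Prod.smul_mk, smul_eq_mul, Prod.mk_add_mk, Prod.mk.injEq, smul_add, smul_smul]
      have hD' : D ≠ 0 := hD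
      refine ⟨by field_simp; ring, by ring, ?_⟩
      match_scalars <;> field_simp <;> ring
    rw [hpt] at r3
    have := hcl _ _ r3 (hU (-e) (by rw [h.neg_left, h.neg_right, hee, neg_zero, neg_zero]))
      (by rw [uExt_zero_right, h.neg_right, hee, neg_zero])
    exact ha (by simpa using this)
  push Not at hpair
  -- all roots lie in a hyperplane section
  have hQ : x₁ * σ y₁ + y₁ * σ x₁ ≠ 0 := fun e0 => hw₁ (by rw [hnorm _ _ _ hr₁, e0, neg_zero])
  have hx₁ : x₁ ≠ 0 := fun e0 => hQ (by rw [e0, map_zero]; ring)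
  have hy₁ : y₁ ≠ 0 := fun e0 => hQ (by rw [e0, map_zero]; ring)
  rcases (show 3 ≤ q ∨ q = 2 by omega) with hq3 | hq2'
  · -- the scalars at the point are restricted
    exfalso
    obtain ⟨t, ht⟩ : ∃ t : Fˣ, (t : F) * σ (t : F) ≠ 1 := by
      by_contra hall
      push Not at hall
      have h1 := Nat.card_le_card_of_injective
        (fun t : Fˣ => (⟨(t : F), hall t⟩ : {x : F // x * σ x = 1}))
        (fun t t' e0 => Units.ext (congrArg Subtype.val e0 :))
      rw [natCard_units_field hF, norm_fibre hF one_ne_zero (map_one _)] at h1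
      have : 3 * q ≤ q ^ 2 := by rw [sq]; exact Nat.mul_le_mul_right q hq3
      omega
    obtain ⟨g, hg, hga⟩ : t ∈ pointScalars H := hL.scal ▸ Subgroup.mem_top t
    set v : E := (σ x₁, -σ y₁, 0) with hv
    have hperp : ∀ r : E, Root h.ext H r → uExt σ B v r = 0 := by
      rintro ⟨x, y, w⟩ hr
      rw [hv, uExt_pair, h.zero_left]
      have e1 := congrArg σ (hpair x y w hr)
      rw [map_sub, map_mul, map_mul, map_zero] at e1
      linear_combination e1
    have hgperp : ∀ r : E, Root h.ext H r → uExt σ B (g v) r = 0 := fun r hr => by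
      obtain ⟨r', rfl⟩ := g.surjective r
      rw [hHi hg]
      refine hperp _ ?_
      have := hr.map hHi (H.inv_mem hg)
      change Root h.ext H (g.symm (g r')) at this
      rwa [g.symm_apply_apply] at this
    obtain ⟨a, b, c, hgv⟩ : ∃ a b c, g v = (a, b, c) := ⟨_, _, _, rfl⟩
    have hc : c = 0 := by
      refine h.nondeg c fun w => ?_
      obtain ⟨u, u', rfl, hu, hu', -, -⟩ := exists_iso_split hF (S := Finset.univ)
        (by simp only [Finset.card_univ, Fintype.card_fin]; omega) w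
        (fun i hi => absurd (Finset.mem_univ i) hi)
      have h1 := hgperp _ (hU u hu)
      have h2 := hgperp _ (hU u' hu')
      rw [hgv, uExt_zero_right] at h1 h2
      rw [h.add_right, h1, h2, add_zero]
    subst hc
    have hab := hgperp _ hr₁
    rw [hgv, uExt_pair, h.zero_left, add_zero] at hab
    set s := a / σ x₁
    have hsv : g v = s • v := by
      rw [hgv, hv, Prod.smul_mk, Prod.smul_mk, smul_eq_mul, smul_eq_mul, smul_zero,
        div_mul_cancel₀ _ (hσ0 hx₁)]
      refine Prod.ext rfl (Prod.ext ?_ rfl)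
      have := hσ0 hx₁
      show b = a / σ x₁ * -σ y₁
      field_simp
      linear_combination hab
    have h1 : uExt σ B (g v) (g v) = uExt σ B v v := hHi hg v v
    have h2 : uExt σ B (g v) (g a₀) = uExt σ B v a₀ := hHi hg v a₀
    rw [hsv, h.ext.smul_left, h.ext.smul_right, hv, uExt_pair] at h1
    rw [hsv, hga, h.ext.smul_left, h.ext.smul_right, hv, uExt_pair] at h2
    simp only [map_neg, h.invol, h.zero_left, h.zero_right, map_one, map_zero, mul_zero, mul_one,
      zero_add, add_zero] at h1 h2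
    have hn : s * σ s = 1 := by
      have : (s * σ s - 1) * -(x₁ * σ y₁ + y₁ * σ x₁) = 0 := by linear_combination h1
      exact sub_eq_zero.1 ((mul_eq_zero.1 this).resolve_right (neg_ne_zero.2 hQ))
    have hst : s * σ (t : F) = 1 := by
      have : (s * σ (t : F) - 1) * -σ y₁ = 0 := by linear_combination h2
      exact sub_eq_zero.1 ((mul_eq_zero.1 this).resolve_right (neg_ne_zero.2 (hσ0 hy₁)))
    have hst' : σ s * (t : F) = 1 := by
      have := congrArg σ hst
      rwa [map_mul, h.invol, map_one] at this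
    exact ht (by linear_combination (-((t : F) * σ (t : F))) * hn + (σ s * (t : F)) * hst + hst')
  · -- counting in the smallest field
    have hfix1 : ∀ a : F, a ≠ 0 → σ a = a → a = 1 := fun a ha0' haσ => by
      rw [Forms.qPowHom_apply, hq2'] at haσ
      have : a * (a - 1) = 0 := by linear_combination haσ
      exact sub_eq_zero.1 ((mul_eq_zero.1 this).resolve_left ha0')
    have hQ1 : x₁ * σ y₁ + y₁ * σ x₁ = 1 :=
      hfix1 _ hQ (by rw [map_add, map_mul, map_mul, h.invol, h.invol]; ring)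
    refine bound_of_roots' hF hm hH hL ha
      (fun v : {v : Fin (m + 1) → F // Cfsg.hermForm (m + 1) F q v v = 0} =>
        (v.1 0 * x₁, v.1 0 * y₁, Fin.tail v.1)) ?_ ?_ ?_
    · intro v v' e0
      simp only [Prod.ext_iff] at e0
      apply Subtype.ext
      rw [← Fin.cons_self_tail v.1, ← Fin.cons_self_tail v'.1, mul_right_cancel₀ hx₁ e0.1, e0.2.2]
    · rintro ⟨v, hv⟩
      rw [← Fin.cons_self_tail v, hermForm_cons, ← Forms.qPowHom_apply hF] at hv
      by_cases hl : v 0 = 0
      · simp only [hl, zero_mul]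
        exact hU _ (by rwa [hl, zero_mul, zero_add] at hv)
      · have hs := section_roots hF hm hcl hU hr₁ hw₁ (w' := (v 0)⁻¹ • Fin.tail v) (by
          rw [h.smul_left, h.smul_right, hnorm _ _ _ hr₁, hQ1, map_inv₀]
          have := hσ0 hl
          field_simp
          linear_combination hv)
        have := hs.smul (v 0)
        simpa [smul_smul, mul_inv_cancel₀ hl] using this
    · rw [isoCount_eq hF]
      exact hT2 hq2'

/-- The step: the bound follows once it is known for proper subgroups induced on a complement. -/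
theorem step_bound_gen (hm : 3 ≤ m) {T : ℕ} (hT : T ≤ pointNum q (m + 2))
    (hT2 : q = 2 → ∀ k, k + ((q ^ 2 - 1) * pointNum q (m + 1) + 1) ≤ (q ^ 2 - 1) * pointNum q (m + 2) + 1 →
      T * k ≤ (q ^ 2 - 1) * pointNum q (m + 2) * q ^ (2 * m + 1))
    (hframe : ∀ H : Subgroup (E ≃ₗ[F] E), H ≤ suE hF m → Light hF H → PerpClosed hF H →
      (∀ p : E, uExt σ B p p = 0 → ¬ Root (hermSpace_std hF m).ext H p →
        ∃ g ∈ suE hF m, g a₀ = p ∧ Light hF (conjSub g⁻¹ H)) →
      ∃ (x : V) (c : F) (hc : c + σ c + B x x = 0), ∀ u : V, B u u = 0 →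
        Root (hermSpace_std hF m).ext (conjSub (uT hV x c hc) H) (0, 0, u))
    (hA : ∀ H : Subgroup (E ≃ₗ[F] E), H ≤ suE hF m → ¬ Root (hermSpace_std hF m).ext H a₀ →
      leviImg hF H ≠ suV hF m → T ≤ H.relIndex (suE hF m))
    (hH : H ≤ suE hF m) (hne : H ≠ suE hF m) :
    T ≤ H.relIndex (suE hF m) := by
  classical
  have h := hermSpace_std hF m
  by_contra hcon
  obtain ⟨u, hu⟩ := exists_unit hF (m := m) (by omega)
  have ha0 : uExt σ B a₀ a₀ = 0 := by simp [uExt, h.zero_left, -Forms.qPowHom_apply]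
  have hlight : ∀ g ∈ suE hF m, ¬ Root h.ext H (g a₀) → Light hF (conjSub g⁻¹ H) := by
    intro g hg hga
    have hgi := inv_mem (uGroup_le _ hg)
    have hH' : conjSub g⁻¹ H ≤ suE hF m := conjSub_le hgi hH
    have ha : ¬ Root h.ext (conjSub g⁻¹ H) a₀ := fun hr => hga <| by
      have e : g⁻¹ (g a₀) = a₀ := g.symm_apply_apply _
      rw [← e] at hr
      exact (root_conjSub hgi).1 hr
    have hi : (conjSub g⁻¹ H).relIndex (suE hF m) = H.relIndex (suE hF m) := relIndex_conjSub hgi
    by_cases hl : leviImg hF (conjSub g⁻¹ H) = suV hF m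
    · exact (full_dichotomy hF _ hm hH' hl ha).resolve_left fun h1 => hcon (hT.trans (hi ▸ h1))
    · exact absurd (hi ▸ hA _ hH' ha hl) hcon
  have hmove : ∀ p : E, uExt σ B p p = 0 → p ≠ 0 → ∃ g ∈ suE hF m, g a₀ = p :=
    fun p hp hp0 => exists_uGroup_move h hu p hp hp0
  have hcl : PerpClosed hF H := by
    intro x y hx hy hxy
    have hyx : uExt σ B y x = 0 := by rw [← h.ext.symm, hxy, map_zero]
    have hp : uExt σ B (x + y) (x + y) = 0 := by
      rw [h.ext.add_left, h.ext.add_right, h.ext.add_right, hx.1, hy.1, hxy, hyx]; simp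
    by_contra hnr
    obtain ⟨g, hg, hga⟩ := hmove _ hp fun e0 => hnr (e0 ▸ root_zero h.ext H)
    have hgi := uGroup_le _ hg
    have hL := hlight g hg (hga ▸ hnr)
    have hx' : Root h.ext (conjSub g⁻¹ H) (g⁻¹ x) := (root_conjSub (inv_mem hgi)).2 hx
    have hy' : Root h.ext (conjSub g⁻¹ H) (g⁻¹ y) := (root_conjSub (inv_mem hgi)).2 hy
    have hn0 : ¬ Root h.ext (conjSub g⁻¹ H) a₀ := fun hr => hnr <| by
      rw [← hga]
      rw [show a₀ = g⁻¹ (g a₀) from (g.symm_apply_apply _).symm] at hr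
      exact (root_conjSub (inv_mem hgi)).1 hr
    obtain ⟨s, b, w, hxs⟩ : ∃ s b w, g⁻¹ x = (s, b, w) := ⟨_, _, _, rfl⟩
    have hys : g⁻¹ y = (1 - s, -b, -w) := by
      have e1 : g⁻¹ x + g⁻¹ y = a₀ := by
        rw [← map_add, ← hga]; exact g.symm_apply_apply _
      rw [hxs] at e1
      rw [eq_sub_of_add_eq' e1]
      ext <;> simp
    have hb : b = 0 := by
      have h1 : uExt σ B (g⁻¹ x) (g⁻¹ (x + y)) = 0 := by
        rw [(inv_mem hgi : g⁻¹ ∈ biIsoGroup (uExt σ B)), h.ext.add_right, hx.1, hxy, add_zero]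
      rw [← hga, show g⁻¹ (g a₀) = a₀ from g.symm_apply_apply _, hxs] at h1
      simpa [uExt, h.zero_right, -Forms.qPowHom_apply] using h1
    subst hb
    rw [hxs] at hx'
    rw [hys, neg_zero] at hy'
    by_cases hw : w = 0
    · subst hw
      rw [neg_zero] at hy'
      by_cases hs : s = 0
      · subst hs
        rw [sub_zero] at hy'
        exact hn0 hy'
      · exact hn0 (Root.of_smul hs (by simpa using hx'))
    · have h2 := hy'.smul (-1 : F)
      simp only [neg_smul, one_smul, Prod.neg_mk, neg_neg, neg_zero] at h2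
      have := hL.unique hF (conjSub_le (inv_mem hgi) hH) hw hx' h2
      exact one_ne_zero (α := F) (by linear_combination this)
  have hadapt : ∀ p : E, uExt σ B p p = 0 → ¬ Root h.ext H p →
      ∃ g ∈ suE hF m, g a₀ = p ∧ ∀ u : V, B u u = 0 → Root h.ext H (g (0, 0, u)) := by
    intro p hp hpr
    obtain ⟨g, hg, hga⟩ := hmove p hp fun e0 => hpr (e0 ▸ root_zero h.ext H)
    have hgi := uGroup_le _ hg
    obtain ⟨x, c, hc, hx⟩ := hframe _ (conjSub_le (inv_mem hgi) hH)
      (hlight g hg (hga ▸ hpr)) (hcl.conj hF (inv_mem hgi)) fun p' hp' hpr' => by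
        obtain ⟨p'', rfl⟩ := (g⁻¹ : E ≃ₗ[F] E).surjective p'
        rw [root_conjSub (inv_mem hgi)] at hpr'
        obtain ⟨g', hg', hga'⟩ := hmove p'' (by rwa [(inv_mem hgi : g⁻¹ ∈ biIsoGroup (uExt σ B))] at hp')
          fun e0 => hpr' (e0 ▸ root_zero h.ext H)
        refine ⟨g⁻¹ * g', mul_mem (inv_mem hg) hg', by rw [LinearEquiv.mul_apply, hga'], ?_⟩
        have e1 : conjSub (g⁻¹ * g')⁻¹ (conjSub g⁻¹ H) = conjSub g'⁻¹ H := by
          ext x
          simp only [mem_conjSub]
          group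
        rw [e1]
        exact hlight g' hg' (hga' ▸ hpr')
    have hT := uT_mem hV x c hc
    refine ⟨g * (uT hV x c hc)⁻¹, mul_mem hg (inv_mem hT), ?_, fun u hu => ?_⟩
    · rw [LinearEquiv.mul_apply]
      show g ((uT hV x c hc).symm a₀) = p
      rw [show (uT hV x c hc).symm a₀ = a₀ by rw [LinearEquiv.symm_apply_eq, uT_fix], hga]
    · have h1 := hx u hu
      rw [show ((0 : F), (0 : F), u) = uT hV x c hc ((uT hV x c hc)⁻¹ (0, 0, u))
        from ((uT hV x c hc).apply_symm_apply _).symm, root_conjSub (uGroup_le _ hT),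
        show (uT hV x c hc)⁻¹ (0, 0, u) = g⁻¹ ((g * (uT hV x c hc)⁻¹) (0, 0, u))
          from (g.symm_apply_apply _).symm, root_conjSub (inv_mem hgi)] at h1
      exact h1
  obtain ⟨p, hp, hpr⟩ : ∃ p : E, uExt σ B p p = 0 ∧ ¬ Root h.ext H p := by
    by_contra hall
    push Not at hall
    exact hne (eq_suE_of_roots hF hm hH hall)
  obtain ⟨g, hg, hga, hgU⟩ := hadapt p hp hpr
  have hgi := inv_mem (uGroup_le _ hg)
  have hi : (conjSub g⁻¹ H).relIndex (suE hF m) = H.relIndex (suE hF m) := relIndex_conjSub hgi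
  refine hcon (hi ▸ bound_of_frame hF hm hT hT2 (conjSub_le hgi hH) (hlight g hg (hga ▸ hpr)) ?_ (hcl.conj hF hgi)
    ?_ ?_)
  · intro hr
    rw [show a₀ = g⁻¹ (g a₀) from (g.symm_apply_apply _).symm, root_conjSub hgi, hga] at hr
    exact hpr hr
  · intro u hu
    rw [show ((0 : F), (0 : F), u) = g⁻¹ (g (0, 0, u)) from (g.symm_apply_apply _).symm, root_conjSub hgi]
    exact hgU u hu
  · intro p' hp' hpr'
    obtain ⟨p'', rfl⟩ := (g⁻¹ : E ≃ₗ[F] E).surjective p'
    rw [root_conjSub hgi] at hpr'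
    obtain ⟨g', hg', hga', hgU'⟩ := hadapt p'' (by rwa [hgi] at hp') hpr'
    refine ⟨g⁻¹ * g', mul_mem (inv_mem hg) hg', by rw [LinearEquiv.mul_apply, hga'], fun u hu => ?_⟩
    rw [LinearEquiv.mul_apply, root_conjSub hgi]
    exact hgU' u hu

/-- The step at the number of points. -/
theorem step_bound (hm : 3 ≤ m) (hq : Even m → 3 ≤ q)
    (hA : ∀ H : Subgroup (E ≃ₗ[F] E), H ≤ suE hF m → ¬ Root (hermSpace_std hF m).ext H a₀ →
      leviImg hF H ≠ suV hF m → pointNum q (m + 2) ≤ H.relIndex (suE hF m))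
    (hH : H ≤ suE hF m) (hne : H ≠ suE hF m) :
    pointNum q (m + 2) ≤ H.relIndex (suE hF m) := by
  refine step_bound_gen hF hm le_rfl (fun hq2 k hk => ?_) (fun H hH hL hcl _ => ?_) hA hH hne
  · obtain ⟨j, rfl⟩ : Odd m := Nat.not_even_iff_odd.1 fun he => absurd (hq he) (by omega)
    have hN := Nat.mul_le_mul_left (q ^ 2 - 1) (pointNum_succ_ge hq2 j)
    rw [mul_add (q ^ 2 - 1) 1, mul_one] at hN
    rw [mul_comm (q ^ 2 - 1) (pointNum q (2 * j + 1 + 2)), mul_assoc]
    refine Nat.mul_le_mul_left _ ?_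
    rw [show pointNum q (2 * j + 1 + 2) = 1 + q ^ 2 * pointNum q (2 * j + 1) + q ^ (2 * (2 * j + 1) + 1) from rfl,
      show 2 * j + 1 + 1 = 2 * j + 2 from rfl, mul_add (q ^ 2 - 1), mul_add (q ^ 2 - 1) 1, mul_one] at hk
    omega
  · exact exists_frame_roots hF hm (fun h2 h4 => by subst h4; exact absurd (hq (by decide)) (by omega))
      hH hL hcl

end Cfsg.Agent.Lib.MinIndexUnitary
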