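import Cfsg.Agent.Lib.MinIndexUnitary.ThreeStab

/-!
# Minimal index in unitary groups: stabilisers of real forms in dimension three

An additive group of vectors with values of the form in the fixed field and three independent members
spans a real form with `q³` vectors; its stabiliser is as small as an orthogonal group.
-/

set_option autoImplicit false
set_option linter.unusedSectionVars false

namespace Cfsg.Agent.Lib.MinIndexUnitary

open Cfsg.Agent.Lib.Classical Cfsg.Agent.Lib.MinDegree

variable {F : Type*} [Field F] [Fintype F] {q : ℕ} (hF : Fintype.card F = q ^ 2)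

local notation "σ" => Forms.qPowHom hF
local notation "V" => (Fin 3 → F)
local notation "B" => Cfsg.hermForm 3 F q

/-- The vectors with real pairing against a set of vectors. -/
def realDual (W : AddSubgroup (Fin 3 → F)) : AddSubgroup (Fin 3 → F) where
  carrier := {x | ∀ w ∈ W, σ (B x w) = B x w}
  zero_mem' := fun w _ => by rw [(hermSpace_std hF 3).zero_left, map_zero]
  add_mem' := fun {a b} ha hb w hw => by
    rw [(hermSpace_std hF 3).add_left, map_add, ha w hw, hb w hw]
  neg_mem' := fun {a} ha w hw => by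
    rw [(hermSpace_std hF 3).neg_left, map_neg, ha w hw]

include hF in
/-- A vector orthogonal to an anisotropic-free family is determined up to a scalar. -/
theorem eq_smul_of_orth {u v d x : V}
    (hgen : ∀ y : V, B y u = 0 → B y v = 0 → B y d = 0 → y = 0)
    (hdu : B d u = 0) (hdv : B d v = 0) (hdd : B d d ≠ 0) (hxu : B x u = 0) (hxv : B x v = 0) :
    x = (B x d / B d d) • d := by
  have h := hermSpace_std hF 3
  refine sub_eq_zero.1 (hgen _ ?_ ?_ ?_)
  · rw [h.sub_left, h.smul_left, hxu, hdu, mul_zero, sub_zero]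
  · rw [h.sub_left, h.smul_left, hxv, hdv, mul_zero, sub_zero]
  · rw [h.sub_left, h.smul_left, div_mul_cancel₀ _ hdd, sub_self]

include hF in
/-- The stabiliser of a spanning real group of vectors has large index. -/
theorem lattice_index {M : Subgroup (V ≃ₗ[F] V)} (hM : M ≤ suV hF 3) (W : AddSubgroup V)
    (hinv : ∀ g ∈ M, ∀ w ∈ W, g w ∈ W) (hreal : ∀ w ∈ W, ∀ w' ∈ W, σ (B w w') = B w w')
    {b : Fin 3 → V} (hb : ∀ i, b i ∈ W) (hind : LinearIndependent F b) :
    q ^ 2 * (q ^ 3 + 1) ≤ M.relIndex (suV hF 3) := by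
  classical
  have h := hermSpace_std hF 3
  have hq := two_le_q hF
  have hWL : ∀ w ∈ W, w ∈ realDual hF W := fun w hw w' hw' => hreal w hw w' hw'
  have hspan : Submodule.span F (Set.range b) = ⊤ :=
    hind.span_eq_top_of_card_eq_finrank (by simp)
  have hzero : ∀ y : V, (∀ i, B y (b i) = 0) → y = 0 := fun y hy => h.nondeg y fun z => by
    obtain ⟨c, rfl⟩ := (Submodule.mem_span_range_iff_exists_fun F).1 (hspan ▸ Submodule.mem_top (x := z))
    simp only [Fin.sum_univ_three, h.add_right, h.smul_right, hy, mul_zero, add_zero]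
  let Fx := {a : F // σ a = a}
  have hFx : Nat.card Fx = q := fixed_or_skew_card hF
  set L := realDual hF W with hL
  -- coordinates against the basis
  let co : L → (Fin 3 → Fx) := fun x i => ⟨B x.1 (b i), x.2 _ (hb i)⟩
  have hco : Function.Injective co := fun x y e => Subtype.ext <| sub_eq_zero.1 <| hzero _ fun i => by
    rw [h.sub_left, sub_eq_zero]
    exact congrArg Subtype.val (congrFun e i)
  have hcomb : ∀ a : Fin 3 → Fx, (∑ i, (a i).1 • b i) ∈ L := fun a w hw => by
    simp only [Fin.sum_univ_three, h.add_left, h.smul_left, map_add, map_mul]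
    rw [(a 0).2, (a 1).2, (a 2).2, hreal _ (hb 0) w hw, hreal _ (hb 1) w hw, hreal _ (hb 2) w hw]
  let cb : (Fin 3 → Fx) → L := fun a => ⟨_, hcomb a⟩
  have hcb : Function.Injective cb := fun a a' e => funext fun i => by
    have e' : ∑ j, ((a j).1 - (a' j).1) • b j = 0 := by
      simp only [sub_smul, Finset.sum_sub_distrib]
      exact sub_eq_zero.2 (congrArg Subtype.val e :)
    exact Subtype.ext (sub_eq_zero.1 ((Fintype.linearIndependent_iff.1 hind) _ e' i))
  have hcard : Nat.card L = q ^ 3 := by
    refine le_antisymm ?_ ?_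
    · have := Nat.card_le_card_of_injective co hco
      rwa [Nat.card_fun, hFx, Nat.card_fin] at this
    · have := Nat.card_le_card_of_injective cb hcb
      rwa [Nat.card_fun, hFx, Nat.card_fin] at this
  have hLc : ∀ x ∈ L, ∃ a : Fin 3 → Fx, x = ∑ i, (a i).1 • b i := fun x hx => by
    have hsurj : Function.Surjective cb :=
      (hcb.bijective_of_nat_card_le (by rw [hcard, Nat.card_fun, hFx, Nat.card_fin])).2
    obtain ⟨a, ha⟩ := hsurj ⟨x, hx⟩
    exact ⟨a, (congrArg Subtype.val ha).symm⟩
  have hLreal : ∀ x ∈ L, ∀ y ∈ L, σ (B x y) = B x y := fun x hx y hy => by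
    obtain ⟨a, rfl⟩ := hLc y hy
    simp only [Fin.sum_univ_three, h.add_right, h.smul_right, map_add, map_mul, (a 0).2, (a 1).2, (a 2).2]
    rw [hx _ (hb 0), hx _ (hb 1), hx _ (hb 2)]
  have hLsmul : ∀ x ∈ L, ∀ a : F, σ a = a → a • x ∈ L := fun x hx a ha w hw => by
    rw [h.smul_left, map_mul, ha, hx w hw]
  have hLinv : ∀ g ∈ M, ∀ x ∈ L, g x ∈ L := fun g hg x hx w hw => by
    have hgi := uGroup_le _ (hM hg)
    have e : B (g x) w = B x (g.symm w) := by rw [← hgi x (g.symm w), g.apply_symm_apply]
    rw [e]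
    exact hx _ (hinv _ (M.inv_mem hg) w hw)
  have hkerone : ∀ (φ : L → Fx), (∀ x y : L, (φ (x + y)).1 = (φ x).1 + (φ y).1) →
      ∃ x : L, x.1 ≠ 0 ∧ (φ x).1 = 0 := by
    intro φ hφ
    by_contra hne
    push Not at hne
    have hφ0 : (φ 0).1 = 0 := by simpa using hφ 0 0
    have hinj : Function.Injective φ := fun x y e => by
      have e' : (φ (x - y)).1 = 0 := by
        have := hφ (x - y) y
        rw [sub_add_cancel, e] at this
        simpa using this
      by_contra hxy
      exact hne (x - y) (fun e0 => hxy (sub_eq_zero.1 (Subtype.ext e0))) e'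
    have := Nat.card_le_card_of_injective φ hinj
    rw [hcard, hFx] at this
    have := Nat.le_self_pow (show 3 ≠ 0 by omega) q
    have := Nat.pow_lt_pow_right (show 1 < q by omega) (show 1 < 3 by omega)
    simp at this
    omega
  have hkertwo : ∀ x₁ x₂ : V, x₁ ∈ L → x₂ ∈ L → ∃ x ∈ L, x ≠ 0 ∧ B x x₁ = 0 ∧ B x x₂ = 0 := by
    intro x₁ x₂ h1 h2
    by_contra hne
    push Not at hne
    let φ : L → Fx × Fx := fun x => (⟨B x.1 x₁, hLreal _ x.2 _ h1⟩, ⟨B x.1 x₂, hLreal _ x.2 _ h2⟩)
    have hinj : Function.Injective φ := fun x y e => by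
      by_contra hxy
      refine hne (x.1 - y.1) (L.sub_mem x.2 y.2) (fun e0 => hxy (Subtype.ext (sub_eq_zero.1 e0))) ?_ ?_
      · rw [h.sub_left, sub_eq_zero]; exact congrArg Subtype.val (congrArg Prod.fst e :)
      · rw [h.sub_left, sub_eq_zero]; exact congrArg Subtype.val (congrArg Prod.snd e :)
    have := Nat.card_le_card_of_injective φ hinj
    rw [hcard, Nat.card_prod, hFx] at this
    have := Nat.pow_lt_pow_right (show 1 < q by omega) (show 2 < 3 by omega)
    rw [sq] at this
    omega
  -- an isotropic vector of the real form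
  obtain ⟨v, hvL, hv0, hvv⟩ : ∃ v ∈ L, v ≠ 0 ∧ B v v = 0 := by
    by_cases h2 : (2 : F) = 0
    · obtain ⟨x, hx0, hxx⟩ := hkerone (fun x => ⟨B x.1 x.1, h.symm _ _⟩) fun x y => by
        show B (x.1 + y.1) (x.1 + y.1) = B x.1 x.1 + B y.1 y.1
        rw [h.add_left, h.add_right, h.add_right, show B y.1 x.1 = B x.1 y.1 by
          rw [← hLreal _ x.2 _ y.2, h.symm]]
        linear_combination (B x.1 y.1) * h2
      exact ⟨x, x.2, hx0, hxx⟩
    · by_contra hne
      push Not at hne
      have hb0 : b 0 ≠ 0 := hind.ne_zero 0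
      set x₁ := b 0
      have hx₁ : x₁ ∈ L := hWL _ (hb 0)
      have hn₁ := hne x₁ hx₁ hb0
      obtain ⟨x₂, hx₂, hx₂0, e21, -⟩ := hkertwo x₁ x₁ hx₁ hx₁
      have hn₂ := hne x₂ hx₂ hx₂0
      obtain ⟨x₃, hx₃, hx₃0, e31, e32⟩ := hkertwo x₁ x₂ hx₁ hx₂
      have hn₃ := hne x₃ hx₃ hx₃0
      have : Fintype Fx := Fintype.ofFinite _
      have himg : ∀ ν : F, ν ≠ 0 → ∀ ρ : F,
          Fintype.card Fx + 1 ≤ 2 * ((Finset.univ : Finset Fx).image fun a => ρ + ν * a.1 * a.1).card := by
        intro ν hν ρ
        set f : Fx → F := fun a => ρ + ν * a.1 * a.1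
        let z : Fx := ⟨0, map_zero _⟩
        have h1 : ((Finset.univ : Finset Fx).erase z).card ≤ 2 * (((Finset.univ : Finset Fx).erase z).image f).card := by
          refine Finset.card_le_mul_card_image _ _ fun y hy => ?_
          obtain ⟨a, -, rfl⟩ := Finset.mem_image.1 hy
          refine (Finset.card_le_card (t := {a, ⟨-a.1, by rw [map_neg, a.2]⟩}) fun c hc => ?_).trans
            Finset.card_le_two
          have e : ν * ((c.1 - a.1) * (c.1 + a.1)) = 0 := by
            have := (Finset.mem_filter.1 hc).2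
            simp only [f, add_right_inj] at this
            linear_combination this
          rcases mul_eq_zero.1 ((mul_eq_zero.1 e).resolve_left hν) with e' | e'
          · simp [Subtype.ext (sub_eq_zero.1 e')]
          · rw [Finset.mem_insert, Finset.mem_singleton]
            exact Or.inr (Subtype.ext (eq_neg_of_add_eq_zero_left e'))
        have h2' : (insert ρ (((Finset.univ : Finset Fx).erase z).image f)) ⊆ Finset.univ.image f := by
          refine Finset.insert_subset ?_ (Finset.image_subset_image (Finset.erase_subset _ _))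
          exact Finset.mem_image.2 ⟨z, Finset.mem_univ _, by simp [f, z]⟩
        have h3 := Finset.card_le_card h2'
        rw [Finset.card_insert_of_notMem] at h3
        · rw [Finset.card_erase_of_mem (Finset.mem_univ _), Finset.card_univ] at h1
          omega
        · intro hmem
          obtain ⟨a, ha, e⟩ := Finset.mem_image.1 hmem
          simp only [f, add_eq_left, mul_eq_zero, hν, false_or, or_self] at e
          exact (Finset.ne_of_mem_erase ha) (Subtype.ext e)
      have hA := himg (B x₁ x₁) hn₁ 0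
      have hB := himg (-B x₂ x₂) (neg_ne_zero.2 hn₂) (-B x₃ x₃)
      have hsub : ∀ ν ρ : F, σ ν = ν → σ ρ = ρ → ((Finset.univ : Finset Fx).image fun a => ρ + ν * a.1 * a.1)
          ⊆ (Finset.univ : Finset Fx).image Subtype.val := fun ν ρ hν hρ y hy => by
        obtain ⟨a, -, rfl⟩ := Finset.mem_image.1 hy
        exact Finset.mem_image.2 ⟨⟨_, by rw [map_add, map_mul, map_mul, hν, hρ, a.2]⟩, Finset.mem_univ _, rfl⟩
      have hdis : ¬Disjoint ((Finset.univ : Finset Fx).image fun a => 0 + B x₁ x₁ * a.1 * a.1)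
          ((Finset.univ : Finset Fx).image fun a => -B x₃ x₃ + -B x₂ x₂ * a.1 * a.1) := fun hd => by
        have h5 := Finset.card_le_card (Finset.union_subset (hsub _ _ (h.symm x₁ x₁) (map_zero _))
          (hsub _ _ (by rw [map_neg, h.symm x₂ x₂]) (by rw [map_neg, h.symm x₃ x₃])))
        rw [Finset.card_union_of_disjoint hd,
          Finset.card_image_of_injective _ Subtype.val_injective, Finset.card_univ] at h5
        simp only [Fx] at h5 hA hB
        omega
      obtain ⟨y, hy1, hy2⟩ := Finset.not_disjoint_iff.1 hdis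
      obtain ⟨a, -, ha⟩ := Finset.mem_image.1 hy1
      obtain ⟨c, -, hc⟩ := Finset.mem_image.1 hy2
      set x := a.1 • x₁ + c.1 • x₂ + x₃
      have e12 : B x₁ x₂ = 0 := by rw [← h.symm, e21, map_zero]
      have e13 : B x₁ x₃ = 0 := by rw [← h.symm, e31, map_zero]
      have e23 : B x₂ x₃ = 0 := by rw [← h.symm, e32, map_zero]
      have hxx : B x x = 0 := by
        simp only [x, h.add_left, h.add_right, h.smul_left, h.smul_right, a.2, c.2, e12, e13, e23, e21, e31, e32]
        linear_combination ha - hc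
      have hx0 : x ≠ 0 := fun e0 => hn₃ (by
        have : B x x₃ = 0 := by rw [e0, h.zero_left]
        simpa [x, h.add_left, h.smul_left, e13, e23] using this)
      exact hne x (L.add_mem (L.add_mem (hLsmul _ hx₁ _ a.2) (hLsmul _ hx₂ _ c.2)) hx₃) hx0 hxx
  obtain ⟨i, hi⟩ : ∃ i, B v (b i) ≠ 0 := by
    by_contra hall; push Not at hall; exact hv0 (hzero v hall)
  set f := (B v (b i))⁻¹ • b i with hf
  have hfs : σ (B v (b i))⁻¹ = (B v (b i))⁻¹ := by rw [map_inv₀, hvL _ (hb i)]
  have hfL : f ∈ L := hLsmul _ (hWL _ (hb i)) _ hfs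
  have hvf : B v f = 1 := by rw [hf, h.smul_right, hfs, inv_mul_cancel₀ hi]
  have hfv : B f v = 1 := by rw [← h.symm, hvf, map_one]
  obtain ⟨d, hdL, hd0, hdv, hdf⟩ := hkertwo v f hvL hfL
  have hvd : B v d = 0 := by rw [← h.symm, hdv, map_zero]
  have hfd : B f d = 0 := by rw [← h.symm, hdf, map_zero]
  have hind' : LinearIndependent F ![v, f, d] := by
    rw [Fintype.linearIndependent_iff]
    intro c hc
    simp only [Fin.sum_univ_three, Matrix.cons_val_zero, Matrix.cons_val_one, Matrix.head_cons,
      Matrix.cons_val_two, Matrix.tail_cons] at hc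
    have h1 := congrArg (fun y => B y v) hc
    have h2 := congrArg (fun y => B y f) hc
    simp only [h.add_left, h.smul_left, h.zero_left, hvv, hfv, hdv, hvf, hdf, mul_zero, mul_one, add_zero,
      zero_add] at h1 h2
    rw [h1, zero_mul, add_zero] at h2
    rw [h1, h2, zero_smul, zero_smul, zero_add, zero_add, smul_eq_zero, or_iff_left hd0] at hc
    intro j
    fin_cases j
    · exact h2
    · exact h1
    · exact hc
  have hspan' : Submodule.span F (Set.range ![v, f, d]) = ⊤ :=
    hind'.span_eq_top_of_card_eq_finrank (by simp)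
  have hgen : ∀ y : V, B y v = 0 → B y f = 0 → B y d = 0 → y = 0 := fun y h1 h2 h3 => h.nondeg y fun z => by
    obtain ⟨c, rfl⟩ := (Submodule.mem_span_range_iff_exists_fun F).1 (hspan' ▸ Submodule.mem_top (x := z))
    simp [Fin.sum_univ_three, h.add_right, h.smul_right, h1, h2, h3]
  have hdd : B d d ≠ 0 := fun e => hd0 (hgen d hdv hdf e)
  -- coordinates in the adapted basis
  set φ := B f f with hφ
  set ν := B d d with hν
  have hcoord : ∀ x ∈ L, x = (B x f - B x v * φ) • v + B x v • f + (B x d / ν) • d := by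
    intro x hx
    refine sub_eq_zero.1 (hgen _ ?_ ?_ ?_)
    · simp only [h.sub_left, h.add_left, h.smul_left, hvv, hfv, hdv]; ring
    · simp only [h.sub_left, h.add_left, h.smul_left, hvf, hdf]; ring
    · simp only [h.sub_left, h.add_left, h.smul_left, hvd, hfd, ← hν]
      field_simp
      ring
  have hnormL : ∀ x ∈ L, B x x = 2 * (B x f - B x v * φ) * B x v + B x v * B x v * φ
      + (B x d / ν) * (B x d / ν) * ν := by
    intro x hx
    have h1 := hLreal x hx v hvL
    have h2 := hLreal x hx f hfL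
    have h3 := hLreal x hx d hdL
    have hsφ : σ φ = φ := h.symm f f
    have hsν : σ ν = ν := h.symm d d
    conv_lhs => rw [hcoord x hx]
    simp only [h.add_left, h.add_right, h.smul_left, h.smul_right, hvv, hfv, hdv, hvf, hdf, hvd, hfd,
      map_sub, map_div₀, map_mul, h1, h2, h3, hsφ, hsν, ← hν, ← hφ]
    ring
  let N := {x : V // x ∈ L ∧ x ≠ 0 ∧ B x x = 0}
  let P := {x : V // x ∈ L ∧ B x v = 1 ∧ B x x = φ}
  have : Fintype N := Fintype.ofFinite _
  have hPcard : Nat.card P ≤ q := by
    by_cases h2 : (2 : F) = 0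
    · refine le_trans (Nat.card_le_card_of_injective
        (fun x : P => (⟨B x.1 f, hLreal _ x.2.1 _ hfL⟩ : Fx)) fun x y e => ?_) hFx.le
      have e' : B x.1 f = B y.1 f := congrArg Subtype.val e
      have hz : ∀ z : P, B z.1 d / ν = 0 := fun z => by
        have := hnormL z.1 z.2.1
        rw [z.2.2.2, z.2.2.1] at this
        have h0 : (B z.1 d / ν) * (B z.1 d / ν) * ν = 0 := by
          linear_combination -this - (B z.1 f - φ) * h2
        rcases mul_eq_zero.1 h0 with h' | h'
        · exact (mul_self_eq_zero.1 h')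
        · exact absurd h' hdd
      exact Subtype.ext (by rw [hcoord x.1 x.2.1, hcoord y.1 y.2.1, x.2.2.1, y.2.2.1, e', hz x, hz y])
    · refine le_trans (Nat.card_le_card_of_injective
        (fun x : P => (⟨B x.1 d, hLreal _ x.2.1 _ hdL⟩ : Fx)) fun x y e => ?_) hFx.le
      have e' : B x.1 d = B y.1 d := congrArg Subtype.val e
      have hxn := hnormL x.1 x.2.1
      have hyn := hnormL y.1 y.2.1
      rw [x.2.2.2, x.2.2.1] at hxn
      rw [y.2.2.2, y.2.2.1, ← e'] at hyn
      have : (B x.1 f - B y.1 f) * 2 = 0 := by linear_combination hyn - hxn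
      have ef : B x.1 f = B y.1 f := sub_eq_zero.1 ((mul_eq_zero.1 this).resolve_right h2)
      exact Subtype.ext (by rw [hcoord x.1 x.2.1, hcoord y.1 y.2.1, x.2.2.1, y.2.2.1, e', ef])
  have hNcard : Nat.card N ≤ q ^ 2 - 1 := by
    have hp : ∀ (φ' : N → Fx × Fx), Function.Injective φ' → (∀ x, φ' x ≠ (⟨0, map_zero _⟩, ⟨0, map_zero _⟩)) →
        Nat.card N ≤ q ^ 2 - 1 := by
      intro φ' hinj hne
      have h1 := Nat.card_le_card_of_injective
        (fun o : Option N => o.elim ((⟨0, map_zero _⟩, ⟨0, map_zero _⟩) : Fx × Fx) φ') (by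
          rintro (_ | x) (_ | y) e
          · rfl
          · exact absurd e.symm (hne y)
          · exact absurd e (hne x)
          · exact congrArg some (hinj e))
      rw [Finite.card_option, Nat.card_prod, hFx, ← sq] at h1
      omega
    by_cases h2 : (2 : F) = 0
    · have hγ : ∀ z : N, (B z.1 d / ν) * (B z.1 d / ν) * ν = -(B z.1 v * B z.1 v * φ) := fun z => by
        have := hnormL z.1 z.2.1
        rw [z.2.2.2] at this
        linear_combination -this - ((B z.1 f - B z.1 v * φ) * B z.1 v) * h2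
      refine hp (fun x => (⟨B x.1 v, hLreal _ x.2.1 _ hvL⟩, ⟨B x.1 f, hLreal _ x.2.1 _ hfL⟩)) ?_ ?_
      · intro x y e
        have e1 : B x.1 v = B y.1 v := congrArg Subtype.val (congrArg Prod.fst e :)
        have e2 : B x.1 f = B y.1 f := congrArg Subtype.val (congrArg Prod.snd e :)
        have e3 : B x.1 d / ν = B y.1 d / ν := by
          have h1 := hγ x
          rw [e1, ← hγ y] at h1
          have h0 : (B x.1 d / ν - B y.1 d / ν) * (B x.1 d / ν - B y.1 d / ν) = 0 := by
            have h1' := mul_right_cancel₀ hdd h1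
            linear_combination h1' + (B y.1 d / ν * (B y.1 d / ν - B x.1 d / ν)) * h2
          exact sub_eq_zero.1 (mul_self_eq_zero.1 h0)
        exact Subtype.ext (by rw [hcoord x.1 x.2.1, hcoord y.1 y.2.1, e1, e2, e3])
      · intro x e
        have e1 : B x.1 v = 0 := congrArg Subtype.val (congrArg Prod.fst e :)
        have e2 : B x.1 f = 0 := congrArg Subtype.val (congrArg Prod.snd e :)
        have h1 := hγ x
        rw [e1, zero_mul, zero_mul, neg_zero, mul_eq_zero, or_iff_left hdd, mul_self_eq_zero] at h1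
        exact x.2.2.1 (by rw [hcoord x.1 x.2.1, e1, e2, h1]; simp)
    · have hrel : ∀ z : N, 2 * (B z.1 f - B z.1 v * φ) * B z.1 v + B z.1 v * B z.1 v * φ
          + (B z.1 d / ν) * (B z.1 d / ν) * ν = 0 := fun z => (hnormL z.1 z.2.1).symm.trans z.2.2.2
      have hzero' : ∀ z : N, B z.1 v = 0 → B z.1 d / ν = 0 := fun z e1 => by
        have h1 := hrel z
        rw [e1] at h1
        have h0 : (B z.1 d / ν) * (B z.1 d / ν) * ν = 0 := by linear_combination h1
        exact mul_self_eq_zero.1 ((mul_eq_zero.1 h0).resolve_right hdd)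
      refine hp (fun x => if B x.1 v = 0 then (⟨0, map_zero _⟩, ⟨B x.1 f, hLreal _ x.2.1 _ hfL⟩)
        else (⟨B x.1 v, hLreal _ x.2.1 _ hvL⟩, ⟨B x.1 d, hLreal _ x.2.1 _ hdL⟩)) ?_ ?_
      · intro x y e
        dsimp only at e
        have e1 : B x.1 v = B y.1 v := by
          split_ifs at e with hx hy hy
          · rw [hx, hy]
          · exact absurd (congrArg Subtype.val (congrArg Prod.fst e :)).symm hy
          · exact absurd (congrArg Subtype.val (congrArg Prod.fst e :)) hx
          · exact congrArg Subtype.val (congrArg Prod.fst e :)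
        by_cases hx : B x.1 v = 0
        · rw [if_pos hx, if_pos (e1 ▸ hx)] at e
          have e2 : B x.1 f = B y.1 f := congrArg Subtype.val (congrArg Prod.snd e :)
          exact Subtype.ext (by
            rw [hcoord x.1 x.2.1, hcoord y.1 y.2.1, hzero' x hx, hzero' y (e1 ▸ hx), e1, e2])
        · rw [if_neg hx, if_neg (e1 ▸ hx)] at e
          have e2 : B x.1 d = B y.1 d := congrArg Subtype.val (congrArg Prod.snd e :)
          have h1 := hrel x
          have h2' := hrel y
          rw [← e1, ← e2] at h2'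
          have : (B x.1 f - B y.1 f) * (2 * B x.1 v) = 0 := by linear_combination h1 - h2'
          have ef : B x.1 f = B y.1 f :=
            sub_eq_zero.1 ((mul_eq_zero.1 this).resolve_right (mul_ne_zero h2 hx))
          exact Subtype.ext (by rw [hcoord x.1 x.2.1, hcoord y.1 y.2.1, e1, e2, ef])
      · intro x e
        by_cases hx : B x.1 v = 0
        · rw [if_pos hx] at e
          have e2 : B x.1 f = 0 := congrArg Subtype.val (congrArg Prod.snd e :)
          exact x.2.2.1 (by rw [hcoord x.1 x.2.1, hx, e2, hzero' x hx]; simp)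
        · rw [if_neg hx] at e
          exact hx (congrArg Subtype.val (congrArg Prod.fst e :))
  -- the order of the stabiliser
  have hiM : ∀ g : M, g.1 ∈ biIsoGroup B := fun g => uGroup_le _ (hM g.2)
  let toN : M → N := fun g => ⟨g.1 v, hLinv _ g.2 _ hvL, fun e => hv0 (g.1.map_eq_zero_iff.1 e),
    by rw [hiM g, hvv]⟩
  let rep : N → M := fun n => if hn : ∃ g, toN g = n then hn.choose else 1
  have hrep : ∀ g : M, (rep (toN g)).1 v = g.1 v := fun g => by
    have hn : ∃ g', toN g' = toN g := ⟨g, rfl⟩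
    simp only [rep, dif_pos hn]
    exact congrArg Subtype.val hn.choose_spec
  have hstab : ∀ g : M, g.1 v = v → g.1 f ∈ L ∧ B (g.1 f) v = 1 ∧ B (g.1 f) (g.1 f) = φ :=
    fun g e => ⟨hLinv _ g.2 _ hfL, by conv_lhs => rw [← e, hiM g, hfv], hiM g f f⟩
  have hsv : ∀ g : M, ((rep (toN g))⁻¹ * g).1 v = v := fun g => by
    show (rep (toN g)).1.symm (g.1 v) = v
    rw [LinearEquiv.symm_apply_eq, hrep]
  have hfaith : ∀ g : M, g.1 v = v → g.1 f = f → g = 1 := by
    intro g e1 e2
    have hgd : g.1 d = (B (g.1 d) d / ν) • d := eq_smul_of_orth hF hgen hdv hdf hdd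
      (by conv_lhs => rw [← e1, hiM g, hdv]) (by conv_lhs => rw [← e2, hiM g, hdf])
    set c := B (g.1 d) d / ν
    let bs := Module.Basis.mk hind' hspan'.ge
    have hbs : ∀ j, bs j = ![v, f, d] j := fun j => Module.Basis.mk_apply _ _ j
    have hdet : LinearMap.det g.1.toLinearMap = 1 := by
      rw [← LinearEquiv.coe_det, det_eq_one_of_mem_uGroup (hermSpace_std hF 3) (hM g.2), Units.val_one]
    have hmat : LinearMap.toMatrix bs bs g.1.toLinearMap = Matrix.diagonal ![1, 1, c] := by
      have hcol : ∀ j, g.1 (bs j) = (![1, 1, c] j : F) • bs j := fun j => by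
        rw [hbs]
        fin_cases j
        · simpa using e1
        · simpa using e2
        · simpa using hgd
      ext i j
      rw [LinearMap.toMatrix_apply]
      show bs.repr (g.1 (bs j)) i = _
      rw [hcol, map_smul, Module.Basis.repr_self, Matrix.diagonal_apply]
      by_cases e : i = j
      · subst e; simp
      · simp [e]
    rw [← LinearMap.det_toMatrix bs, hmat, Matrix.det_diagonal] at hdet
    simp [Fin.prod_univ_three] at hdet
    refine Subtype.ext (LinearEquiv.toLinearMap_injective (bs.ext fun j => ?_))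
    show g.1 (bs j) = bs j
    rw [hbs]
    fin_cases j
    · simpa using e1
    · simpa using e2
    · simpa [hdet] using hgd
  let Φ : M → N × P := fun g =>
    (toN g, ⟨((rep (toN g))⁻¹ * g).1 f, hstab _ (hsv g)⟩)
  have hΦ : Function.Injective Φ := by
    intro g g' e
    have e1 : toN g = toN g' := congrArg Prod.fst e
    have e2 : ((rep (toN g))⁻¹ * g).1 f = ((rep (toN g'))⁻¹ * g').1 f :=
      congrArg Subtype.val (congrArg Prod.snd e :)
    rw [← e1] at e2
    have hv1 := hsv g
    have hv2 := hsv g'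
    rw [← e1] at hv2
    set k := (rep (toN g))⁻¹ * g
    set k' := (rep (toN g))⁻¹ * g'
    have hone := hfaith (k'⁻¹ * k)
      (show k'.1.symm (k.1 v) = v by rw [LinearEquiv.symm_apply_eq, hv1, hv2])
      (show k'.1.symm (k.1 f) = f by rw [LinearEquiv.symm_apply_eq, e2])
    exact mul_left_cancel (inv_mul_eq_one.1 hone).symm
  have hMcard : Nat.card M ≤ (q ^ 2 - 1) * q := by
    refine (Nat.card_le_card_of_injective Φ hΦ).trans ?_
    rw [Nat.card_prod]
    exact Nat.mul_le_mul hNcard hPcard
  -- the order of the unitary group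
  have hG : q ^ 3 * (q ^ 3 + 1) * (q ^ 2 - 1) ≤ Nat.card (suV hF 3) := by
    obtain ⟨e, φe, -, -⟩ := exists_suEquiv hF 1
    have h1 : Nat.card (suV hF 3) = Nat.card (suE hF 1) := by
      have e1 : Nat.card (Cfsg.SU 3 F q) = Nat.card (suV hF 3) := by
        rw [suV, ← range_suLinear hF 3]
        exact Nat.card_congr (MonoidHom.ofInjective (suLinear_injective (F := F) (q := q) 3)).toEquiv
      rw [← e1]
      exact Nat.card_congr φe.toEquiv
    rw [h1, card_eq_orbit_mul (suE hF 1), vecOrbit_top hF le_rfl, fix_card_top,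
      show pointNum q (1 + 2) = q ^ 3 + 1 by simp [pointNum]; ring]
    have hpos : 0 < Nat.card (suV hF 1) := Nat.card_pos
    calc q ^ 3 * (q ^ 3 + 1) * (q ^ 2 - 1) = (q ^ 2 - 1) * (q ^ 3 + 1) * (1 * q ^ (2 * 1) * q) := by ring
      _ ≤ _ := Nat.mul_le_mul_left _ (Nat.mul_le_mul_right _ (Nat.mul_le_mul_right _ hpos))
  have hi := Subgroup.card_mul_index (M.subgroupOf (suV hF 3))
  rw [Nat.card_congr (Subgroup.subgroupOfEquivOfLe hM).toEquiv] at hi
  change _ * M.relIndex (suV hF 3) = _ at hi
  have hpos : 0 < (q ^ 2 - 1) * q := by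
    have : 4 ≤ q ^ 2 := by nlinarith
    exact Nat.mul_pos (by omega) (by omega)
  refine Nat.le_of_mul_le_mul_left ?_ hpos
  calc (q ^ 2 - 1) * q * (q ^ 2 * (q ^ 3 + 1)) = q ^ 3 * (q ^ 3 + 1) * (q ^ 2 - 1) := by ring
    _ ≤ Nat.card (suV hF 3) := hG
    _ = Nat.card M * M.relIndex (suV hF 3) := hi.symm
    _ ≤ _ := Nat.mul_le_mul_right _ hMcard

end Cfsg.Agent.Lib.MinIndexUnitary
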