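import Cfsg.Agent.Lib.MinIndexUnitary.Step
import Cfsg.Agent.Lib.PSUAut.Linear

/-!
# Minimal index in unitary groups: point stabilisers in dimension three
-/

set_option autoImplicit false
set_option linter.unusedSectionVars false

namespace Cfsg.Agent.Lib.MinIndexUnitary

open Cfsg.Agent.Lib.Classical Cfsg.Agent.Lib.MinDegree

variable {F : Type*} [Field F] [Fintype F] {q : ℕ} (hF : Fintype.card F = q ^ 2)

local notation "σ" => Forms.qPowHom hF
local notation "V" => (Fin 3 → F)
local notation "B" => Cfsg.hermForm 3 F q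

/-- Representatives of distinct cosets bound the index. -/
theorem card_le_relIndex {G : Type*} [Group G] [Finite G] {M K : Subgroup G} {ι : Type*} (f : ι → G)
    (hf : ∀ i, f i ∈ K) (hsep : ∀ i j, (f i)⁻¹ * f j ∈ M → i = j) : Nat.card ι ≤ M.relIndex K := by
  refine Nat.card_le_card_of_injective
    (fun i => (QuotientGroup.mk (⟨f i, hf i⟩ : K) : K ⧸ M.subgroupOf K)) fun i j e => ?_
  have := QuotientGroup.eq.1 e
  exact hsep i j (by simpa [Subgroup.mem_subgroupOf] using this)

include hF in
/-- The stabiliser of an isotropic point in dimension three has index `q³ + 1` or more. -/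
theorem iso_stab_index {M : Subgroup (V ≃ₗ[F] V)} {r : V} (hr : r ≠ 0) (hrr : B r r = 0)
    (hfix : ∀ g ∈ M, ∃ a : F, g r = a • r) : q ^ 3 + 1 ≤ M.relIndex (suV hF 3) := by
  classical
  have h := hermSpace_std hF 3
  have hq := two_le_q hF
  let S := {v : V // B v v = 0 ∧ v ≠ 0}
  choose g hg hgv using fun v : S => suV_move hF (m := 3) le_rfl hr hrr v.2.2 v.2.1
  let ι := (suV hF 3) ⧸ M.subgroupOf (suV hF 3)
  have : Fintype ι := Fintype.ofFinite _
  let Φ : S → ι := fun v => QuotientGroup.mk ⟨g v, hg v⟩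
  have hfib : ∀ y ∈ Finset.univ.image Φ, ({x ∈ (Finset.univ : Finset S) | Φ x = y}).card ≤ q ^ 2 - 1 := by
    intro y hy
    obtain ⟨v₀, -, rfl⟩ := Finset.mem_image.1 hy
    have key : ∀ v : S, Φ v = Φ v₀ → ∃ a : Fˣ, v.1 = (a : F) • v₀.1 := by
      intro v e
      have hM := QuotientGroup.eq.1 e
      rw [Subgroup.mem_subgroupOf] at hM
      obtain ⟨a, ha⟩ := hfix _ hM
      have e1 : (g v).symm (g v₀ r) = a • r := ha
      rw [hgv, LinearEquiv.symm_apply_eq, map_smul, hgv] at e1
      have ha0 : a ≠ 0 := fun e0 => v₀.2.2 (by rw [e1, e0, zero_smul])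
      exact ⟨(Units.mk0 a ha0)⁻¹, by
        rw [e1, smul_smul, Units.val_inv_eq_inv_val, Units.val_mk0, inv_mul_cancel₀ ha0, one_smul]⟩
    choose a ha using key
    rw [← natCard_units_field hF, ← Nat.card_eq_finsetCard]
    refine Nat.card_le_card_of_injective (fun x => a x.1 (Finset.mem_filter.1 x.2).2) fun x x' e => ?_
    refine Subtype.ext (Subtype.ext ?_)
    have e' : a x.1 (Finset.mem_filter.1 x.2).2 = a x'.1 (Finset.mem_filter.1 x'.2).2 := e
    rw [ha x.1 (Finset.mem_filter.1 x.2).2, ha x'.1 (Finset.mem_filter.1 x'.2).2, e']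
  have h1 := Finset.card_le_mul_card_image (s := (Finset.univ : Finset S)) (f := Φ) (q ^ 2 - 1) hfib
  have hS : Fintype.card S = (q ^ 2 - 1) * pointNum q 3 := by
    have h2 := isoCount_eq hF 3
    rw [Nat.card_eq_fintype_card, Fintype.card_subtype] at h2
    have h3 : (Finset.univ.filter fun v : V => B v v = 0 ∧ v ≠ 0)
        = (Finset.univ.filter fun v : V => B v v = 0).erase 0 := by
      ext v; simp [and_comm]
    rw [Fintype.card_subtype, h3, Finset.card_erase_of_mem (by simp [h.zero_left]), h2, Nat.add_sub_cancel]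
  have h4 : (Finset.univ.image Φ).card ≤ M.relIndex (suV hF 3) := by
    refine (Finset.card_le_univ _).trans (le_of_eq ?_)
    rw [← Nat.card_eq_fintype_card]
    rfl
  rw [Finset.card_univ, hS, show pointNum q 3 = q ^ 3 + 1 by simp [pointNum]; ring] at h1
  have hpos : 0 < q ^ 2 - 1 := by
    have : 4 ≤ q ^ 2 := by nlinarith
    omega
  exact le_trans (Nat.le_of_mul_le_mul_left h1 hpos) h4

include hF in
/-- The stabiliser of an anisotropic point in dimension three has index at least `q² + 2`. -/
theorem aniso_stab_index {M : Subgroup (V ≃ₗ[F] V)} {e : V} (hee : B e e ≠ 0)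
    (hfix : ∀ g ∈ M, ∃ a : F, g e = a • e) : q ^ 2 + 2 ≤ M.relIndex (suV hF 3) := by
  classical
  have h := hermSpace_std hF 3
  have hq := two_le_q hF
  have he0 : e ≠ 0 := fun e0 => hee (by rw [e0, h.zero_left])
  obtain ⟨f, hf0, hfe⟩ : ∃ f : V, f ≠ 0 ∧ B f e = 0 := by
    let L : V →ₗ[F] F :=
      { toFun := fun v => B v e
        map_add' := fun v v' => h.add_left _ _ _
        map_smul' := fun s v => h.smul_left _ _ _ }
    have hker : L.ker ≠ ⊥ := fun e => by
      have := LinearMap.finrank_le_finrank_of_injective (LinearMap.ker_eq_bot.1 e)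
      rw [Module.finrank_self, Module.finrank_fintype_fun_eq_card, Fintype.card_fin] at this
      omega
    obtain ⟨g, hg, hg0⟩ := Submodule.exists_mem_ne_zero_of_ne_bot hker
    exact ⟨g, hg0, hg⟩
  obtain ⟨r, hr, hre, hfr⟩ := exists_iso_orth hF le_rfl hee hf0 hfe
  have hr0 : r ≠ 0 := fun e0 => hfr (by rw [e0, h.zero_right])
  obtain ⟨r', hr', hr'e, hrr'⟩ := exists_iso_orth hF le_rfl hee hr0 hre
  have mk : ∀ (p : V), B p p = 0 → B p e = 0 → ∀ s : F,
      ∃ g ∈ suV hF 3, g e = e + s • p := by
    intro p hp hpe s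
    have hep : B e p = 0 := by rw [← h.symm, hpe, map_zero]
    set l := σ (-s / B e e)
    obtain ⟨c, hc⟩ := h.exists_fill (l • e)
    refine ⟨UnitGen.ue h p (l • e) c, UnitGen.ue_mem_uGroup _ _ _, ?_⟩
    rw [UnitGen.ue_apply hp (by rw [h.smul_left, hep, mul_zero]) hc, hep, mul_zero, zero_smul, add_zero,
      h.smul_right, h.invol, div_mul_cancel₀ _ hee, zero_sub, neg_neg]
  choose g₁ hg₁ hg₁e using mk r hr hre
  choose g₂ hg₂ hg₂e using mk r' hr' hr'e
  let vec : F ⊕ Fˣ → V := Sum.elim (fun s => e + s • r) (fun s => e + (s : F) • r')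
  let g : F ⊕ Fˣ → (V ≃ₗ[F] V) := Sum.elim g₁ fun s => g₂ s
  have hgv : ∀ i, g i e = vec i := fun i => by
    rcases i with s | s
    · exact hg₁e s
    · exact hg₂e s
  have hline : ∀ i j (a : F), vec j = a • vec i → i = j := by
    have hre' : B r e = 0 := hre
    have hr'e' : B r' e = 0 := hr'e
    have hindep : ∀ s s' : F, s • r = s' • r' → s = 0 ∧ s' = 0 := by
      intro s s' e0
      have h1 := congrArg (fun v => B r v) e0
      simp only [h.smul_right, hr, mul_zero] at h1
      have hs' : s' = 0 := (map_eq_zero σ).1 ((mul_eq_zero.1 h1.symm).resolve_right hrr')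
      rw [hs', zero_smul, smul_eq_zero] at e0
      exact ⟨e0.resolve_right hr0, hs'⟩
    intro i j a e0
    have ha : a = 1 := by
      have h1 := congrArg (fun v => B v e) e0
      rcases i with s | s <;> rcases j with s' | s' <;>
        simp only [vec, Sum.elim_inl, Sum.elim_inr, h.add_left, h.smul_left, hre, hr'e, mul_zero,
          add_zero] at h1 <;> exact mul_right_cancel₀ hee (h1.symm.trans (one_mul _).symm)
    rw [ha, one_smul] at e0
    rcases i with s | s <;> rcases j with s' | s' <;>
      simp only [vec, Sum.elim_inl, Sum.elim_inr, add_right_inj] at e0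
    · exact congrArg Sum.inl (smul_left_injective F hr0 e0.symm)
    · exact absurd (hindep _ _ e0.symm).2 s'.ne_zero
    · exact absurd (hindep _ _ e0).2 s.ne_zero
    · refine congrArg Sum.inr (Units.ext (smul_left_injective F (fun e1 => ?_) e0.symm))
      exact hrr' (by rw [e1, h.zero_right])
  have hcard : q ^ 2 + 2 ≤ Nat.card (F ⊕ Fˣ) := by
    rw [Nat.card_sum, natCard_field hF, natCard_units_field hF]
    have : 4 ≤ q ^ 2 := by nlinarith
    omega
  refine le_trans hcard (card_le_relIndex (G := V ≃ₗ[F] V) g (fun i => ?_) fun i j hij => ?_)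
  · rcases i with s | s
    · exact hg₁ s
    · exact hg₂ _
  · obtain ⟨a, ha⟩ := hfix _ hij
    refine hline i j a ?_
    have e1 : (g i).symm (g j e) = a • e := ha
    rw [LinearEquiv.symm_apply_eq, map_smul, hgv, hgv] at e1
    exact e1

include hF in
/-- An element fixing an isotropic point and moving a real form of an orthogonal anisotropic vector. -/
theorem exists_torus_move {r w : V} (hr : r ≠ 0) (hrr : B r r = 0) (hwr : B w r = 0) (hww : B w w ≠ 0) :
    ∃ g ∈ suV hF 3, (∃ a : F, g r = a • r) ∧ σ (B (g w) w) ≠ B (g w) w := by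
  classical
  have h := hermSpace_std hF 3
  have hq := two_le_q hF
  have hrw : B r w = 0 := by rw [← h.symm, hwr, map_zero]
  obtain ⟨f, hff, hfw, hrf⟩ := exists_iso_orth hF le_rfl hww hr hrw
  set f' := σ (B r f)⁻¹ • f
  have hp : PSUAut.IsHyp B r f' := ⟨hrr, by simp only [f', h.smul_left, h.smul_right, hff]; ring,
    by simp only [f', h.smul_right, h.invol, inv_mul_cancel₀ hrf]⟩
  have hwf : B w f' = 0 := by
    simp only [f', h.smul_right, show B w f = 0 by rw [← h.symm, hfw, map_zero], mul_zero]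
  obtain ⟨t, ht0, ht⟩ : ∃ t : F, t ≠ 0 ∧ t * t ≠ σ t * σ t := by
    by_contra hall
    push Not at hall
    let P : Polynomial F := Polynomial.X ^ (2 * (q - 1)) - 1
    have hP : P.natDegree = 2 * (q - 1) := by
      simp only [P]; exact Polynomial.natDegree_X_pow_sub_C
    have hP0 : P ≠ 0 := fun e => by rw [e, Polynomial.natDegree_zero] at hP; omega
    have hroots : (Finset.univ.erase (0 : F)) ⊆ P.roots.toFinset := fun x hx => by
      have hx0 : x ≠ 0 := Finset.ne_of_mem_erase hx
      rw [Multiset.mem_toFinset, Polynomial.mem_roots hP0]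
      have h1 := hall x hx0
      simp only [Forms.qPowHom_apply] at h1
      have hq1 : x ^ q = x ^ (q - 1) * x := by
        conv_lhs => rw [show q = q - 1 + 1 by omega, pow_succ]
      rw [hq1] at h1
      have h2 : (x ^ (2 * (q - 1)) - 1) * (x * x) = 0 := by
        rw [mul_comm 2, pow_mul, sub_mul]; linear_combination -h1
      simpa [P] using (mul_eq_zero.1 h2).resolve_right (mul_ne_zero hx0 hx0)
    have h1 := (Finset.card_le_card hroots).trans ((Multiset.toFinset_card_le _).trans
      ((Polynomial.card_roots' P).trans hP.le))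
    rw [Finset.card_erase_of_mem (Finset.mem_univ _), Finset.card_univ, hF] at h1
    have h2 : 2 * q ≤ q ^ 2 := by rw [sq]; exact Nat.mul_le_mul_right q hq
    omega
  have hσt : σ t ≠ 0 := (map_ne_zero σ).2 ht0
  have hμ : σ t / t * (σ t / t) ^ q = 1 := by
    rw [← Forms.qPowHom_apply hF, map_div₀, h.invol]
    field_simp
  have hab : t * ((σ t)⁻¹) ^ q = 1 := by
    rw [← Forms.qPowHom_apply hF, map_inv₀, h.invol, mul_inv_cancel₀ ht0]
  set M₁ := PSUAut.hypMat q r f' t (σ t)⁻¹ * PSUAut.homMat q w (σ t / t)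
  have hdet : M₁.det = 1 := by
    rw [Matrix.det_mul, PSUAut.det_hypMat hF hp, PSUAut.det_homMat hF hww]
    field_simp
  have hpres : ∀ x y, B (M₁.mulVec x) (M₁.mulVec y) = B x y := fun x y => by
    rw [← Matrix.mulVec_mulVec, ← Matrix.mulVec_mulVec, PSUAut.hypMat_preserves hF hp hab,
      PSUAut.homMat_preserves hF hww hμ]
  set A := Forms.suMk hF M₁ hdet hpres
  have hmem : suLinear 3 F q A ∈ suV hF 3 := by
    rw [suV, ← range_suLinear hF 3]; exact ⟨A, rfl⟩
  have happ : ∀ x, suLinear 3 F q A x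
      = (PSUAut.hypMat q r f' t (σ t)⁻¹).mulVec ((PSUAut.homMat q w (σ t / t)).mulVec x) := fun x => by
    rw [suLinear_apply, Forms.suMk_val, Matrix.mulVec_mulVec]
  refine ⟨_, hmem, ⟨t, ?_⟩, ?_⟩
  · rw [happ, PSUAut.homMat_mulVec, hrw, mul_zero, zero_smul, add_zero, PSUAut.hypMat_mulVec, hp.ef,
      hrr, mul_zero, zero_smul, add_zero, mul_one, ← one_smul F r, smul_smul, ← add_smul]
    simp
  · have hgw : suLinear 3 F q A w = (σ t / t) • w := by
      rw [happ, PSUAut.homMat_mulVec, div_mul_cancel₀ _ hww, PSUAut.hypMat_mulVec, h.add_left, h.add_left,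
        h.smul_left, h.smul_left, hwr, hwf, mul_zero, add_zero, mul_zero, mul_zero, zero_smul, add_zero,
        zero_smul, add_zero]
      module
    rw [hgw, h.smul_left, map_mul, h.symm, map_div₀, h.invol]
    intro e
    have h2 := mul_right_cancel₀ hww e
    field_simp at h2
    exact ht (by linear_combination h2)

end Cfsg.Agent.Lib.MinIndexUnitary
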